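import Groth.Agent.ParStd.OpenCellMain
import Groth.Agent.UniRad.TorusCrit
import Groth.Agent.RedLR.Main

/-!
# Opposite Borel subgroups
-/

set_option autoImplicit false
set_option linter.style.haveILetI false
set_option linter.unusedSectionVars false
set_option backward.isDefEq.respectTransparency false
set_option backward.isDefEq.respectTransparency.types false
set_option maxHeartbeats 2000000
set_option synthInstance.maxHeartbeats 400000

universe u

open CategoryTheory Limits MonoidalCategory CartesianMonoidalCategory MonObj AlgebraicGeometry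
open scoped CategoryTheory.Obj

noncomputable section

namespace Groth.Agent.ParStd

open Groth.Agent.HomDiag Groth.Agent.DynPar Groth.Agent.MTBridge Groth.Agent.Chev

variable {S : Scheme.{u}} {G B T : Over S} [GrpObj G] [GrpObj B] [GrpObj T]

/-- Borel subgroups are parabolic. -/
theorem isParabolic_of_isBorel {i : B ⟶ G} (hB : Red.IsBorel i) : Red.IsParabolic i :=
  ⟨hB.1, hB.2.1, hB.2.2.1, fun s => ⟨(hB.2.2.2 s).1, (hB.2.2.2 s).2.1, (hB.2.2.2 s).2.2.1, _, inferInstance, 𝟙 _, by
    rw [Category.id_comp]; exact hB.2.2.2 s⟩⟩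

/-- Transport of a Levi subgroup along an isomorphism. -/
theorem isLevi_of_iso {P L L' : Over S} [GrpObj P] [GrpObj L] [GrpObj L'] {l : L ⟶ P} (hl : Par.IsLevi l)
    (e : L' ≅ L) [IsMonHom e.hom] {l' : L' ⟶ P} (he : e.hom ≫ l = l') : Par.IsLevi l' := by
  subst he
  obtain ⟨hlm, hlmono, ⟨ha, hs, hfib⟩, U, _, u, hu, hiso⟩ := hl
  haveI := hlm; haveI := hlmono; haveI := ha; haveI := hs; haveI := hiso
  haveI : IsIso e.hom.left := inferInstanceAs (IsIso ((Over.forget S).map e.hom))
  refine ⟨inferInstance, mono_comp _ _, ⟨by rw [← Over.w e.hom]; infer_instance, by rw [← Over.w e.hom]; infer_instance,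
    fun s => ?_⟩, U, inferInstance, u, hu, ?_⟩
  · haveI : IsMonHom ((Over.pullback (Red.geomPt s)).mapIso e.symm).hom := by
      haveI : IsMonHom e.symm.hom := inferInstanceAs (IsMonHom e.inv)
      exact inferInstanceAs (IsMonHom ((Over.pullback (Red.geomPt s)).map e.symm.hom))
    exact RedLR.isReductiveOver_of_iso ((Over.pullback (Red.geomPt s)).mapIso e.symm) (hfib s)
  · rw [show (e.hom ≫ l ⊗ₘ u) = (e.hom ⊗ₘ 𝟙 U) ≫ (l ⊗ₘ u) by
      rw [MonoidalCategory.tensorHom_comp_tensorHom, Category.id_comp], Category.assoc]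
    infer_instance

/-- **A maximal torus is a Levi subgroup of a Borel subgroup containing it.** -/
theorem isLevi_torus (hG : Red.IsReductive G) (i : B ⟶ G) (hB : Red.IsBorel i) (t : T ⟶ B) [IsMonHom t]
    (hT : Red.IsMaximalTorus (t ≫ i)) : Par.IsLevi t := by
  have hP := isParabolic_of_isBorel hB
  haveI := hB.1; haveI := hB.2.1
  obtain ⟨L, _, l, tl, hl, htl, -⟩ := exists_levi hG i hP t hT
  haveI := hl.1; haveI := hl.2.1; haveI := hl.2.2.1.1; haveI := hl.2.2.1.2.1
  haveI : Mono i := Over.mono_of_mono_left i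
  haveI : Mono l := hl.2.1
  haveI : IsMonHom tl := MTSplit.isMonHom_of_comp_mono tl l t htl
  haveI : Smooth T.hom := MTImage.smooth_torus hT.2.2.1
  haveI : IsIso tl := ParNorm.isIso_of_geomPts tl fun s => by
    let F := Over.pullback (Red.geomPt s)
    haveI : PreservesLimitsOfShape WalkingCospan F :=
      (Over.mapPullbackAdj (Red.geomPt s)).rightAdjoint_preservesLimits.preservesLimitsOfShape
    obtain ⟨-, -, -, -, hsol, -⟩ := hB.2.2.2 s
    haveI : IsMonHom (F.map l) := inferInstance
    haveI : Mono (F.map l) := inferInstance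
    have hLs := hl.2.2.1.2.2 s
    haveI : IsAffine (F.obj L).left := hLs.1
    haveI : Smooth (F.obj L).hom := hLs.2.1
    haveI : ConnectedSpace (F.obj L).left := hLs.2.2.1
    haveI := Chev.Borel.isSolvable_rp (Chev.Borel.isSolvableGrp_of_mono (F.map l) hsol)
    have hLt : Red.IsTorus (F.obj L) :=
      UniRad.isTorus_of_solvable fun U _ j _ h1 h2 h3 h4 h5 => hLs.2.2.2 U j h1 h2 h3 h4 h5
    haveI : Mono (F.map (l ≫ i)) := inferInstance
    exact hT.2.2.2 s (F.obj L) (F.map (l ≫ i)) (F.map tl) hLt (by rw [← F.map_comp, ← Category.assoc, htl])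
  haveI : IsMonHom (asIso tl).hom := inferInstanceAs (IsMonHom tl)
  exact isLevi_of_iso hl (asIso tl) htl

/-- A parabolic subgroup over an algebraically closed field which is solvable is a Borel subgroup. -/
theorem isBorelOver_of_solvable {k : Type u} [Field k] [IsAlgClosed k] {H P : Over (Spec (CommRingCat.of k))}
    [GrpObj H] [GrpObj P] {p : P ⟶ H} (hP : Red.IsParabolicOver k p) [ConnectedSpace P.left]
    (hsol : Red.IsSolvableGrp P) : Red.IsBorelOver k p := by
  obtain ⟨hpm, hpc, hps, B₁, _, b, hb⟩ := hP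
  haveI := hpm; haveI := hpc
  haveI : Mono p := Over.mono_of_mono_left p
  refine ⟨hpm, hpc, hps, inferInstance, hsol, fun B' _ i' _ f hc' hs' hconn' hsol' hf => ?_⟩
  haveI := hc'
  haveI : Mono i' := Over.mono_of_mono_left i'
  haveI : IsIso (b ≫ f) := hb.2.2.2.2.2 B' i' (b ≫ f) hc' hs' hconn' hsol' (by rw [Category.assoc, hf])
  refine ⟨CategoryTheory.inv (b ≫ f) ≫ b, ?_, by rw [Category.assoc, IsIso.inv_hom_id]⟩
  haveI : Mono f := by
    haveI : Mono (f ≫ i') := by rw [hf]; infer_instance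
    exact mono_of_mono f i'
  rw [← cancel_mono f, Category.id_comp, Category.assoc, Category.assoc, IsIso.inv_hom_id, Category.comp_id]

/-- **Existence of the opposite Borel subgroup.** -/
theorem exists_opposite_borel (hG : Red.IsReductive G) (i : B ⟶ G) (hB : Red.IsBorel i) (t : T ⟶ B) [IsMonHom t]
    (hT : Red.IsMaximalTorus (t ≫ i)) :
    ∃ (B' : Over S) (_ : GrpObj B') (i' : B' ⟶ G) (t' : T ⟶ B'),
      Red.IsBorel i' ∧ t' ≫ i' = t ≫ i ∧ IsPullback t t' i i' := by
  have hP := isParabolic_of_isBorel hB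
  have hl := isLevi_torus hG i hB t hT
  obtain ⟨B', _, i', t', hB', hsq⟩ := exists_opposite hG i hP hl
  refine ⟨B', inferInstance, i', t', ⟨hB'.1, hB'.2.1, hB'.2.2.1, fun s => ?_⟩, hsq.w.symm, hsq⟩
  obtain ⟨c, hc, -, hcQ, hcZ⟩ := exists_geom_opposite hG i hP i' hB' hl hsq s
  haveI := hc
  haveI := isMonHom_negD c
  let F := Over.pullback (Red.geomPt s)
  have hGs := DynPar.isReductive_bc (Red.geomPt s) hG
  haveI : IsAffine (F.obj G).left := (hG.2.2 s).1
  haveI : Smooth (F.obj G).hom := (hG.2.2 s).2.1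
  haveI : ConnectedSpace (F.obj G).left := (hG.2.2 s).2.2.1
  haveI : IsAffineHom (F.obj G).hom := hGs.1
  obtain ⟨U, _, u, hu⟩ := exists_isU (G := F.obj G) (negD c)
  have hz : Red.IsCentralizerOf (negD c) (F.map (t ≫ i)) :=
    DynPar.centralizer_congr hcZ fun B₀ _ f g => (mem_ZSub_negD c).symm
  obtain ⟨d⟩ := exists_leviData hcQ hu hz
  haveI := d.r_hom; haveI := d.l_hom; haveI := d.iu_hom
  obtain ⟨-, hUc, hUn⟩ := field_fibre (negD c) hcQ hu
  haveI := hUc
  have hUs := (smooth_isU hGs.2.1 hcQ hu hz).1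
  haveI := hUs
  haveI := hu.2.1
  haveI : IsAffineHom U.hom := by rw [← Over.w u]; infer_instance
  haveI : IsAffine U.left := isAffine_of_isAffineHom U.hom
  haveI := RedCent.isSolvable_of_noSubtorus (hUn inferInstance)
  haveI := isSolvable_of_retraction d.r d.iu d.l d.s d.rs (Borel.isTorus_bc_scheme T (Red.geomPt s) hT.2.2.1)
  haveI := hcQ.2.1
  haveI : Smooth (F.obj B').hom := MorphismProperty.pullback_snd (P := @Smooth) _ _ hB'.2.2.1
  haveI : IsAffineHom (F.obj B').hom := by rw [← Over.w (F.map i')]; infer_instance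
  haveI : ConnectedSpace (F.obj B').left := ParNorm.connectedSpace_parabolic (hB'.2.2.2 s)
  exact isBorelOver_of_solvable (hB'.2.2.2 s) (Chev.Borel.isSolvableGrp_of_rp (F.obj B'))

end Groth.Agent.ParStd
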