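import Groth.Agent.ParStd.GeneralPosition
import Groth.Agent.ParStd.OppositeBorel
import Groth.Agent.RootBase.Main
import Groth.Agent.S3003

/-!
# Borel subgroups in general position over a base
-/

set_option autoImplicit false
set_option linter.style.haveILetI false
set_option linter.unusedSectionVars false
set_option backward.isDefEq.respectTransparency false
set_option backward.isDefEq.respectTransparency.types false
set_option maxHeartbeats 2000000
set_option synthInstance.maxHeartbeats 400000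

universe u

open CategoryTheory Limits MonoidalCategory CartesianMonoidalCategory MonObj AlgebraicGeometry LieS
open scoped CategoryTheory.Obj

noncomputable section

namespace Groth.Agent.ParStd

open Groth.Agent.HomDiag Groth.Agent.DynPar Groth.Agent.RootSys Groth.Agent.MTBridge

variable {S : Scheme.{u}}

/-- A splitting pulls back. -/
theorem isSplit_comp {V W : Scheme.{u}} (f : V ⟶ S) (e : W ⟶ V) {g : W ⟶ S} (hg : g = e ≫ f) {T : Over S} [GrpObj T]
    {M : Type} [AddCommGroup M] (h : Red.IsSplitTorusWith M (Red.bc f T)) : Red.IsSplitTorusWith M (Red.bc g T) := by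
  subst hg
  obtain ⟨E⟩ := h
  haveI := DynPar.isIso_ej e M
  haveI : IsMonHom (ej e M) := isMonHom_ej e
  exact ⟨bcComp f e T ≪≫ bcMapIso e E ≪≫ (RootBase.grpIso (ej e M)).symm⟩

/-- A group split étale-locally is a torus. -/
theorem isTorus_of_etale_split (T : Over S) [GrpObj T]
    (h : ∀ s : S, ∃ (V : Scheme.{u}) (f : V ⟶ S) (r : ℕ), Etale f ∧ s ∈ Set.range f.base ∧
      Red.IsSplitTorusWith (Fin r → ℤ) (Red.bc f T)) : Red.IsTorus T := by
  choose V f r he hs hT using h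
  haveI := IsZariskiLocalAtSource.sigmaDesc (P := @Etale) he
  haveI : Surjective (Sigma.desc f) := ⟨fun s => by
    obtain ⟨x, hx⟩ := hs s
    exact ⟨Sigma.ι V s x, by rw [← Scheme.Hom.comp_apply, Sigma.ι_desc]; exact hx⟩⟩
  refine ⟨∐ V, Sigma.desc f, inferInstance, inferInstance, fun W hW => TorusLift.exists_qc_lift _ W hW, fun z => ?_⟩
  obtain ⟨⟨i, x⟩, hx⟩ := (sigmaMk V).surjective z
  rw [sigmaMk_mk] at hx
  refine ⟨(Sigma.ι V i).opensRange, ⟨x, hx⟩, r i, ?_⟩
  let e : ((Sigma.ι V i).opensRange : Scheme.{u}) ⟶ V i := (Sigma.ι V i).isoOpensRange.inv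
  have he' : (Sigma.ι V i).opensRange.ι ≫ Sigma.desc f = e ≫ f i := by
    conv_rhs => rw [← Sigma.ι_desc f i, ← Category.assoc]
    congr 1
    exact (Scheme.Hom.isoOpensRange_inv_comp (Sigma.ι V i)).symm
  exact isSplit_comp (f i) e he' (hT i)

/-- A group with tori as geometric fibres has tori as geometric fibres after any change of base. -/
theorem isTorus_geomFibre_bc {T : Over S} [GrpObj T] (h : ∀ s : S, Red.IsTorus (Red.geomFibre s T))
    {V : Scheme.{u}} (v : V ⟶ S) (w : V) : Red.IsTorus (Red.geomFibre w (Red.bc v T)) := by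
  obtain ⟨τ, hτ⟩ := MTImage.exists_lift_geomPt (Red.geomPt w ≫ v)
  let φ := (bcComp v (Red.geomPt w) T).symm ≪≫ bcCongr hτ.symm T ≪≫ bcComp _ τ T
  let φ' : Red.geomFibre w (Red.bc v T) ≅ Red.bc τ (Red.geomFibre _ T) := (Grp.forget _).mapIso φ
  haveI : IsMonHom φ'.symm.hom := inferInstanceAs (IsMonHom φ.inv.hom.hom)
  exact Chev.Borel.isTorus_of_iso φ'.symm (Chev.Borel.isTorus_bc_scheme _ τ (h _))

variable {G B B' U U' : Over S} [GrpObj G] [GrpObj B] [GrpObj B'] [GrpObj U] [GrpObj U']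

/-- Trivial intersection of the radicals on every geometric fibre. -/
theorem exists_geom_opposite_borels (hG : Red.IsReductive G) (i : B ⟶ G) (hB : Red.IsBorel i) (i' : B' ⟶ G)
    (hB' : Red.IsBorel i') (u : U ⟶ B) (hU : Par.IsUnipotentRadical u) (u' : U' ⟶ B')
    (hU' : Par.IsUnipotentRadical u')
    (h : ∀ (X : Over S) (x : X ⟶ U') (y : X ⟶ U), x ≫ u' ≫ i' = y ≫ u ≫ i → x = 1) (s : S) :
    ∃ c : Red.DS _ ℤ ⟶ Red.geomFibre s G, IsMonHom c ∧ IsP c ((Over.pullback (Red.geomPt s)).map i) ∧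
      IsP (negD c) ((Over.pullback (Red.geomPt s)).map i') ∧
      ∃ (T : Over _) (_ : GrpObj T) (j : T ⟶ Red.geomFibre s G), Red.IsMaximalTorus j ∧ Red.IsCentralizerOf c j ∧
        (∃ t : T ⟶ Red.geomFibre s B, t ≫ (Over.pullback (Red.geomPt s)).map i = j) ∧
        ∃ t : T ⟶ Red.geomFibre s B', t ≫ (Over.pullback (Red.geomPt s)).map i' = j := by
  haveI := hB.1; haveI := hB'.1; haveI := hU.1; haveI := hU'.1; haveI := hB.2.1; haveI := hU.2.1
  haveI : Mono i := Over.mono_of_mono_left i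
  haveI : Mono u := Over.mono_of_mono_left u
  let F := Over.pullback (Red.geomPt s)
  haveI : PreservesLimitsOfShape WalkingCospan F :=
    (Over.mapPullbackAdj (Red.geomPt s)).rightAdjoint_preservesLimits.preservesLimitsOfShape
  have sq : IsPullback (1 : 𝟙_ (Over S) ⟶ U') (1 : 𝟙_ (Over S) ⟶ U) (u' ≫ i') (u ≫ i) := by
    refine ⟨⟨by rw [MonObj.one_comp, MonObj.one_comp]⟩, ⟨PullbackCone.IsLimit.mk _ (fun t => toUnit t.pt)
      (fun t => ?_) (fun t => ?_) fun t w _ _ => toUnit_unique _ _⟩⟩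
    · rw [MonObj.comp_one, h t.pt t.fst t.snd t.condition]
    · rw [MonObj.comp_one, ← cancel_mono (u ≫ i), MonObj.one_comp, ← t.condition,
        h t.pt t.fst t.snd t.condition, MonObj.one_comp]
  refine exists_opposite_borels (DynPar.isReductive_bc (Red.geomPt s) hG) (hG.2.2 s) _ (hB.2.2.2 s) _ (hB'.2.2.2 s)
    (F.map (u ≫ i)) (fun c _ hc => isU_radical hG i (isParabolic_of_isBorel hB) hU (Red.geomPt s) c hc)
    (F.map (u' ≫ i')) (fun c _ hc => isU_radical hG i' (isParabolic_of_isBorel hB') hU' (Red.geomPt s) c hc)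
    fun x y hxy _ => ?_
  obtain ⟨w, -, hw⟩ : ∃ w, w ≫ F.map (1 : 𝟙_ (Over S) ⟶ U') = y ∧ w ≫ F.map (1 : 𝟙_ (Over S) ⟶ U) = x :=
    ⟨_, (sq.map F).lift_fst y x hxy.symm, (sq.map F).lift_snd y x hxy.symm⟩
  rw [← hw, Category.assoc, ← F.map_comp, MonObj.one_comp, Functor.map_one, MonObj.comp_one]

/-- **Opposite geometric fibres give an open cell.** -/
theorem isOpenImmersion_of_opposite (hG : Red.IsReductive G) (i : B ⟶ G) (hB : Red.IsBorel i) (i' : B' ⟶ G)
    (hB' : Red.IsBorel i') (u' : U' ⟶ B')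
    (hU' : Par.IsUnipotentRadical u')
    (hgeom : ∀ s : S, ∃ c : Red.DS _ ℤ ⟶ Red.geomFibre s G, IsMonHom c ∧
      IsP c ((Over.pullback (Red.geomPt s)).map i) ∧ IsP (negD c) ((Over.pullback (Red.geomPt s)).map i') ∧
      ∃ (T : Over _) (_ : GrpObj T) (j : T ⟶ Red.geomFibre s G), Red.IsMaximalTorus j ∧ Red.IsCentralizerOf c j ∧
        (∃ t : T ⟶ Red.geomFibre s B, t ≫ (Over.pullback (Red.geomPt s)).map i = j) ∧
        ∃ t : T ⟶ Red.geomFibre s B', t ≫ (Over.pullback (Red.geomPt s)).map i' = j) :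
    IsOpenImmersion (((u' ≫ i') ⊗ₘ i) ≫ μ).left := by
  haveI := hB.1; haveI := hB'.1; haveI := hU'.1
  haveI := hU'.2.2.2.1; haveI := hB.2.2.1; haveI := hG.2.1
  haveI : Smooth (U' ⊗ B).hom := inferInstanceAs (Smooth (pullback.fst U'.hom B.hom ≫ U'.hom))
  refine isOpenImmersion_of_geomPts _ fun s => ?_
  rw [isOpenImmersion_map_iff]
  obtain ⟨c, hc, hcP, hcQ, -⟩ := hgeom s
  haveI := hc
  haveI := isMonHom_negD c
  have hu := isU_radical hG i' (isParabolic_of_isBorel hB') hU' (Red.geomPt s) (negD c) hcQ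
  haveI : IsAffine (Red.geomFibre s G).left := (hG.2.2 s).1
  haveI : Smooth (Red.geomFibre s G).hom := (hG.2.2 s).2.1
  obtain ⟨-, h, -, -⟩ := RootSys.exists_cell_open c (negD c) rfl hu hcP
  rwa [← ParStd.lift_mul, lift_fst_snd, Category.id_comp] at h

/-- **Opposite geometric fibres: the intersection is a maximal torus.** -/
theorem exists_torus_of_opposite (hG : Red.IsReductive G) (i : B ⟶ G) (hB : Red.IsBorel i) (i' : B' ⟶ G)
    (hB' : Red.IsBorel i') (u' : U' ⟶ B')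
    (hU' : Par.IsUnipotentRadical u')
    (hgeom : ∀ s : S, ∃ c : Red.DS _ ℤ ⟶ Red.geomFibre s G, IsMonHom c ∧
      IsP c ((Over.pullback (Red.geomPt s)).map i) ∧ IsP (negD c) ((Over.pullback (Red.geomPt s)).map i') ∧
      ∃ (T : Over _) (_ : GrpObj T) (j : T ⟶ Red.geomFibre s G), Red.IsMaximalTorus j ∧ Red.IsCentralizerOf c j ∧
        (∃ t : T ⟶ Red.geomFibre s B, t ≫ (Over.pullback (Red.geomPt s)).map i = j) ∧
        ∃ t : T ⟶ Red.geomFibre s B', t ≫ (Over.pullback (Red.geomPt s)).map i' = j) :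
    ∃ (T : Over S) (_ : GrpObj T) (t : T ⟶ B) (t' : T ⟶ B'), IsMonHom t ∧ IsPullback t t' i i' ∧
      Red.IsMaximalTorus (t ≫ i) := by
  haveI := hB.1; haveI := hB.2.1; haveI := hB'.1; haveI := hB'.2.1; haveI := hG.1; haveI := hG.2.1
  haveI : Mono i := Over.mono_of_mono_left i
  haveI : Mono i' := Over.mono_of_mono_left i'
  let T := pullback i i'
  let t : T ⟶ B := pullback.fst i i'
  let t' : T ⟶ B' := pullback.snd i i'
  have sq : IsPullback t t' i i' := IsPullback.of_hasPullback i i'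
  haveI : Mono t := pullback.fst_of_mono
  haveI : Mono t' := pullback.snd_of_mono
  obtain ⟨_, hmon⟩ : ∃ _ : GrpObj T, IsMonHom (t ≫ i) := by
    refine MTBridge.exists_grpObj_of_div (t ≫ i) ⟨sq.lift η η ?_, ?_⟩ fun X k₁ k₂ =>
      ⟨sq.lift ((k₁ ≫ t)⁻¹ * (k₂ ≫ t)) ((k₁ ≫ t')⁻¹ * (k₂ ≫ t')) ?_, ?_⟩
    · rw [IsMonHom.one_hom, IsMonHom.one_hom]
    · rw [IsPullback.lift_fst_assoc, IsMonHom.one_hom]
    · simp only [MonObj.mul_comp, GrpObj.inv_comp, Category.assoc, sq.w]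
    · rw [IsPullback.lift_fst_assoc]
      simp only [MonObj.mul_comp, GrpObj.inv_comp, Category.assoc]
  haveI := hmon
  haveI : IsMonHom t := MTSplit.isMonHom_of_comp_mono t i (t ≫ i) rfl
  haveI : IsMonHom t' := MTSplit.isMonHom_of_comp_mono t' i' (t ≫ i) sq.w.symm
  refine ⟨T, inferInstance, t, t', inferInstance, sq, ?_⟩
  -- the fibres
  have hfib : ∀ s : S, ∃ (T₀ : Over _) (_ : GrpObj T₀) (j : T₀ ⟶ Red.geomFibre s G) (e : T₀ ≅ Red.geomFibre s T),
      IsMonHom e.hom ∧ e.hom ≫ (Over.pullback (Red.geomPt s)).map (t ≫ i) = j ∧ AGF.IsMaxTorus j := fun s => by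
    obtain ⟨c, hc, hcP, hcQ, T₀, _, j, hj, hz, -, -⟩ := hgeom s
    haveI := hc; haveI := hj.1; haveI := hz.2.1
    let F := Over.pullback (Red.geomPt s)
    haveI : PreservesLimitsOfShape WalkingCospan F :=
      (Over.mapPullbackAdj (Red.geomPt s)).rightAdjoint_preservesLimits.preservesLimitsOfShape
    have hGs := DynPar.isReductive_bc (Red.geomPt s) hG
    haveI : IsAffineHom (Red.geomFibre s G).hom := hGs.1
    haveI : IsMonHom (F.map t) := inferInstance
    have hz' := centralizer_of_pullback c hcP hcQ (sq.map F)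
    rw [← F.map_comp] at hz'
    haveI := hz'.2.1
    obtain ⟨a, ha⟩ := (hz'.2.2 _ j).2 ((hz.2.2 _ j).1 ⟨𝟙 _, Category.id_comp _⟩)
    obtain ⟨b, hb⟩ := (hz.2.2 _ (F.map (t ≫ i))).2 ((hz'.2.2 _ _).1 ⟨𝟙 _, Category.id_comp _⟩)
    let e : T₀ ≅ Red.geomFibre s T := ⟨a, b, by rw [← cancel_mono j, Category.assoc, hb, ha, Category.id_comp],
      by rw [← cancel_mono (F.map (t ≫ i)), Category.assoc, ha, hb, Category.id_comp]⟩
    haveI : IsMonHom e.hom := MTSplit.isMonHom_of_comp_mono a (F.map (t ≫ i)) j ha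
    exact ⟨T₀, inferInstance, j, e, inferInstance, ha, Chev.Borel.isMaxTorus_of_isMaximalTorus j hj⟩
  have htor : ∀ s : S, Red.IsTorus (Red.geomFibre s T) := fun s => by
    obtain ⟨T₀, _, j, e, _, -, hj⟩ := hfib s
    exact Chev.Borel.isTorus_of_iso e hj.2.2.1
  -- the intersection is a smooth affine group
  have hj := isOpenImmersion_of_opposite hG i hB i' hB' u' hU' hgeom
  have hl : Par.IsLevi t' := isLevi_of_isOpenImmersion_tori hG i' (isParabolic_of_isBorel hB') i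
    (isParabolic_of_isBorel hB) hU' (fun s => by
      obtain ⟨c, -, -, -, T₀, _, j, hj, -, h1, h2⟩ := hgeom s
      exact ⟨T₀, inferInstance, j, hj, h2, h1⟩) sq.flip hj
  haveI := hl.2.2.1.1; haveI := hl.2.2.1.2.1
  have hconn := MTImage.isConnected_fibre_of_geom (H := T) fun s => by
    haveI := (hl.2.2.1.2.2 s).2.2.1
    infer_instance
  have hT : Red.IsTorus T := isTorus_of_etale_split T fun s => by
    obtain ⟨A, _, v, hv, hs, T₁, _, i₁, hi₁, r, ⟨E⟩⟩ := Groth.Agent.S3003.result S T hconn s fun T₁ _ i₁ hi₁ X g _ => by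
      haveI := hi₁.1; haveI := hi₁.2.1
      haveI : IsIso i₁ := (Chev.Borel.isMaxTorus_of_isMaximalTorus i₁ hi₁).2.2.2 _ (𝟙 _) i₁ (htor s) (Category.comp_id _)
      exact ⟨g ≫ inv i₁, by rw [Category.assoc, IsIso.inv_hom_id, Category.comp_id]⟩
    haveI := hv; haveI := hi₁.1; haveI := hi₁.2.1
    haveI := locallyOfFinitePresentation_of_isMultTypeFT _ (isMultTypeFT_of_isTorus T₁ hi₁.2.2.1)
    haveI := flat_of_isMultTypeFT _ (isMultTypeFT_of_isTorus T₁ hi₁.2.2.1)
    haveI : LocallyOfFinitePresentation (Red.bc v T).hom :=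
      inferInstanceAs (LocallyOfFinitePresentation (pullback.snd T.hom v))
    haveI : IsIso i₁ := RootIntrinsic.isIso_of_geomPts i₁ fun w =>
      hi₁.2.2.2 w (Red.geomFibre w (Red.bc v T)) (𝟙 _) ((Over.pullback (Red.geomPt w)).map i₁)
        (isTorus_geomFibre_bc htor v w) (Category.comp_id _)
    haveI : IsMonHom (asIso i₁).hom := hi₁.1
    exact ⟨_, v, r, hv, hs, ⟨(RootBase.grpIso i₁).symm ≪≫ E⟩⟩
  refine ⟨inferInstance, inferInstance, hT, fun s T' _ j _ _ f hT' hf => ?_⟩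
  obtain ⟨T₀, _, j₀, e, _, he, hj₀⟩ := hfib s
  haveI : IsIso (e.hom ≫ f) := hj₀.2.2.2 T' j (e.hom ≫ f) hT' (by rw [Category.assoc, hf, he])
  exact IsIso.of_isIso_comp_left e.hom f

/-- **Trivially meeting radicals.** -/
theorem isOpenImmersion_of_trivial (hG : Red.IsReductive G) (i : B ⟶ G) (hB : Red.IsBorel i) (i' : B' ⟶ G)
    (hB' : Red.IsBorel i') (u : U ⟶ B) (hU : Par.IsUnipotentRadical u) (u' : U' ⟶ B')
    (hU' : Par.IsUnipotentRadical u')
    (h : ∀ (X : Over S) (x : X ⟶ U') (y : X ⟶ U), x ≫ u' ≫ i' = y ≫ u ≫ i → x = 1) :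
    IsOpenImmersion (((u' ≫ i') ⊗ₘ i) ≫ μ).left :=
  isOpenImmersion_of_opposite hG i hB i' hB' u' hU' (exists_geom_opposite_borels hG i hB i' hB' u hU u' hU' h)

/-- **Trivially meeting radicals.** -/
theorem exists_torus_of_trivial (hG : Red.IsReductive G) (i : B ⟶ G) (hB : Red.IsBorel i) (i' : B' ⟶ G)
    (hB' : Red.IsBorel i') (u : U ⟶ B) (hU : Par.IsUnipotentRadical u) (u' : U' ⟶ B')
    (hU' : Par.IsUnipotentRadical u')
    (h : ∀ (X : Over S) (x : X ⟶ U') (y : X ⟶ U), x ≫ u' ≫ i' = y ≫ u ≫ i → x = 1) :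
    ∃ (T : Over S) (_ : GrpObj T) (t : T ⟶ B) (t' : T ⟶ B'), IsMonHom t ∧ IsPullback t t' i i' ∧
      Red.IsMaximalTorus (t ≫ i) :=
  exists_torus_of_opposite hG i hB i' hB' u' hU' (exists_geom_opposite_borels hG i hB i' hB' u hU u' hU' h)

end Groth.Agent.ParStd
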