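import Groth.Agent.ParStd.Restrict

/-!
# The unipotent radical and the Levi subgroup of a parabolic subgroup glue from charts
-/

set_option autoImplicit false
set_option linter.style.haveILetI false
set_option backward.isDefEq.respectTransparency false
set_option backward.isDefEq.respectTransparency.types false
set_option maxHeartbeats 2000000
set_option synthInstance.maxHeartbeats 400000

universe u

open CategoryTheory Limits MonoidalCategory CartesianMonoidalCategory MonObj AlgebraicGeometry LieS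
open scoped CategoryTheory.Obj

noncomputable section

namespace Groth.Agent.ParStd

open Groth.Agent.HomDiag Groth.Agent.DynPar Groth.Agent.MTBridge Groth.Agent.Chev

variable {S : Scheme.{u}} {G P : Over S} [GrpObj G] [GrpObj P] {K₀ : Type u} {Q : K₀ → Scheme.{u}}
  {f : ∀ i, Q i ⟶ S}

omit [GrpObj G] [GrpObj P] in
/-- Jointly surjective étale families are fpqc coverings. -/
theorem mem_fpqc_of_etale (hf : ∀ i, Etale (f i)) (hs : ∀ s, ∃ i, s ∈ Set.range (f i).base) :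
    Presieve.ofArrows Q f ∈ Scheme.fpqcPrecoverage S :=
  Scheme.fppfPrecoverage_le_fpqcPrecoverage _ ((Scheme.ofArrows_mem_precoverage_iff _).2
    ⟨hs, fun i => by haveI := hf i; exact ⟨inferInstance, inferInstance⟩⟩)

omit [GrpObj G] [GrpObj P] in
/-- Factorisation through a closed subscheme is local. -/
theorem exists_fac_of_cover (hg : Presieve.ofArrows Q f ∈ Scheme.fpqcPrecoverage S) (p : P ⟶ G)
    [IsClosedImmersion p.left] {X : Over S} (x : X ⟶ G)
    (h : ∀ i, ∃ z, z ≫ (Over.pullback (f i)).map p = (Over.pullback (f i)).map x) : ∃ z, z ≫ p = x := by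
  have hle : p.left.ker ≤ x.left.ker := by
    refine ideal_le_ker_of_cover p.left.ker x.left (mem_fpqc_pullback hg X.hom) fun i => ?_
    obtain ⟨z, hz⟩ := h i
    refine (exists_fac_iff_ker_le p.left _).1 ⟨z.left ≫ pullback.fst P.hom (f i), ?_⟩
    rw [Category.assoc, ← MTBridge.map_left_fst, ← Category.assoc, ← Over.comp_left, hz, MTBridge.map_left_fst]
  obtain ⟨z, hz⟩ := (exists_fac_iff_ker_le p.left x.left).2 hle
  exact ⟨Over.homMk z (by rw [← Over.w p, reassoc_of% hz, Over.w x]), Over.OverMorphism.ext hz⟩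

/-- Data of the restriction of a chart. -/
theorem exists_restrict {S' W : Scheme.{u}} {g : S' ⟶ S} {a : W ⟶ S'} {ψ : W ⟶ S} (h : a ≫ g = ψ) (p : P ⟶ G)
    {c : Red.DS S' ℤ ⟶ Red.bc g G} [IsMonHom c] (hp : IsP c ((Over.pullback g).map p)) :
    ∃ e : Red.bc ψ G ≅ Red.bc a (Red.bc g G), IsMonHom e.hom ∧
      e.hom.left ≫ pullback.fst _ a ≫ pullback.fst G.hom g = pullback.fst G.hom ψ ∧
      IsP (cW e c) ((Over.pullback ψ).map p) ∧
      ∀ (T : Over S) (q : T ⟶ G) (cT : Red.DS S' ℤ ⟶ Red.bc g T), cT ≫ (Over.pullback g).map q = c →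
        ∃ cT', cT' ≫ (Over.pullback ψ).map q = cW e c := by
  haveI := hp.1
  obtain ⟨eG, heG, hG'⟩ := MaxTorusBC.exists_trIso h G
  obtain ⟨eP, heP, hP'⟩ := MaxTorusBC.exists_trIso h P
  haveI : IsMonHom eG.hom := hG'
  haveI : IsMonHom eP.hom := hP'
  haveI : IsMonHom eG.symm.hom := inferInstanceAs (IsMonHom eG.inv)
  refine ⟨eG, hG', trIso_left_fst h eG heG, isP_transport (hp.bc a) eG.symm eP rfl ?_, fun T q cT hcT => ?_⟩
  · show eP.hom ≫ (Over.pullback a).map ((Over.pullback g).map p) ≫ eG.inv = _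
    rw [← Category.assoc, Iso.comp_inv_eq, heP, heG, MTImage.trIso_natural]
  · obtain ⟨eT, heT, -⟩ := MaxTorusBC.exists_trIso h T
    refine ⟨bcHom' a cT ≫ eT.inv, ?_⟩
    have hn : (Over.pullback a).map ((Over.pullback g).map q) ≫ eG.inv = eT.inv ≫ (Over.pullback ψ).map q := by
      rw [Iso.eq_inv_comp, ← Category.assoc, Iso.comp_inv_eq, heT, heG, MTImage.trIso_natural]
    simp only [cW, bcHom', Category.assoc, ← hcT, Functor.map_comp, hn]

omit [GrpObj G] in
/-- The tautological point over the common refinement. -/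
theorem exists_omega {W : Scheme.{u}} {ψ : W ⟶ S} (w : W ⟶ G.left) (hw : w ≫ G.hom = ψ) :
    ∃ ω : Over.mk (𝟙 W) ⟶ Red.bc ψ G, ω.left ≫ pullback.fst G.hom ψ = w :=
  ⟨Over.homMk (pullback.lift w (𝟙 W) (hw.trans (Category.id_comp _).symm)) (pullback.lift_snd _ _ _),
    pullback.lift_fst _ _ _⟩

omit [GrpObj G] in
theorem omega_spec {S' W : Scheme.{u}} {g : S' ⟶ S} {a : W ⟶ S'} {ψ : W ⟶ S}
    (e : Red.bc ψ G ≅ Red.bc a (Red.bc g G))
    (he : e.hom.left ≫ pullback.fst _ a ≫ pullback.fst G.hom g = pullback.fst G.hom ψ)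
    (w : W ⟶ (Red.bc g G).left) (ha : w ≫ pullback.snd G.hom g = a) (ω : Over.mk (𝟙 W) ⟶ Red.bc ψ G)
    (hω : ω.left ≫ pullback.fst G.hom ψ = w ≫ pullback.fst G.hom g) :
    (ω ≫ e.hom).left ≫ pullback.fst (Red.bc g G).hom a = w := by
  refine pullback.hom_ext ?_ ?_
  · rw [Over.comp_left, Category.assoc, Category.assoc, he, hω]
  · rw [ha, Category.assoc, show pullback.fst (Red.bc g G).hom a ≫ pullback.snd G.hom g =
      pullback.snd _ a ≫ a from pullback.condition, ← Category.assoc]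
    have h1 : (ω ≫ e.hom).left ≫ pullback.snd (Red.bc g G).hom a = 𝟙 W := Over.w (ω ≫ e.hom)
    rw [h1]
    exact Category.id_comp a

/-- **The contracted subgroups of charts glue.** -/
theorem exists_glue_U (hG : Red.IsReductive G) (p : P ⟶ G) (hg : Presieve.ofArrows Q f ∈ Scheme.fpqcPrecoverage S)
    (c : ∀ i, Red.DS (Q i) ℤ ⟶ Red.bc (f i) G) [∀ i, IsMonHom (c i)]
    (hc : ∀ i, IsP (c i) ((Over.pullback (f i)).map p))
    {U : ∀ i, Over (Q i)} [∀ i, GrpObj (U i)] (u : ∀ i, U i ⟶ Red.bc (f i) G) (hu : ∀ i, IsU (c i) (u i)) :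
    ∃ (V : Over S) (_ : GrpObj V) (v : V ⟶ G), IsMonHom v ∧ IsClosedImmersion v.left ∧
      (∀ (X : Over S) (x : X ⟶ G), (∃ z, z ≫ v = x) ↔ ∀ i, ∃ z, z ≫ u i = (Over.pullback (f i)).map x) ∧
      ∀ i, ∃ e : Red.bc (f i) V ≅ U i, IsMonHom e.hom ∧ e.hom ≫ u i = (Over.pullback (f i)).map v := by
  haveI : ∀ i, IsMonHom (u i) := fun i => (hu i).1
  refine exists_glue_subgroup hg u (fun i => (hu i).2.1) fun i j W w₁ w₂ hw h₁ => ?_
  let a := w₁ ≫ pullback.snd G.hom (f i)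
  let b := w₂ ≫ pullback.snd G.hom (f j)
  have hψ : (w₁ ≫ pullback.fst G.hom (f i)) ≫ G.hom = a ≫ f i := by
    simp only [a, Category.assoc, pullback.condition]
  have hb : b ≫ f j = a ≫ f i := by
    rw [← hψ, hw]
    simp only [b, Category.assoc, pullback.condition]
  obtain ⟨ea, hea, hea', hPa, -⟩ := exists_restrict (rfl : a ≫ f i = _) p (hc i)
  obtain ⟨eb, heb, heb', hPb, -⟩ := exists_restrict hb p (hc j)
  haveI := hea; haveI := heb
  haveI := isMonHom_cW ea (c i); haveI := isMonHom_cW eb (c j)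
  obtain ⟨ω, hω⟩ := exists_omega (w₁ ≫ pullback.fst G.hom (f i)) hψ
  rw [exists_fac_iff_restrict ea (u i) (hu i).2.2 w₁ ω (omega_spec ea hea' w₁ rfl ω hω),
    ← inF_UFam_restrict] at h₁
  rw [exists_fac_iff_restrict eb (u j) (hu j).2.2 w₂ ω (omega_spec eb heb' w₂ rfl ω (hω.trans hw)),
    ← inF_UFam_restrict]
  exact inF_UFam_of_isP (DynPar.isReductive_bc _ hG) hPa hPb ω h₁

/-- **The centralizers of charts inside a torus glue.** -/
theorem exists_glue_Z (hG : Red.IsReductive G) (p : P ⟶ G) {T : Over S} [GrpObj T] (hT : Red.IsTorus T)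
    (q : T ⟶ G) [IsMonHom q] (hg : Presieve.ofArrows Q f ∈ Scheme.fpqcPrecoverage S)
    (cT : ∀ i, Red.DS (Q i) ℤ ⟶ Red.bc (f i) T)
    (c : ∀ i, Red.DS (Q i) ℤ ⟶ Red.bc (f i) G) (hcT : ∀ i, cT i ≫ (Over.pullback (f i)).map q = c i)
    [∀ i, IsMonHom (c i)] (hc : ∀ i, IsP (c i) ((Over.pullback (f i)).map p))
    {Z : ∀ i, Over (Q i)} [∀ i, GrpObj (Z i)] (z : ∀ i, Z i ⟶ Red.bc (f i) G)
    (hz : ∀ i, Red.IsCentralizerOf (c i) (z i)) (hzc : ∀ i, IsClosedImmersion (z i).left) :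
    ∃ (L : Over S) (_ : GrpObj L) (l : L ⟶ G), IsMonHom l ∧ IsClosedImmersion l.left ∧
      (∀ (X : Over S) (x : X ⟶ G), (∃ y, y ≫ l = x) ↔ ∀ i, ∃ y, y ≫ z i = (Over.pullback (f i)).map x) ∧
      ∀ i, ∃ e : Red.bc (f i) L ≅ Z i, IsMonHom e.hom ∧ e.hom ≫ z i = (Over.pullback (f i)).map l := by
  haveI : ∀ i, IsMonHom (z i) := fun i => (hz i).1
  refine exists_glue_subgroup hg z hzc fun i j W w₁ w₂ hw h₁ => ?_
  let a := w₁ ≫ pullback.snd G.hom (f i)
  let b := w₂ ≫ pullback.snd G.hom (f j)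
  have hψ : (w₁ ≫ pullback.fst G.hom (f i)) ≫ G.hom = a ≫ f i := by
    simp only [a, Category.assoc, pullback.condition]
  have hb : b ≫ f j = a ≫ f i := by
    rw [← hψ, hw]
    simp only [b, Category.assoc, pullback.condition]
  obtain ⟨ea, hea, hea', hPa, hTa⟩ := exists_restrict (rfl : a ≫ f i = _) p (hc i)
  obtain ⟨eb, heb, heb', hPb, hTb⟩ := exists_restrict hb p (hc j)
  haveI := hea; haveI := heb
  haveI := isMonHom_cW ea (c i); haveI := isMonHom_cW eb (c j)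
  obtain ⟨ta, hta⟩ := hTa T q (cT i) (hcT i)
  obtain ⟨tb, htb⟩ := hTb T q (cT j) (hcT j)
  obtain ⟨ω, hω⟩ := exists_omega (w₁ ≫ pullback.fst G.hom (f i)) hψ
  have hkz : ∀ i (X : Over (Q i)) (g : X ⟶ Red.bc (f i) G), (∃ y, y ≫ z i = g) ↔ InF (ZFam (c i)) g :=
    fun i X g => ((hz i).2.2 X g).trans (inF_ZFam_iff (c := c i) g).symm
  rw [exists_fac_iff_restrict ea (z i) (hkz i) w₁ ω (omega_spec ea hea' w₁ rfl ω hω), ← inF_ZFam_restrict] at h₁
  rw [exists_fac_iff_restrict eb (z j) (hkz j) w₂ ω (omega_spec eb heb' w₂ rfl ω (hω.trans hw)),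
    ← inF_ZFam_restrict]
  refine inF_ZFam_of_isP (DynPar.isReductive_bc _ hG) hPa hPb (fun X x y => ?_) ω h₁
  haveI : IsMonHom ((Over.pullback (a ≫ f i)).map q) := inferInstance
  rw [← hta, ← htb, ← Category.assoc x, ← Category.assoc y, ← MonObj.mul_comp, ← MonObj.mul_comp,
    RedR1.mul_comm_torus (Borel.isTorus_bc_scheme T (a ≫ f i) hT)]

end Groth.Agent.ParStd
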