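import Groth.Agent.DynPar.Rep
import Groth.Agent.DynPar.Reduce
import Groth.Agent.MTBridge.Centralizer
import Groth.Agent.FpqcDescent.IdealGlue

/-!
# Gluing closed subgroups along a flat covering family
-/

set_option autoImplicit false
set_option linter.style.haveILetI false
set_option backward.isDefEq.respectTransparency false
set_option backward.isDefEq.respectTransparency.types false
set_option maxHeartbeats 1000000
set_option synthInstance.maxHeartbeats 400000

universe u

open CategoryTheory Limits MonoidalCategory CartesianMonoidalCategory MonObj AlgebraicGeometry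
open scoped CategoryTheory.Obj

noncomputable section

namespace Groth.Agent.ParStd

open Groth.Agent.DynPar

/-- A morphism factors through a closed subscheme if it does so on a flat covering family. -/
theorem ideal_le_ker_of_cover {X Y : Scheme.{u}} (J : Y.IdealSheafData) (x : X ⟶ Y) {K₀ : Type u}
    {W : K₀ → Scheme.{u}} {w : ∀ i, W i ⟶ X} (hw : Presieve.ofArrows W w ∈ Scheme.fpqcPrecoverage X)
    (h : ∀ i, J ≤ (w i ≫ x).ker) : J ≤ x.ker := by
  obtain ⟨K, -, huniq⟩ := FpqcDescent.existsUnique_descent hw (fun _ => (⊥ : (W _).IdealSheafData))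
    (fun i j => by simp)
  have h1 : J.comap x = K := huniq _ fun i => by
    rw [← Scheme.IdealSheafData.comap_comp, ← le_bot_iff, ← Scheme.IdealSheafData.le_map_iff_comap_le,
      Scheme.IdealSheafData.map_bot]
    exact h i
  have h2 : (⊥ : X.IdealSheafData) = K := huniq _ fun i => by simp
  rw [← Scheme.IdealSheafData.map_bot, Scheme.IdealSheafData.le_map_iff_comap_le, h1, ← h2]

variable {S : Scheme.{u}} {K₀ : Type u} {Q : K₀ → Scheme.{u}} {g : ∀ i, Q i ⟶ S}

/-- A covering family pulled back. -/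
theorem mem_fpqc_pullback (hg : Presieve.ofArrows Q g ∈ Scheme.fpqcPrecoverage S) {X : Scheme.{u}} (x : X ⟶ S) :
    Presieve.ofArrows (fun i => pullback x (g i)) (fun i => pullback.fst x (g i)) ∈ Scheme.fpqcPrecoverage X :=
  Precoverage.mem_coverings_of_isPullback (J := Scheme.fpqcPrecoverage) g hg x (fun i => pullback.fst x (g i))
    (fun i => pullback.snd x (g i)) fun i => IsPullback.of_hasPullback x (g i)

/-- **Compatible closed subgroups on a flat covering family glue.** -/
theorem exists_glue_subgroup (hg : Presieve.ofArrows Q g ∈ Scheme.fpqcPrecoverage S) {G : Over S} [GrpObj G]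
    {Z : ∀ i, Over (Q i)} [∀ i, GrpObj (Z i)] (k : ∀ i, Z i ⟶ Red.bc (g i) G) [∀ i, IsMonHom (k i)]
    (hk : ∀ i, IsClosedImmersion (k i).left)
    (compat : ∀ (i j : K₀) (W : Scheme.{u}) (w₁ : W ⟶ (Red.bc (g i) G).left) (w₂ : W ⟶ (Red.bc (g j) G).left),
      w₁ ≫ pullback.fst G.hom (g i) = w₂ ≫ pullback.fst G.hom (g j) →
      (∃ z, z ≫ (k i).left = w₁) → ∃ z, z ≫ (k j).left = w₂) :
    ∃ (L : Over S) (_ : GrpObj L) (l : L ⟶ G), IsMonHom l ∧ IsClosedImmersion l.left ∧
      (∀ (X : Over S) (x : X ⟶ G), (∃ z, z ≫ l = x) ↔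
        ∀ i, ∃ z, z ≫ k i = (Over.pullback (g i)).map x) ∧
      ∀ i, ∃ e : Red.bc (g i) L ≅ Z i, IsMonHom e.hom ∧ e.hom ≫ k i = (Over.pullback (g i)).map l := by
  let q : ∀ i, (Red.bc (g i) G).left ⟶ G.left := fun i => pullback.fst G.hom (g i)
  let I : ∀ i, (Red.bc (g i) G).left.IdealSheafData := fun i => (k i).left.ker
  have hcompat : ∀ i j, (I i).comap (pullback.fst (q i) (q j)) = (I j).comap (pullback.snd (q i) (q j)) := by
    intro i j
    have key : ∀ {X : Scheme.{u}} (t : X ⟶ pullback (q i) (q j)),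
        (I i).comap (pullback.fst (q i) (q j)) ≤ t.ker ↔ (I j).comap (pullback.snd (q i) (q j)) ≤ t.ker := by
      intro X t
      rw [← Scheme.IdealSheafData.le_map_iff_comap_le, ← Scheme.IdealSheafData.le_map_iff_comap_le,
        Scheme.IdealSheafData.map_ker, Scheme.IdealSheafData.map_ker]
      haveI := hk i; haveI := hk j
      rw [← exists_fac_iff_ker_le, ← exists_fac_iff_ker_le]
      have e : (t ≫ pullback.fst (q i) (q j)) ≫ q i = (t ≫ pullback.snd (q i) (q j)) ≫ q j := by
        rw [Category.assoc, Category.assoc, pullback.condition]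
      exact ⟨compat i j X _ _ e, compat j i X _ _ e.symm⟩
    refine le_antisymm ?_ ?_
    · have h := (key ((I j).comap (pullback.snd (q i) (q j))).subschemeι).2
      rw [Scheme.IdealSheafData.ker_subschemeι] at h
      exact h le_rfl
    · have h := (key ((I i).comap (pullback.fst (q i) (q j))).subschemeι).1
      rw [Scheme.IdealSheafData.ker_subschemeι] at h
      exact h le_rfl
  have hgG : Presieve.ofArrows (fun i => (Red.bc (g i) G).left) q ∈ Scheme.fpqcPrecoverage G.left :=
    mem_fpqc_pullback hg G.hom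
  obtain ⟨J, hJ, -⟩ := FpqcDescent.existsUnique_descent hgG I hcompat
  let L : Over S := Over.mk (J.subschemeι ≫ G.hom)
  let l : L ⟶ G := Over.homMk J.subschemeι rfl
  haveI hl : IsClosedImmersion l.left := inferInstanceAs (IsClosedImmersion J.subschemeι)
  haveI : Mono l := Over.mono_of_mono_left l
  have hfacJ : ∀ (X : Over S) (x : X ⟶ G), (∃ z, z ≫ l = x) ↔ J ≤ x.left.ker := by
    intro X x
    constructor
    · rintro ⟨z, rfl⟩
      rw [Over.comp_left]
      exact le_of_eq_of_le (Scheme.IdealSheafData.ker_subschemeι J).symm (Scheme.Hom.le_ker_comp z.left J.subschemeι)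
    · intro h
      obtain ⟨z, hz⟩ := (exists_fac_iff_ker_le J.subschemeι x.left).2 (by
        rwa [Scheme.IdealSheafData.ker_subschemeι])
      exact ⟨Over.homMk z (show z ≫ J.subschemeι ≫ G.hom = X.hom by rw [reassoc_of% hz, Over.w x]),
        Over.OverMorphism.ext hz⟩
  have hi : ∀ (i : K₀) (Y : Over (Q i)) (y : Y ⟶ Red.bc (g i) G),
      (∃ z, z ≫ k i = y) ↔ J ≤ (y.left ≫ q i).ker := by
    intro i Y y
    haveI := hk i
    rw [← Scheme.IdealSheafData.map_ker, Scheme.IdealSheafData.le_map_iff_comap_le, hJ i, ← exists_fac_iff_ker_le]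
    exact ⟨fun ⟨z, hz⟩ => ⟨z.left, congrArg CommaMorphism.left hz⟩, fun ⟨z, hz⟩ =>
      ⟨Over.homMk z (show z ≫ (Z i).hom = Y.hom by rw [← Over.w (k i), reassoc_of% hz, Over.w y]),
        Over.OverMorphism.ext hz⟩⟩
  have hpb : ∀ (i : K₀) (X : Over S) (x : X ⟶ G),
      ((Over.pullback (g i)).map x).left ≫ q i = pullback.fst X.hom (g i) ≫ x.left :=
    fun i X x => MTBridge.map_left_fst (g i) x
  have hfac : ∀ (X : Over S) (x : X ⟶ G), (∃ z, z ≫ l = x) ↔
      ∀ i, ∃ z, z ≫ k i = (Over.pullback (g i)).map x := by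
    intro X x
    rw [hfacJ]
    constructor
    · intro h i
      rw [hi, hpb]
      exact le_trans h (Scheme.Hom.le_ker_comp _ _)
    · intro h
      refine ideal_le_ker_of_cover J x.left (mem_fpqc_pullback hg X.hom) fun i => ?_
      rw [← hpb]
      exact (hi i _ _).1 (h i)
  obtain ⟨hLg, hlm⟩ := MTBridge.exists_grpObj_of_div l ((hfac _ _).2 fun i => ⟨1, by
      rw [show (η[G] : 𝟙_ (Over S) ⟶ G) = 1 by rw [Hom.one_def, toUnit_unique (toUnit _) (𝟙 _), Category.id_comp],
        show (1 : Red.bc (g i) (𝟙_ (Over S)) ⟶ Z i) ≫ k i = 1 from (IsMonHom.monoidHom (k i) _).map_one]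
      exact ((Over.pullback (g i)).homMonoidHom.map_one).symm⟩)
    (fun X a b => (hfac _ _).2 fun i => by
      obtain ⟨za, hza⟩ := (hfac _ _).1 ⟨a, rfl⟩ i
      obtain ⟨zb, hzb⟩ := (hfac _ _).1 ⟨b, rfl⟩ i
      refine ⟨za⁻¹ * zb, ?_⟩
      have h1 := ((Over.pullback (g i)).homMonoidHom (X := X) (M := G)).map_mul (a ≫ l)⁻¹ (b ≫ l)
      have h2 := ((Over.pullback (g i)).homMonoidHom (X := X) (M := G)).map_inv (a ≫ l)
      simp only [Functor.homMonoidHom_apply] at h1 h2
      rw [MonObj.mul_comp, GrpObj.inv_comp, hza, hzb, h1, h2])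
  refine ⟨L, hLg, l, hlm, hl, hfac, fun i => ?_⟩
  haveI := hk i
  let F := Over.pullback (g i)
  haveI : IsClosedImmersion (F.map l).left := MorphismProperty.overPullbackMap (P := @IsClosedImmersion) _ l hl
  haveI : Mono (F.map l) := Over.mono_of_mono_left _
  haveI : Mono (k i) := Over.mono_of_mono_left _
  obtain ⟨a, ha⟩ := (hfac L l).1 ⟨𝟙 L, Category.id_comp l⟩ i
  obtain ⟨b, hb⟩ : ∃ b, b ≫ F.map l = k i := by
    have h := (hi i _ (k i)).1 ⟨𝟙 _, Category.id_comp _⟩
    rw [exists_fac_bc_iff, hfacJ, fromB_left]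
    exact h
  let e : Red.bc (g i) L ≅ Z i := ⟨a, b, by rw [← cancel_mono (F.map l), Category.assoc, hb, ha, Category.id_comp],
    by rw [← cancel_mono (k i), Category.assoc, ha, hb, Category.id_comp]⟩
  exact ⟨e, MTSplit.isMonHom_of_comp_mono a (k i) _ ha, ha⟩

end Groth.Agent.ParStd
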