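import Groth.Agent.ParStd.Field
import Groth.Agent.BorelConj.Standard
import Groth.Agent.BorelConj.Parabolic
import Groth.Agent.DynPar.Main

/-!
# Parabolic subgroups through a split maximal torus are locally dynamical
-/

set_option autoImplicit false
set_option linter.style.haveILetI false
set_option backward.isDefEq.respectTransparency false
set_option backward.isDefEq.respectTransparency.types false
set_option maxHeartbeats 2000000
set_option synthInstance.maxHeartbeats 400000

universe u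

open CategoryTheory Limits MonoidalCategory CartesianMonoidalCategory MonObj AlgebraicGeometry
open scoped CategoryTheory.Obj

noncomputable section

namespace Groth.Agent.ParStd

open Groth.Agent.HomDiag Groth.Agent.DynPar Groth.Agent.MTBridge Groth.Agent.BorelConj

variable {S : Scheme.{u}} {G P : Over S} [GrpObj G] [GrpObj P]

/-- Subgroups with the same points on a base change are dynamical subgroups together. -/
theorem isP_of_iff {Γ : Type} [AddCommGroup Γ] [LinearOrder Γ] [IsOrderedAddMonoid Γ] {c : Red.DS S Γ ⟶ G}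
    {P' : Over S} [GrpObj P'] {p : P ⟶ G} {p' : P' ⟶ G} (hp' : IsP c p') (h1 : IsMonHom p)
    (h2 : IsClosedImmersion p.left) (h : ∀ (X : Over S) (g : X ⟶ G), (∃ z, z ≫ p = g) ↔ ∃ z, z ≫ p' = g) :
    IsP c p :=
  ⟨h1, h2, fun X g => (h X g).trans (hp'.2.2 X g)⟩

/-- **A parabolic subgroup through a split maximal torus is locally the dynamical subgroup of a functional.** -/
theorem exists_nhd_isP (hG : Red.IsReductive G) {M : Type} [AddCommGroup M] [Module.Free ℤ M] [Module.Finite ℤ M]
    (c : Red.DS S M ⟶ G) (hc : Red.IsMaximalTorus c) (p : P ⟶ G) (hP : Red.IsParabolic p) (t : Red.DS S M ⟶ P)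
    (ht : t ≫ p = c) (s : S) :
    ∃ V : S.Opens, s ∈ V ∧ ∃ lam : M →+ ℤ,
      IsP (Red.DSmap (V : Scheme.{u}) lam ≫ bcHom' V.ι c) ((Over.pullback V.ι).map p) := by
  haveI := hG.1; haveI := hG.2.1
  haveI := hP.1; haveI := hP.2.1; haveI := hP.2.2.1; haveI := hc.1
  let φ := Red.geomPt s
  let K := AlgebraicClosure (S.residueField s)
  let Fu := Over.pullback φ
  have hred : Red.IsReductiveOver K (Fu.obj G) := hG.2.2 s
  have hcK := RootBase.isMaximalTorus_bcHom' φ hG hc
  obtain ⟨lam, hlam⟩ := isP_of_parabolic (isReductive_bc φ hG) hred hcK (hP.2.2.2 s) (ej φ M ≫ Fu.map t)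
    (by rw [Category.assoc, ← Fu.map_comp, ht]; rfl)
  let cm : Red.DS S ℤ ⟶ G := Red.DSmap S lam ≫ c
  haveI : IsMonHom cm := isMonHom_comp' (Red.DSmap S lam) c
  obtain ⟨P₀, _, p₀, hP₀⟩ := exists_isP (G := G) cm
  have hP₀K : IsP (Red.DSmap _ lam ≫ bcHom' φ c) (Fu.map p₀) := bcHom'_DSmap φ lam c ▸ hP₀.bc φ
  obtain ⟨e, he⟩ := hlam.exists_iso hP₀K
  obtain ⟨V, hV, hiff⟩ := exists_nhd_mem_iff (fun s => (hG.2.2 s).2.2.1) p
    (MTImage.isConnected_fibre_of_geom fun s => by
      haveI := (hG.2.2 s).1; haveI := (hG.2.2 s).2.1; haveI := (hG.2.2 s).2.2.1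
      exact ParNorm.connectedSpace_parabolic (hP.2.2.2 s)) (c := cm)
    ⟨Red.DSmap S lam ≫ t, by rw [Category.assoc, ht]⟩ hP₀ φ (iff_of_iso φ p p₀ e he)
  rw [MTImage.geomPt_closedPoint] at hV
  refine ⟨V, hV, lam, ?_⟩
  have hPV : IsP (Red.DSmap (V : Scheme.{u}) lam ≫ bcHom' V.ι c) ((Over.pullback V.ι).map p₀) :=
    bcHom'_DSmap V.ι lam c ▸ hP₀.bc V.ι
  haveI := hP₀.1; haveI := hP₀.2.1
  refine isP_of_iff hPV inferInstance (MorphismProperty.overPullbackMap (P := @IsClosedImmersion) V.ι p inferInstance)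
    fun X g => ?_
  rw [exists_fac_bc_iff, exists_fac_bc_iff]
  exact hiff X _

end Groth.Agent.ParStd
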