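import Groth.Agent.ParStd.Levi
import Groth.Agent.ParStd.Descent
import Groth.Agent.ParStd.Global
import Groth.Agent.MTImage.CartanGeom
import Groth.Agent.BorelConj.Ext
import Groth.Agent.RedR1.Gen
import Mathlib.AlgebraicGeometry.Sites.Fpqc

/-!
# Charts for a parabolic subgroup through a maximal torus
-/

set_option autoImplicit false
set_option linter.style.haveILetI false
set_option backward.isDefEq.respectTransparency false
set_option backward.isDefEq.respectTransparency.types false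
set_option maxHeartbeats 2000000
set_option synthInstance.maxHeartbeats 400000

universe u

open CategoryTheory Limits MonoidalCategory CartesianMonoidalCategory MonObj AlgebraicGeometry LieS
open scoped CategoryTheory.Obj

noncomputable section

namespace Groth.Agent.ParStd

open Groth.Agent.HomDiag Groth.Agent.DynPar Groth.Agent.MTBridge Groth.Agent.Chev

variable {S : Scheme.{u}}

/-- Transport of `P(c)` along an isomorphism. -/
theorem isP_transport {G G' P P' : Over S} [GrpObj G] [GrpObj G'] [GrpObj P] [GrpObj P'] {Γ : Type} [AddCommGroup Γ]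
    [LinearOrder Γ] [IsOrderedAddMonoid Γ] {c : Red.DS S Γ ⟶ G} {p : P ⟶ G} (hp : IsP c p) (φ : G ≅ G')
    [IsMonHom φ.hom] (ψ : P' ≅ P) [IsMonHom ψ.hom] {c' : Red.DS S Γ ⟶ G'} (hc : c ≫ φ.hom = c') {p' : P' ⟶ G'}
    (hsq : ψ.hom ≫ p ≫ φ.hom = p') : IsP c' p' := by
  subst hc hsq
  haveI := hp.1; haveI := hp.2.1
  haveI : IsMonHom φ.symm.hom := inferInstanceAs (IsMonHom φ.inv)
  haveI : IsIso φ.hom.left := inferInstanceAs (IsIso ((Over.forget S).map φ.hom))
  haveI : IsIso ψ.hom.left := inferInstanceAs (IsIso ((Over.forget S).map ψ.hom))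
  refine ⟨inferInstance, by rw [Over.comp_left, Over.comp_left]; infer_instance, fun X g => ?_⟩
  constructor
  · rintro ⟨z, rfl⟩ B _ f y
    have h := comp_mem_PSub f c φ.hom (((hp.2.2 _ _).1 ⟨z ≫ ψ.hom, rfl⟩) B f y)
    simp only [Category.assoc] at h ⊢
    exact h
  · intro h
    obtain ⟨z, hz⟩ := (hp.2.2 X (g ≫ φ.inv)).2 fun B _ f y => by
      have := comp_mem_PSub f (c ≫ φ.hom) φ.inv (h B f y)
      rwa [Category.assoc c, Iso.hom_inv_id, Category.comp_id, Category.assoc] at this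
    exact ⟨z ≫ ψ.inv, by
      rw [Category.assoc, Iso.inv_hom_id_assoc, reassoc_of% hz, Iso.inv_hom_id, Category.comp_id]⟩

/-- Transport of a centralizer along an isomorphism. -/
theorem centralizer_transport {G G' H Z : Over S} [GrpObj G] [GrpObj G'] [GrpObj H] [GrpObj Z] {c : H ⟶ G}
    {z : Z ⟶ G} (hz : Red.IsCentralizerOf c z) (φ : G ≅ G') [IsMonHom φ.hom] {c' : H ⟶ G'}
    (hc : c ≫ φ.hom = c') : Red.IsCentralizerOf c' (z ≫ φ.hom) := by
  subst hc
  haveI := hz.1; haveI := hz.2.1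
  refine ⟨inferInstance, inferInstance, fun X g => ?_⟩
  constructor
  · rintro ⟨w, rfl⟩ X' x h
    have := congrArg (· ≫ φ.hom) ((hz.2.2 X (w ≫ z)).1 ⟨w, rfl⟩ X' x h)
    simpa only [MonObj.mul_comp, Category.assoc] using this
  · intro h
    obtain ⟨w, hw⟩ := (hz.2.2 X (g ≫ φ.inv)).2 fun X' x t => by
      rw [← cancel_mono φ.hom]
      simpa only [MonObj.mul_comp, Category.assoc, Iso.inv_hom_id, Category.comp_id] using h X' x t
    exact ⟨w, by rw [reassoc_of% hw, Iso.inv_hom_id, Category.comp_id]⟩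

/-- The projection of the comparison of iterated base changes. -/
theorem trIso_left_fst {U V : Scheme.{u}} {g : V ⟶ U} {f : U ⟶ S} {ψ : V ⟶ S} (h : g ≫ f = ψ) {X : Over S}
    (e : Red.bc ψ X ≅ Red.bc g (Red.bc f X)) (he : e.hom = MaxTorusExt.tr h (𝟙 _)) :
    e.hom.left ≫ pullback.fst _ g ≫ pullback.fst X.hom f = pullback.fst X.hom ψ := by
  rw [he]
  simp [MaxTorusExt.tr, MTBridge.toBC, MaxTorusExt.reIso, Over.mapPullbackAdj]

/-- Parabolic subgroups are stable under base change. -/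
theorem isParabolic_bc {U : Scheme.{u}} (f : U ⟶ S) {G P : Over S} [GrpObj G] [GrpObj P] (hG : Red.IsReductive G)
    {p : P ⟶ G} (hP : Red.IsParabolic p) : Red.IsParabolic ((Over.pullback f).map p) := by
  haveI := hP.1; haveI := hP.2.2.1
  haveI : IsMonHom ((Over.pullback f).map p) := inferInstance
  refine ⟨inferInstance, MorphismProperty.overPullbackMap (P := @IsClosedImmersion) f p hP.2.1,
    inferInstanceAs (Smooth (pullback.snd P.hom f)), fun v => ?_⟩
  let ψ := Red.geomPt v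
  obtain ⟨τ, hτ⟩ := MTImage.exists_lift_geomPt (ψ ≫ f)
  obtain ⟨B, _, b, hb⟩ := (hP.2.2.2 ((ψ ≫ f) (IsLocalRing.closedPoint _))).2.2.2
  haveI : IsMonHom ((Over.pullback ψ).map ((Over.pullback f).map p)) := inferInstance
  refine ⟨inferInstance, MorphismProperty.overPullbackMap (P := @IsClosedImmersion) ψ _
      (MorphismProperty.overPullbackMap (P := @IsClosedImmersion) f p hP.2.1),
    MorphismProperty.pullback_snd (P := @Smooth) _ ψ (inferInstanceAs (Smooth (pullback.snd P.hom f))), ?_⟩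
  have h2 := BorelConj.isBorelOver_ext (isReductive_bc _ hG) (hG.2.2 _) _ hb τ
  rw [Functor.map_comp] at h2
  obtain ⟨eP, heP, hP'⟩ := MaxTorusBC.exists_trIso hτ P
  obtain ⟨eG, heG, hG'⟩ := MaxTorusBC.exists_trIso hτ G
  obtain ⟨dP, hdP, hdP'⟩ := MaxTorusBC.exists_trIso (rfl : ψ ≫ f = ψ ≫ f) P
  obtain ⟨dG, hdG, hdG'⟩ := MaxTorusBC.exists_trIso (rfl : ψ ≫ f = ψ ≫ f) G
  haveI : IsMonHom eP.hom := hP'
  haveI : IsMonHom eG.hom := hG'
  haveI : IsMonHom dP.hom := hdP'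
  haveI : IsMonHom dG.hom := hdG'
  haveI : IsMonHom eP.symm.hom := inferInstanceAs (IsMonHom eP.inv)
  haveI : IsMonHom dG.symm.hom := inferInstanceAs (IsMonHom dG.inv)
  haveI := hb.1
  let B' := (Over.pullback τ).obj B
  let e : Red.bc ψ (Red.bc f G) ≅ Red.bc τ (Red.bc _ G) := dG.symm ≪≫ eG
  haveI : IsMonHom e.hom := inferInstanceAs (IsMonHom (dG.inv ≫ eG.hom))
  refine ⟨B', inferInstance, (Over.pullback τ).map b ≫ eP.inv ≫ dP.hom, ?_⟩
  haveI : IsMonHom (Iso.refl B').hom := inferInstanceAs (IsMonHom (𝟙 _))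
  refine BorelConj.isBorelOver_ambient (Iso.refl B') e _ _ ?_ h2
  have h3 : dP.hom ≫ (Over.pullback ψ).map ((Over.pullback f).map p) ≫ e.hom =
      eP.hom ≫ (Over.pullback τ).map ((Over.pullback (Red.geomPt _)).map p) := by
    show _ ≫ _ ≫ dG.inv ≫ eG.hom = _
    rw [hdP, ← reassoc_of% (MTImage.trIso_natural (rfl : ψ ≫ f = ψ ≫ f) p), ← hdG, Iso.hom_inv_id_assoc, heG,
      MTImage.trIso_natural hτ p, heP]
  simp only [Iso.refl_hom, Category.id_comp, Category.assoc]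
  rw [h3, Iso.inv_hom_id_assoc]

/-- A splitting chart: an étale neighbourhood on which the parabolic subgroup is `P(λ)` for a cocharacter `λ` of the
torus. -/
theorem exists_chart {G P T : Over S} [GrpObj G] [GrpObj P] [GrpObj T] (hG : Red.IsReductive G) (p : P ⟶ G)
    (hP : Red.IsParabolic p) (t : T ⟶ P) [IsMonHom t] (hT : Red.IsMaximalTorus (t ≫ p)) (s : S) :
    ∃ (S' : Scheme.{u}) (f : S' ⟶ S), Etale f ∧ s ∈ Set.range f.base ∧
      ∃ c : Red.DS S' ℤ ⟶ Red.bc f T, IsMonHom c ∧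
        IsP (c ≫ (Over.pullback f).map (t ≫ p)) ((Over.pullback f).map p) := by
  haveI := hP.1; haveI := hT.1; haveI := hP.2.1; haveI := hG.1; haveI := hG.2.1
  obtain ⟨S₁, e, r, he, ⟨s₁, hs₁⟩, ⟨E⟩⟩ := RootBase.exists_etale_split hT.2.2.1 s
  haveI := he
  let F := Over.pullback e
  have hG₁ : Red.IsReductive (Red.bc e G) := isReductive_bc e hG
  have hi₁ := Chev.MaxTorusBC.isMaximalTorus_bc (t ≫ p) hT e
  have hc₀ := RootBase.isMaximalTorus_DS hi₁ E
  let D : Red.DS S₁ (Fin r → ℤ) ⟶ F.obj T := E.inv.hom.hom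
  haveI hD : IsMonHom D := E.inv.hom.isMonHom_hom
  obtain ⟨V, hV, lam, hVP⟩ := exists_nhd_isP hG₁ (D ≫ F.map (t ≫ p)) hc₀ (F.map p)
    (isParabolic_bc e hG hP) (D ≫ F.map t) (by rw [Category.assoc, ← F.map_comp]) s₁
  let f : (V : Scheme.{u}) ⟶ S := V.ι ≫ e
  obtain ⟨eT, heT, hT'⟩ := MaxTorusBC.exists_trIso (rfl : V.ι ≫ e = f) T
  obtain ⟨eG, heG, hG'⟩ := MaxTorusBC.exists_trIso (rfl : V.ι ≫ e = f) G
  obtain ⟨eP, heP, hP'⟩ := MaxTorusBC.exists_trIso (rfl : V.ι ≫ e = f) P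
  haveI : IsMonHom eT.hom := hT'
  haveI : IsMonHom eG.hom := hG'
  haveI : IsMonHom eP.hom := hP'
  haveI : IsMonHom eG.symm.hom := inferInstanceAs (IsMonHom eG.inv)
  haveI : IsMonHom (bcHom' V.ι D) := isMonHom_bcHom' V.ι D
  let c : Red.DS (V : Scheme.{u}) ℤ ⟶ Red.bc f T :=
    (Red.DSmap (V : Scheme.{u}) lam ≫ bcHom' V.ι D) ≫ eT.inv
  haveI : IsMonHom (Red.DSmap (V : Scheme.{u}) lam ≫ bcHom' V.ι D) :=
    isMonHom_comp' (Red.DSmap (V : Scheme.{u}) lam) (bcHom' V.ι D)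
  haveI : IsMonHom eT.symm.hom := inferInstanceAs (IsMonHom eT.inv)
  have hc : IsMonHom c := isMonHom_comp' (Red.DSmap (V : Scheme.{u}) lam ≫ bcHom' V.ι D) eT.symm.hom
  refine ⟨V, f, inferInstanceAs (Etale (V.ι ≫ e)), ⟨⟨s₁, hV⟩, hs₁⟩, c, hc, ?_⟩
  refine isP_transport hVP eG.symm eP ?_ ?_
  · have hn : (Over.pullback V.ι).map (F.map (t ≫ p)) ≫ eG.inv = eT.inv ≫ (Over.pullback f).map (t ≫ p) := by
      rw [Iso.eq_inv_comp, ← Category.assoc, Iso.comp_inv_eq, heT, heG, MTImage.trIso_natural]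
    show (Red.DSmap _ lam ≫ ej V.ι _ ≫ (Over.pullback V.ι).map (D ≫ F.map (t ≫ p))) ≫ eG.inv = _
    rw [Functor.map_comp]
    simp only [c, bcHom', Category.assoc]
    rw [hn]
  · show eP.hom ≫ (Over.pullback V.ι).map (F.map p) ≫ eG.inv = _
    rw [← Category.assoc, Iso.comp_inv_eq, heP, heG, MTImage.trIso_natural]

end Groth.Agent.ParStd
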