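import Groth.Agent.ParStd.LeviExists
import Groth.Agent.UnipTor.Main
import Groth.Agent.MTImage.ToriConj
import Groth.Agent.MTImage.Torus

/-!
# Maximal tori of a Levi subgroup are maximal tori of the group
-/

set_option autoImplicit false
set_option linter.style.haveILetI false
set_option backward.isDefEq.respectTransparency false
set_option backward.isDefEq.respectTransparency.types false
set_option maxHeartbeats 2000000
set_option synthInstance.maxHeartbeats 400000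

universe u

open CategoryTheory Limits MonoidalCategory CartesianMonoidalCategory MonObj AlgebraicGeometry LieS
open scoped CategoryTheory.Obj

noncomputable section

namespace Groth.Agent.ParStd

open Groth.Agent.HomDiag Groth.Agent.DynPar Groth.Agent.MTBridge Groth.Agent.Chev

variable {S : Scheme.{u}}

/-- The retraction onto a Levi subgroup. -/
theorem exists_retraction {P L : Over S} [GrpObj P] [GrpObj L] {l : L ⟶ P} (hl : Par.IsLevi l) :
    ∃ (U : Over S) (_ : GrpObj U) (u : U ⟶ P) (r : P ⟶ L), Par.IsUnipotentRadical u ∧ IsMonHom r ∧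
      l ≫ r = 𝟙 L ∧ u ≫ r = 1 ∧ ∀ (X : Over S) (x : X ⟶ P), x ≫ r = 1 → ∃ y, y ≫ u = x := by
  obtain ⟨hlm, hlmono, -, U, _, u, hu, hiso⟩ := hl
  haveI := hlm; haveI := hiso; haveI := hu.1
  let r : P ⟶ L := CategoryTheory.inv ((l ⊗ₘ u) ≫ μ) ≫ fst L U
  have hspec : ∀ {X : Over S} (a : X ⟶ L) (b : X ⟶ U), ((a ≫ l) * (b ≫ u)) ≫ r = a := by
    intro X a b
    rw [← lift_mul, Category.assoc, show r = CategoryTheory.inv ((l ⊗ₘ u) ≫ μ) ≫ fst L U from rfl,
      IsIso.hom_inv_id_assoc, lift_fst]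
  have hdec : ∀ {X : Over S} (x : X ⟶ P), ∃ (a : X ⟶ L) (b : X ⟶ U), (a ≫ l) * (b ≫ u) = x := fun {X} x =>
    ⟨(x ≫ CategoryTheory.inv ((l ⊗ₘ u) ≫ μ)) ≫ fst L U, (x ≫ CategoryTheory.inv ((l ⊗ₘ u) ≫ μ)) ≫ snd L U, by
      rw [← lift_mul, show lift ((x ≫ CategoryTheory.inv ((l ⊗ₘ u) ≫ μ)) ≫ fst L U)
        ((x ≫ CategoryTheory.inv ((l ⊗ₘ u) ≫ μ)) ≫ snd L U) = x ≫ CategoryTheory.inv ((l ⊗ₘ u) ≫ μ) by
        rw [← comp_lift, lift_fst_snd, Category.comp_id], Category.assoc, IsIso.inv_hom_id, Category.comp_id]⟩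
  have h1 : ∀ {X : Over S}, (1 : X ⟶ U) ≫ u = 1 := fun {X} => (IsMonHom.monoidHom u X).map_one
  have h1' : ∀ {X : Over S}, (1 : X ⟶ L) ≫ l = 1 := fun {X} => (IsMonHom.monoidHom l X).map_one
  refine ⟨U, inferInstance, u, r, hu, MTTorus.isMonHom_of_mul r fun x y => ?_, ?_, ?_, fun X x hx => ?_⟩
  · obtain ⟨a, b, rfl⟩ := hdec x
    obtain ⟨a', b', rfl⟩ := hdec y
    obtain ⟨b'', hb⟩ := hu.2.2.1 _ (a' ≫ l)⁻¹ b
    rw [_root_.inv_inv] at hb
    rw [hspec, hspec, show (a ≫ l) * (b ≫ u) * ((a' ≫ l) * (b' ≫ u)) = ((a * a') ≫ l) * ((b'' * b') ≫ u) by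
      rw [MonObj.mul_comp, MonObj.mul_comp, ← hb]
      group, hspec]
  · have h := hspec (𝟙 L) (1 : L ⟶ U)
    rw [h1, _root_.mul_one, Category.id_comp] at h
    exact h
  · have h := hspec (1 : U ⟶ L) (𝟙 U)
    rw [h1', _root_.one_mul, Category.id_comp] at h
    exact h
  · obtain ⟨a, b, rfl⟩ := hdec x
    rw [hspec] at hx
    exact ⟨b, by rw [hx, h1', _root_.one_mul]⟩

section Field

variable {k : Type u} [Field k] [IsAlgClosed k]

/-- A maximal torus of a retract with kernel without subtori is maximal. -/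
theorem isMaxTorus_of_retraction {P L U T : Over (Spec (CommRingCat.of k))} [GrpObj P] [GrpObj L] [GrpObj U]
    [GrpObj T] [IsAffineHom L.hom] [Smooth L.hom] (l : L ⟶ P) [IsMonHom l] [Mono l] (r : P ⟶ L) [IsMonHom r]
    (hlr : l ≫ r = 𝟙 L) (u : U ⟶ P) [IsMonHom u] [Mono u] [IsAffine U.left] [Smooth U.hom] [ConnectedSpace U.left]
    (hU : Red.HasNoSubtorus k U)
    (hker : ∀ (X : Over (Spec (CommRingCat.of k))) (x : X ⟶ P), x ≫ r = 1 → ∃ y, y ≫ u = x)
    (t : T ⟶ L) (hT : AGF.IsMaxTorus t) : AGF.IsMaxTorus (t ≫ l) := by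
  obtain ⟨htm, htmono, hTt, hmax⟩ := hT
  haveI := htm; haveI := htmono
  refine ⟨inferInstance, mono_comp _ _, hTt, fun T' _ j _ _ f hT' hf => ?_⟩
  haveI : IsMonHom f := MTSplit.isMonHom_of_comp_mono f j (t ≫ l) hf
  obtain ⟨Q, _, q, m, hqm, hmm, hmono, hQ, -, -, hqm'⟩ := MTImage.exists_image_torus hT' (j ≫ r)
  haveI := hqm; haveI := hmm; haveI := hmono
  have hfq : (f ≫ q) ≫ m = t := by
    rw [Category.assoc, hqm', reassoc_of% hf, hlr, Category.comp_id]
  haveI : IsIso (f ≫ q) := hmax Q m (f ≫ q) hQ hfq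
  haveI : IsMonHom (f ≫ q) := inferInstance
  haveI : Mono (f ≫ q) := @IsIso.mono_of_iso _ _ _ _ (f ≫ q) inferInstance
  haveI : IsMonHom (CategoryTheory.inv (f ≫ q)) :=
    MTSplit.isMonHom_of_comp_mono (CategoryTheory.inv (f ≫ q)) (f ≫ q) (𝟙 Q) (IsIso.inv_hom_id _)
  let g : T' ⟶ T := q ≫ CategoryTheory.inv (f ≫ q)
  have hfg : f ≫ g = 𝟙 T := by
    show f ≫ q ≫ CategoryTheory.inv (f ≫ q) = 𝟙 T
    rw [← Category.assoc, IsIso.hom_inv_id]
  have hgr : g ≫ f ≫ j ≫ r = j ≫ r := by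
    have h2 : f ≫ j ≫ r = (f ≫ q) ≫ m := by rw [hfq, reassoc_of% hf, hlr, Category.comp_id]
    show (q ≫ CategoryTheory.inv (f ≫ q)) ≫ f ≫ j ≫ r = j ≫ r
    rw [h2, Category.assoc, IsIso.inv_hom_id_assoc, hqm']
  haveI : IsMonHom (g ≫ f) := inferInstance
  let φ : T' ⟶ T' := 𝟙 T' * (g ≫ f)⁻¹
  haveI : IsMonHom φ := MTTorus.isMonHom_of_mul φ fun a b => by
    simp only [φ, MonObj.comp_mul, GrpObj.comp_inv, Category.comp_id, MonObj.mul_comp, _root_.mul_inv_rev]
    simp only [_root_.mul_assoc, _root_.mul_left_cancel_iff]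
    rw [← _root_.mul_assoc, RedR1.mul_comm_torus hT']
  have hφ : (φ ≫ j) ≫ r = 1 := by
    simp only [φ, MonObj.mul_comp, GrpObj.inv_comp, Category.id_comp, Category.assoc]
    rw [hgr, mul_inv_cancel]
  obtain ⟨y, hy⟩ := hker T' (φ ≫ j) hφ
  haveI : IsMonHom y := MTSplit.isMonHom_of_comp_mono y u (φ ≫ j) hy
  have hy1 := UnipTor.eq_one_of_hasNoSubtorus hU (MTBridge.isMultTypeFT_of_isTorus T' hT') y
  have hφ1 : φ = 1 := by
    rw [← cancel_mono j, ← hy, hy1, show (1 : T' ⟶ U) ≫ u = 1 from (IsMonHom.monoidHom u T').map_one,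
      show (1 : T' ⟶ T') ≫ j = 1 from (IsMonHom.monoidHom j T').map_one]
  exact ⟨g, hfg, (mul_inv_eq_one.1 hφ1).symm⟩

/-- A parabolic subgroup contains a maximal torus, and its maximal tori are maximal in the group. -/
theorem isMaxTorus_of_parabolic {G P T : Over (Spec (CommRingCat.of k))} [GrpObj G] [GrpObj P] [GrpObj T]
    [IsAffine G.left] [Smooth G.hom] [ConnectedSpace G.left] (p : P ⟶ G) (hP : Red.IsParabolicOver k p)
    (t : T ⟶ P) (hT : AGF.IsMaxTorus t) : AGF.IsMaxTorus (t ≫ p) := by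
  obtain ⟨hpm, hpc, hps, B, _, b, hb⟩ := hP
  haveI := hpm; haveI := hpc; haveI := hps; haveI := hb.1; haveI := hb.2.1
  haveI : IsAffineHom G.hom := isAffineHom_of_isAffine G.hom
  haveI : IsAffineHom P.hom := by rw [← Over.w p]; infer_instance
  haveI : Mono p := Over.mono_of_mono_left p
  haveI := hT.1; haveI := hT.2.1
  obtain ⟨T₀, B₁, _, _, t₀, b₁, -, -, -, hT₀, -⟩ := Chev.Borel.exists_maxTorus G
  haveI := hT₀.1
  obtain ⟨g, t', ht'⟩ := BorelConj.exists_torus_conj (b ≫ p) hb (t₀ ≫ b₁) hT₀.2.2.1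
  let i₀ : T₀ ⟶ P := t' ≫ b
  have hi₀ : Red.IsMaximalTorus (i₀ ≫ p) := by
    rw [show i₀ ≫ p = _ from (Category.assoc _ _ _).trans ht']
    exact RedCartan.isMaximalTorus_conjBy g _ (Chev.Borel.isMaximalTorus_of_isMaxTorus _ hT₀)
  haveI := hi₀.1; haveI := hi₀.2.1
  haveI : IsMonHom i₀ := MTSplit.isMonHom_of_comp_mono i₀ p _ rfl
  haveI : Mono i₀ := mono_of_mono i₀ p
  have hi₀P : AGF.IsMaxTorus i₀ := ⟨inferInstance, inferInstance, hi₀.2.2.1, fun T'' _ j _ _ f hT'' hf =>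
    (Chev.Borel.isMaxTorus_of_isMaximalTorus _ hi₀).2.2.2 T'' (j ≫ p) f hT'' (by rw [← Category.assoc, hf])⟩
  obtain ⟨x, e, hx⟩ := MTImage.exists_conjBy_maxTori t hT i₀ hi₀P
  have h1 : AGF.conjBy (x ≫ p) (t ≫ p) = e.hom ≫ i₀ ≫ p := by
    rw [← Category.assoc e.hom, ← hx, MonObj.mul_comp, MonObj.mul_comp, GrpObj.inv_comp]
    simp only [AGF.conjBy, Category.assoc]
  haveI : IsMonHom (t ≫ p) := inferInstance
  haveI : IsMonHom (AGF.conjBy (x ≫ p) (t ≫ p)) := Chev.Borel.isMonHom_conjBy (x ≫ p) (t ≫ p)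
  haveI : IsMonHom e.hom := MTSplit.isMonHom_of_comp_mono e.hom (i₀ ≫ p) _ (h1.symm)
  haveI : IsMonHom e.inv := inferInstance
  haveI : IsMonHom (Iso.refl G).hom := inferInstanceAs (IsMonHom (𝟙 _))
  haveI : IsMonHom e.symm.hom := inferInstanceAs (IsMonHom e.inv)
  have h2 := Chev.MaxTorusBC.isMaxTorus_of_iso e.symm (Iso.refl G) (i₀ ≫ p) (AGF.conjBy (x ≫ p) (t ≫ p))
    (by rw [h1]; simp) hT.2.2.1 (Chev.Borel.isMaxTorus_of_isMaximalTorus _ hi₀)
  have h3 := RedCartan.isMaximalTorus_conjBy (x ≫ p)⁻¹ _ (Chev.Borel.isMaximalTorus_of_isMaxTorus _ h2)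
  rw [Chev.Borel.conjBy_conjBy, inv_mul_cancel, Chev.Borel.conjBy_one] at h3
  exact Chev.Borel.isMaxTorus_of_isMaximalTorus _ h3

end Field

/-- **A maximal torus of a retract of a parabolic subgroup, with unipotent kernel, is a maximal torus of the
group.** -/
theorem isMaximalTorus_of_retraction {G P L U T : Over S} [GrpObj G] [GrpObj P] [GrpObj L] [GrpObj U] [GrpObj T]
    (hG : Red.IsReductive G) (p : P ⟶ G) (hP : Red.IsParabolic p) (l : L ⟶ P) [IsMonHom l] [Mono l]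
    [IsAffineHom L.hom] [Smooth L.hom] (u : U ⟶ P) [IsMonHom u] [IsClosedImmersion u.left] [Smooth U.hom]
    (r : P ⟶ L) [IsMonHom r] (hlr : l ≫ r = 𝟙 L)
    (hker : ∀ (X : Over S) (x : X ⟶ P), x ≫ r = 1 → ∃ y, y ≫ u = x)
    (hfib : ∀ s : S, ConnectedSpace (Red.geomFibre s U).left ∧
      Red.HasNoSubtorus (AlgebraicClosure (S.residueField s)) (Red.geomFibre s U))
    (t : T ⟶ L) (hT : Red.IsMaximalTorus t) : Red.IsMaximalTorus (t ≫ l ≫ p) := by
  haveI := hP.1; haveI := hP.2.1; haveI := hT.1; haveI := hT.2.1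
  haveI := hG.1
  haveI : Mono p := Over.mono_of_mono_left p
  haveI : IsAffineHom P.hom := by rw [← Over.w p]; infer_instance
  haveI : IsAffineHom U.hom := by rw [← Over.w u]; infer_instance
  refine ⟨inferInstance, inferInstance, hT.2.2.1, fun s T' _ j _ _ f hT' hf => ?_⟩
  let ψ := Red.geomPt s
  let F := Over.pullback ψ
  haveI : PreservesLimitsOfShape WalkingCospan F :=
    (Over.mapPullbackAdj ψ).rightAdjoint_preservesLimits.preservesLimitsOfShape
  have hGs := hG.2.2 s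
  haveI : IsAffine (F.obj G).left := hGs.1
  haveI : Smooth (F.obj G).hom := hGs.2.1
  haveI : ConnectedSpace (F.obj G).left := hGs.2.2.1
  haveI : IsAffineHom (F.obj L).hom := inferInstanceAs (IsAffineHom (pullback.snd L.hom ψ))
  haveI : Smooth (F.obj L).hom := inferInstanceAs (Smooth (pullback.snd L.hom ψ))
  haveI : IsAffineHom (F.obj U).hom := inferInstanceAs (IsAffineHom (pullback.snd U.hom ψ))
  haveI : IsAffine (F.obj U).left := isAffine_of_isAffineHom (F.obj U).hom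
  haveI : Smooth (F.obj U).hom := inferInstanceAs (Smooth (pullback.snd U.hom ψ))
  haveI : ConnectedSpace (F.obj U).left := (hfib s).1
  haveI : Mono u := Over.mono_of_mono_left u
  have h1 : AGF.IsMaxTorus (F.map t) :=
    ⟨inferInstance, inferInstance, Borel.isTorus_bc_scheme T ψ hT.2.2.1, hT.2.2.2 s⟩
  have h2 : AGF.IsMaxTorus (F.map t ≫ F.map l) :=
    isMaxTorus_of_retraction (F.map l) (F.map r) (by rw [← F.map_comp, hlr, CategoryTheory.Functor.map_id])
      (F.map u) (hfib s).2 (fun X x hx => by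
        rw [exists_fac_bc_iff]
        refine hker _ _ ?_
        have h := congrArg (DynPar.fromB ψ) hx
        rw [show DynPar.fromB ψ (x ≫ F.map r) = DynPar.fromB ψ x ≫ r from
          (Over.mapPullbackAdj ψ).homEquiv_naturality_right_symm x r] at h
        rw [h]
        exact ((Over.mapPullbackAdj ψ).homEquiv X L).symm_apply_eq.2
          (map_one (MonoidHom.mk' (fun a : (Over.map ψ).obj X ⟶ L => MTBridge.toBC ψ a) (MTBridge.toBC_mul ψ))).symm)
      (F.map t) h1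
  have h3 := isMaxTorus_of_parabolic (F.map p) (hP.2.2.2 s) (F.map t ≫ F.map l) h2
  exact h3.2.2.2 T' j f hT' (by rw [hf, Functor.map_comp, Functor.map_comp, Category.assoc])

end Groth.Agent.ParStd
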