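import Groth.Agent.RootBase.Main
import Groth.Agent.RootBase.Borel
import Groth.Agent.DynPar.Borel
import Groth.Agent.ParNorm.Main
import Groth.Agent.BorelConj.CocharReg

/-!
# Subgroups containing the tangent vectors of a dynamical subgroup contain that subgroup
-/

set_option autoImplicit false
set_option linter.style.haveILetI false
set_option backward.isDefEq.respectTransparency false
set_option backward.isDefEq.respectTransparency.types false
set_option maxHeartbeats 1000000
set_option synthInstance.maxHeartbeats 400000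

universe u

open CategoryTheory Limits MonoidalCategory CartesianMonoidalCategory MonObj AlgebraicGeometry LieS
open scoped CategoryTheory.Obj

noncomputable section

namespace Groth.Agent.ParStd

open Groth.Agent.HomDiag Groth.Agent.DynPar Groth.Agent.RootSys Groth.Agent.MTBridge
open Groth.Agent.DynPar.Der (dv)

variable {k : Type u} [Field k]

/-- A smooth closed subgroup of a smooth connected group with the same tangent vectors is everything. -/
theorem isIso_of_lieField {A H : Over (Spec (CommRingCat.of k))} [GrpObj A] [GrpObj H] [IsAffine H.left]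
    [Smooth H.hom] [ConnectedSpace H.left] [Smooth A.hom] (q : A ⟶ H) [IsMonHom q] [IsClosedImmersion q.left]
    (h : ∀ v : Lie H k (fk k), v ∈ (LieS.map k (fk k) q).range) : IsIso q :=
  isIso_of_tan q fun v hv => by
    obtain ⟨w, hw⟩ := h ⟨v, hv⟩
    exact ⟨w.1, congrArg Subtype.val hw⟩

variable {G P : Over (Spec (CommRingCat.of k))} [GrpObj G] [GrpObj P] [IsAffine G.left] [Smooth G.hom]
  [ConnectedSpace G.left] {M : Type} [AddCommGroup M] {j : Red.DS (Spec (CommRingCat.of k)) M ⟶ G} [IsMonHom j]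
  {p : P ⟶ G} [IsMonHom p] [IsClosedImmersion p.left] [Smooth P.hom]
  {t : Red.DS (Spec (CommRingCat.of k)) M ⟶ P}

omit [ConnectedSpace G.left] [IsClosedImmersion p.left] [Smooth P.hom] in
/-- Weight components of a tangent vector in a range. -/
theorem mem_range_of_wts {v : Lie G k (fk k)} (h : ∀ (d : M) (w : Lie G k (fk k)), IsWt j w d →
      (∀ x, dv w x = dv v (wc j x d)) → w ∈ (LieS.map k (fk k) p).range) :
    v ∈ (LieS.map k (fk k) p).range := by
  obtain ⟨F, w, hw, hwt, hv⟩ := exists_wt_decomp j v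
  rw [hv]
  exact Subgroup.prod_mem _ fun d _ => h d (w d) (hwt d) fun x => hw d x

/-- If all tangent vectors of non-negative weight lie in the subgroup, all points with a limit do. -/
theorem le_of_wt_nonneg (ht : t ≫ p = j) (θ : M →+ ℤ)
    (hθ : ∀ (d : M) (v : Lie G k (fk k)), IsWt j v d → 0 ≤ θ d → v ∈ (LieS.map k (fk k) p).range)
    {X : Over (Spec (CommRingCat.of k))} (g : X ⟶ G)
    (hg : ∀ (B : Type u) [CommRing B] (f : Spec (CommRingCat.of B) ⟶ Spec (CommRingCat.of k)) (y : pt B f ⟶ X),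
      y ≫ g ∈ PSub f (Red.DSmap _ θ ≫ j)) : ∃ z, z ≫ p = g := by
  haveI : IsAffineHom G.hom := isAffineHom_of_isAffine _
  haveI : IsAffine P.left := isAffine_of_isAffineHom p.left
  haveI : IsAffineHom P.hom := isAffineHom_of_isAffine _
  haveI : Mono p := Over.mono_of_mono_left p
  haveI : IsMonHom t := MTSplit.isMonHom_of_comp_mono t p j ht
  haveI : IsMonHom (Red.DSmap (Spec (CommRingCat.of k)) θ ≫ j) := isMonHom_comp' (Red.DSmap (Spec (CommRingCat.of k)) θ) j
  haveI : IsMonHom (Red.DSmap (Spec (CommRingCat.of k)) θ ≫ t) := isMonHom_comp' (Red.DSmap (Spec (CommRingCat.of k)) θ) t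
  obtain ⟨PG, _, pG, hG⟩ := exists_isP (G := G) (Red.DSmap _ θ ≫ j)
  obtain ⟨PP, _, pP, hP⟩ := exists_isP (G := P) (Red.DSmap _ θ ≫ t)
  obtain ⟨UG, _, uG, hU⟩ := exists_isU (G := G) (Red.DSmap _ θ ≫ j)
  haveI := hG.1; haveI := hG.2.1; haveI := hP.1; haveI := hP.2.1
  haveI : Smooth PG.hom := smooth_isP inferInstance _ hG
  haveI : Smooth PP.hom := smooth_isP inferInstance _ hP
  haveI : ConnectedSpace PG.left := (field_fibre _ hG hU).1 inferInstance
  haveI : IsAffine PG.left := isAffine_of_isAffineHom pG.left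
  haveI : Mono pG := Over.mono_of_mono_left pG
  haveI : Mono pP := Over.mono_of_mono_left pP
  obtain ⟨e, he⟩ := hG.exists_le (pP ≫ p) fun B _ f y => by
    have h := comp_mem_PSub f (Red.DSmap _ θ ≫ t) p ((hP.2.2 _ pP).1 ⟨𝟙 _, Category.id_comp _⟩ B f y)
    rw [Category.assoc (Red.DSmap _ θ) t p, ht] at h
    rwa [← Category.assoc]
  haveI : IsMonHom e := MTSplit.isMonHom_of_comp_mono e pG _ he
  haveI : IsClosedImmersion e.left := by
    haveI : IsClosedImmersion (e.left ≫ pG.left) := by rw [← Over.comp_left, he, Over.comp_left]; infer_instance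
    exact IsClosedImmersion.of_comp e.left pG.left
  haveI : IsIso e := isIso_of_lieField e fun v => by
    have hv : ((LieS.map k (fk k) pG v).1 : pt (DualNumber k) (fd (fk k)) ⟶ G) ∈
        PSub (fd (fk k)) (Red.DSmap _ θ ≫ j) := hG.exists_fac_iff.1 ⟨(v.1 : pt (DualNumber k) (fd (fk k)) ⟶ PG), rfl⟩
    obtain ⟨w, hw⟩ := mem_range_of_wts (p := p) (v := LieS.map k (fk k) pG v) fun d u hu hu' => by
      by_cases hd : 0 ≤ θ d
      · exact hθ d u hu hd
      · rw [show u = 1 from Der.dv_injective (funext fun x => by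
          rw [hu', Der.dv_one, dv_wc_eq_zero_of_mem_PSub j θ hv x (not_le.1 hd)])]
        exact Subgroup.one_mem _
    have hwP : ((w.1 : pt (DualNumber k) (fd (fk k)) ⟶ P)) ∈ PSub (fd (fk k)) (Red.DSmap _ θ ≫ t) := by
      refine BorelConj.mem_PSub_of_comp p ?_
      rw [Category.assoc (Red.DSmap _ θ) t p, ht]
      rw [show (w.1 : pt (DualNumber k) (fd (fk k)) ⟶ P) ≫ p = (LieS.map k (fk k) pG v).1 from congrArg Subtype.val hw]
      exact hv
    obtain ⟨z, hz⟩ := hP.exists_fac_iff.2 hwP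
    have hz0 : zeroSec k (fk k) ≫ z = 1 := by
      rw [← cancel_mono pP, Category.assoc, hz, (mem_Lie_iff P k (fk k) _).1 w.2]
      exact (MonObj.one_comp pP).symm
    refine ⟨⟨z, (mem_Lie_iff PP k (fk k) _).2 hz0⟩, RootSys.map_injective pG (Subtype.ext ?_)⟩
    show (z ≫ e) ≫ pG = v.1 ≫ pG
    rw [Category.assoc, he, ← Category.assoc, hz]
    exact congrArg Subtype.val hw
  obtain ⟨z, hz⟩ := hG.exists_le g hg
  exact ⟨z ≫ inv e ≫ pP, by
    rw [Category.assoc, Category.assoc, ← he, IsIso.inv_hom_id_assoc, hz]⟩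

/-- If all tangent vectors of weight killed by a functional lie in the subgroup, all fixed points do. -/
theorem le_of_wt_zero (ht : t ≫ p = j) (θ : M →+ ℤ)
    (hθ : ∀ (d : M) (v : Lie G k (fk k)), IsWt j v d → θ d = 0 → v ∈ (LieS.map k (fk k) p).range)
    {B : Type u} [CommRing B] {f : Spec (CommRingCat.of B) ⟶ Spec (CommRingCat.of k)} (g : pt B f ⟶ G)
    (hg : g ∈ ZSub f (Red.DSmap _ θ ≫ j)) : ∃ z, z ≫ p = g := by
  haveI : IsAffineHom G.hom := isAffineHom_of_isAffine _
  haveI : IsAffine P.left := isAffine_of_isAffineHom p.left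
  haveI : IsAffineHom P.hom := isAffineHom_of_isAffine _
  haveI : Mono p := Over.mono_of_mono_left p
  haveI : IsMonHom t := MTSplit.isMonHom_of_comp_mono t p j ht
  haveI : IsMonHom (Red.DSmap (Spec (CommRingCat.of k)) θ ≫ j) := isMonHom_comp' (Red.DSmap (Spec (CommRingCat.of k)) θ) j
  haveI : IsMonHom (Red.DSmap (Spec (CommRingCat.of k)) θ ≫ t) := isMonHom_comp' (Red.DSmap (Spec (CommRingCat.of k)) θ) t
  obtain ⟨ZG, _, zG, hZG, hzGc, hzGs⟩ := exists_centralizer_DS (G := G) inferInstance inferInstance (Red.DSmap _ θ ≫ j)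
  obtain ⟨ZP, _, zP, hZP, hzPc, hzPs⟩ := exists_centralizer_DS (G := P) inferInstance inferInstance (Red.DSmap _ θ ≫ t)
  haveI := hzGc; haveI := hzGs; haveI := hzPc; haveI := hzPs; haveI := hZG.1; haveI := hZP.1
  haveI := hZG.2.1; haveI := hZP.2.1
  obtain ⟨PG, _, pG, hG⟩ := exists_isP (G := G) (Red.DSmap _ θ ≫ j)
  obtain ⟨UG, _, uG, hU⟩ := exists_isU (G := G) (Red.DSmap _ θ ≫ j)
  haveI : ConnectedSpace PG.left := (field_fibre _ hG hU).1 inferInstance
  obtain ⟨L⟩ := exists_leviData hG hU hZG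
  haveI : ConnectedSpace ZG.left := connectedSpace_of_retract L.l L.r L.l_r
  haveI : IsAffine ZG.left := isAffine_of_isAffineHom zG.left
  obtain ⟨e, he⟩ := (hZG.2.2 _ (zP ≫ p)).2 fun X x h => by
    have hc : (x ≫ zP) * (h ≫ Red.DSmap _ θ ≫ t) = (h ≫ Red.DSmap _ θ ≫ t) * (x ≫ zP) :=
      (hZP.2.2 _ _).1 ⟨𝟙 _, Category.id_comp _⟩ X x h
    have hc' := congrArg (fun z => z ≫ p) hc
    simp only [MonObj.mul_comp, Category.assoc, ht] at hc'
    simpa only [Category.assoc] using hc'
  haveI : IsMonHom e := MTSplit.isMonHom_of_comp_mono e zG _ he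
  haveI : IsClosedImmersion e.left := by
    haveI : IsClosedImmersion (e.left ≫ zG.left) := by rw [← Over.comp_left, he, Over.comp_left]; infer_instance
    exact IsClosedImmersion.of_comp e.left zG.left
  haveI : IsIso e := isIso_of_lieField e fun v => by
    have hv : ((LieS.map k (fk k) zG v).1 : pt (DualNumber k) (fd (fk k)) ⟶ G) ∈
        ZSub (fd (fk k)) (Red.DSmap _ θ ≫ j) := mem_ZSub_of_centralizer hZG (v.1 : pt (DualNumber k) (fd (fk k)) ⟶ ZG)
    obtain ⟨w, hw⟩ := mem_range_of_wts (p := p) (v := LieS.map k (fk k) zG v) fun d u hu hu' => by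
      by_cases hd : θ d = 0
      · exact hθ d u hu hd
      · rw [show u = 1 from Der.dv_injective (funext fun x => by
          rw [hu', Der.dv_one, ← rp_vec_snd,
            (DynPar.mem_ZSub_iff j θ gens_univ).1 hv x (Set.mem_univ x) d hd, TrivSqZeroExt.snd_zero])]
        exact Subgroup.one_mem _
    have hwP : (w.1 : pt (DualNumber k) (fd (fk k)) ⟶ P) ∈ ZSub (fd (fk k)) (Red.DSmap _ θ ≫ t) :=
      (mem_ZSub_iff_commute _ _).2 fun B' _ f' x h => by
        rw [← cancel_mono p, MonObj.mul_comp, MonObj.mul_comp]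
        simp only [Category.assoc, ht]
        rw [show (w.1 : pt (DualNumber k) (fd (fk k)) ⟶ P) ≫ p = (LieS.map k (fk k) zG v).1 from congrArg Subtype.val hw]
        exact (mem_ZSub_iff_commute _ _).1 hv B' f' x h
    obtain ⟨z, hz⟩ := exists_centralizer_lift hZP hwP
    have hz0 : zeroSec k (fk k) ≫ z = 1 := by
      rw [← cancel_mono zP, Category.assoc, hz, (mem_Lie_iff P k (fk k) _).1 w.2]
      exact (MonObj.one_comp zP).symm
    refine ⟨⟨z, (mem_Lie_iff ZP k (fk k) _).2 hz0⟩, RootSys.map_injective zG (Subtype.ext ?_)⟩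
    show (z ≫ e) ≫ zG = v.1 ≫ zG
    rw [Category.assoc, he, ← Category.assoc, hz]
    exact congrArg Subtype.val hw
  obtain ⟨z, hz⟩ := exists_centralizer_lift hZG hg
  exact ⟨z ≫ inv e ≫ zP, by
    rw [Category.assoc, Category.assoc, ← he, IsIso.inv_hom_id_assoc, hz]⟩

end Groth.Agent.ParStd
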