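import Groth.Agent.Chev.LineFixed
import Mathlib.Algebra.MonoidAlgebra.Basic

/-!
# Germs at the origin of functions on the multiplicative group
-/

set_option autoImplicit false
set_option backward.isDefEq.respectTransparency false

universe u

noncomputable section

namespace Groth.Agent.ParStd

open Groth.Agent.Chev.LineFixed (O F τ res res_algebraMap τ_ne_zero)

variable {k : Type u} [Field k]

/-- The powers of the parameter. -/
def tauPow : Multiplicative ℤ →* F k where
  toFun m := τ k ^ m.toAdd
  map_one' := by simp
  map_mul' a b := by rw [toAdd_mul, zpow_add₀ (τ_ne_zero k)]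

/-- The germ of the multiplicative group at the origin. -/
def germ : AddMonoidAlgebra k ℤ →ₐ[k] F k := AddMonoidAlgebra.lift k (F k) ℤ tauPow

/-- The inclusion of the local ring into its field of fractions. -/
abbrev iotaF (k : Type u) [Field k] : O k →+* F k := algebraMap (O k) (F k)

theorem germ_single (m : ℤ) (r : k) : germ (AddMonoidAlgebra.single m r) = algebraMap k (F k) r * τ k ^ m := by
  rw [germ, AddMonoidAlgebra.lift_single, Algebra.smul_def]
  rfl

/-- A regular germ has no negative part. -/
theorem eq_zero_of_germ {m : ℤ} (hm : m < 0) {r : k}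
    (h : ∃ x : O k, iotaF k x = germ (AddMonoidAlgebra.single m r)) : r = 0 := by
  obtain ⟨x, hx⟩ := h
  rw [germ_single] at hx
  obtain ⟨n, rfl⟩ : ∃ n : ℕ, m = -((n + 1 : ℕ) : ℤ) := ⟨m.natAbs - 1, by omega⟩
  have h1 : algebraMap (O k) (F k) (x * algebraMap (Polynomial k) (O k) Polynomial.X ^ (n + 1)) =
      algebraMap (O k) (F k) (algebraMap (Polynomial k) (O k) (Polynomial.C r)) := by
    rw [map_mul, map_pow, hx, show algebraMap (O k) (F k) (algebraMap (Polynomial k) (O k) Polynomial.X) = τ k from rfl,
      zpow_neg, zpow_natCast, _root_.mul_assoc, inv_mul_cancel₀ (pow_ne_zero _ (τ_ne_zero k)), _root_.mul_one,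
      ← Polynomial.algebraMap_eq, ← IsScalarTower.algebraMap_apply, ← IsScalarTower.algebraMap_apply]
  have h2 := congrArg (res (k := k) k) (IsFractionRing.injective (O k) (F k) h1)
  rw [map_mul, map_pow, res_algebraMap, res_algebraMap, Polynomial.eval_X, Polynomial.eval_C, zero_pow (by omega),
    mul_zero] at h2
  exact h2.symm

end Groth.Agent.ParStd
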