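import Groth.Agent.RootSys.Flag
import Groth.Agent.BorelConj.CocharReg
import Groth.Agent.BorelConj.Etale
import Groth.Agent.Chev.LineFixed
import Groth.Agent.Chev.GeomPtIso
import Groth.Agent.RootSys.Bruhat
import Groth.Agent.RedCartan.Global
import Groth.Agent.ParStd.Germ

/-!
# Two Borel subgroups contain a common maximal torus
-/

set_option autoImplicit false
set_option linter.style.haveILetI false
set_option linter.unusedSectionVars false
set_option backward.isDefEq.respectTransparency false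
set_option maxHeartbeats 2000000
set_option synthInstance.maxHeartbeats 400000

universe u

open CategoryTheory Limits MonoidalCategory CartesianMonoidalCategory MonObj AlgebraicGeometry LieS
open scoped CategoryTheory.Obj
open Groth.Agent.SubGen (rpt map_rpt apply_eq_rpt)

noncomputable section

namespace Groth.Agent.ParStd

open Groth.Agent.HomDiag Groth.Agent.DynPar Groth.Agent.RootSys
open Groth.Agent.Chev.LineFixed (O F τ res res_algebraMap τ_ne_zero exists_ext)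

variable {k : Type u} [Field k]

local notation "S₀" => Spec (CommRingCat.of k)

variable [IsAlgClosed k]

/-- A point of a cell with a limit at the origin on the orbit of a cocharacter. -/
theorem mem_PSub_of_germ {G : Over S₀} [GrpObj G] [IsAffine G.left] (c : Red.DS S₀ ℤ ⟶ G) [IsMonHom c]
    (g : pt k (𝟙 S₀) ⟶ G) {fO : Spec (CommRingCat.of (O k)) ⟶ S₀} {fF : Spec (CommRingCat.of (F k)) ⟶ S₀}
    (hF : Spec.map (CommRingCat.ofHom (germ (k := k)).toRingHom) ≫ fL (𝟙 S₀) ℤ = fF)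
    (hO : Spec.map (CommRingCat.ofHom (iotaF k)) ≫ fO = fF) (h : pt (O k) fO ⟶ G)
    (he : qm (iotaF k) hO ≫ h = qm (germ (k := k)).toRingHom hF ≫ orb (𝟙 S₀) c g) :
    g ∈ PSub (𝟙 S₀) c := by
  refine (mem_PSub_iff' c).2 fun a m hm => eq_zero_of_germ hm ⟨rp h (wc c a m), ?_⟩
  have e := congr(rp $he (wc c a m))
  rw [rp_qm, rp_qm, RingHom.comp_apply, RingHom.comp_apply] at e
  have e1 := rp_orb_wc (f := 𝟙 S₀) c (AddMonoidHom.id ℤ) g a m
  rw [DSmap_id, Category.id_comp] at e1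
  rw [e1] at e
  exact e

/-- The cell at a fixed point of a maximal torus in the space of Borel subgroups. -/
theorem exists_fixed_cell {G B : Over S₀} [GrpObj G] [GrpObj B] (hred : Red.IsReductiveOver k G) {M : Type}
    [AddCommGroup M] [Module.Free ℤ M] [Module.Finite ℤ M] (j : Red.DS S₀ M ⟶ G) (hj : AGF.IsMaxTorus j)
    (b : B ⟶ G) (hB : Red.IsBorelOver k b) {X : Over S₀} [IsProper X.hom] (a : AlgGrp.Action G X) (o : Chev.RP X)
    [Flat (a.orbitMap o).left] [Surjective (a.orbitMap o).left]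
    (hmem : ∀ (T : Over S₀) (g : T ⟶ G), (∃ h : T ⟶ B, h ≫ b = g) ↔ g ≫ a.orbitMap o = toUnit T ≫ o)
    (y : Chev.RP X) (hy : ∀ (T : Over S₀) (t : T ⟶ Red.DS S₀ M), (t ≫ j) ≫ a.orbitMap y = toUnit T ≫ y) :
    ∃ (gy : Chev.RP G) (nu : M →+ ℤ) (U : Over S₀) (_ : GrpObj U) (u : U ⟶ G) (ty : Red.DS S₀ M ⟶ B),
      IsMonHom u ∧ IsU (Red.DSmap S₀ nu ≫ j) u ∧ y = gy ≫ a.orbitMap o ∧ ty ≫ AGF.conjBy gy b = j ∧
        IsOpenImmersion (u ≫ a.orbitMap y).left := by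
  haveI := hred.1; haveI := hred.2.1; haveI := hred.2.2.1
  haveI := hj.1; haveI := hj.2.1
  haveI : IsAffineHom G.hom := isAffineHom_of_isAffine _
  obtain ⟨gy, hgy⟩ := Chev.Borel.exists_rp_preimage (a.orbitMap o) y
  have hby : Red.IsBorelOver k (AGF.conjBy gy b) := Chev.Borel.isBorelOver_conjBy gy b hB
  haveI := hby.1; haveI := hby.2.1
  haveI : Mono (AGF.conjBy gy b) := Over.mono_of_mono_left _
  haveI : IsIso (Chev.tr gy : G ⟶ G) := ⟨Chev.tr gy⁻¹, by rw [Chev.tr_tr, mul_inv_cancel, Chev.tr_one],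
    by rw [Chev.tr_tr, inv_mul_cancel, Chev.tr_one]⟩
  haveI : IsIso (Chev.tr gy : G ⟶ G).left := inferInstanceAs (IsIso ((Over.forget _).map (Chev.tr gy)))
  subst hgy
  haveI : Flat (a.orbitMap (gy ≫ a.orbitMap o)).left := by
    rw [Chev.Borel.orbitMap_translate, Over.comp_left]; infer_instance
  haveI : Surjective (a.orbitMap (gy ≫ a.orbitMap o)).left := by
    rw [Chev.Borel.orbitMap_translate, Over.comp_left]; infer_instance
  have hmemy : ∀ (T : Over S₀) (g : T ⟶ G), (∃ h : T ⟶ B, h ≫ AGF.conjBy gy b = g) ↔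
      g ≫ a.orbitMap (gy ≫ a.orbitMap o) = toUnit T ≫ gy ≫ a.orbitMap o := fun T g => by
    let gT : T ⟶ G := toUnit T ≫ gy
    let oT : T ⟶ X := toUnit T ≫ o
    have h1 : g ≫ a.orbitMap (gy ≫ a.orbitMap o) = lift (g * gT) oT ≫ a.act := by
      rw [Chev.Borel.orbitMap_translate, ← Category.assoc, Chev.comp_tr, GrpAct.comp_orbitMap]
    have h2 : toUnit T ≫ gy ≫ a.orbitMap o = lift gT oT ≫ a.act := by
      rw [← Category.assoc, GrpAct.comp_orbitMap]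
    have hc : ∀ h : T ⟶ B, h ≫ AGF.conjBy gy b = gT * (h ≫ b) * gT⁻¹ := fun h => Chev.Borel.comp_conjBy gy b h
    rw [h1, h2]
    constructor
    · rintro ⟨h, rfl⟩
      have e := (hmem T (h ≫ b)).1 ⟨h, rfl⟩
      rw [GrpAct.comp_orbitMap] at e
      rw [hc, inv_mul_cancel_right, GrpAct.mul_smul, e]
    · intro e
      obtain ⟨h, hh⟩ := (hmem T (gT⁻¹ * g * gT)).2 (by
        rw [GrpAct.comp_orbitMap, _root_.mul_assoc, GrpAct.mul_smul, e, ← GrpAct.mul_smul, inv_mul_cancel,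
          GrpAct.one_smul'])
      exact ⟨h, by rw [hc, hh]; group⟩
  obtain ⟨ty, hty⟩ := (hmemy _ j).2 (by
    have h := hy _ (𝟙 _)
    rwa [Category.id_comp] at h)
  obtain ⟨nu, -, P₀, _, p₀, e₀, hP₀, he₀⟩ := BorelConj.exists_cochar_regular hred j hj _ hby ty hty
  haveI := hP₀.1; haveI := hP₀.2.1
  haveI : Mono p₀ := Over.mono_of_mono_left p₀
  haveI : IsMonHom (Red.DSmap S₀ nu ≫ j) := isMonHom_comp' (Red.DSmap S₀ nu) j
  have hneg : Red.DSmap S₀ (-nu) ≫ j = negC (Red.DSmap S₀ nu ≫ j) := by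
    rw [negC, ← Category.assoc, RootIntrinsic.DSmap_comp_apply]
    congr 2
  haveI : IsMonHom (Red.DSmap S₀ (-nu) ≫ j) := isMonHom_comp' (Red.DSmap S₀ (-nu)) j
  obtain ⟨U, _, u, hu⟩ := exists_isU (G := G) (Red.DSmap S₀ (-nu) ≫ j)
  obtain ⟨-, hopen, -, -⟩ := exists_cell_open _ _ hneg hu hP₀
  refine ⟨gy, -nu, U, inferInstance, u, ty, hu.1, hu, rfl, hty, ?_⟩
  haveI : IsSeparated X.hom := inferInstance
  refine isOpenImmersion_orbit p₀ u a _ (fun T g => ⟨fun ⟨h, hh⟩ => (hmemy T g).1 ⟨h ≫ e₀.hom, by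
    rw [Category.assoc, he₀, hh]⟩, fun hg => ?_⟩) hopen
  obtain ⟨h, hh⟩ := (hmemy T g).2 hg
  exact ⟨h ≫ e₀.inv, by rw [Category.assoc, ← he₀, Iso.inv_hom_id_assoc, hh]⟩

omit [IsAlgClosed k] in
/-- Undoing a translation by a point of a torus. -/
theorem resAction_cancel {T G X : Over S₀} [GrpObj T] [GrpObj G] (j : T ⟶ G) [IsMonHom j] (a : AlgGrp.Action G X)
    (t : Chev.RP T) (w z : Chev.RP X) (h : z = lift t w ≫ (Chev.BorelFixed.resAction j a).act) :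
    lift (t⁻¹ ≫ j) z ≫ a.act = w := by
  rw [h, Chev.Borel.resAction_smul, ← GrpAct.mul_smul, ← MonObj.mul_comp, inv_mul_cancel, MonObj.one_comp,
    GrpAct.one_smul']

omit [IsAlgClosed k] in
/-- Undoing a translation by a point of a torus, at any base point. -/
theorem orbit_cancel {T G X Y : Over S₀} [GrpObj T] [GrpObj G] (j : T ⟶ G) [IsMonHom j] (a : AlgGrp.Action G X)
    (t : Y ⟶ T) (o : Chev.RP X) : lift (t⁻¹ ≫ j) ((t ≫ j) ≫ a.orbitMap o) ≫ a.act = toUnit Y ≫ o := by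
  rw [GrpAct.comp_orbitMap, ← GrpAct.mul_smul, ← MonObj.mul_comp, inv_mul_cancel, MonObj.one_comp, GrpAct.one_smul']

/-- A Borel subgroup and a maximal torus of a second one. -/
theorem exists_torus_borels_aux {G B B' : Over S₀} [GrpObj G] [GrpObj B] [GrpObj B'] (hred : Red.IsReductiveOver k G)
    (b : B ⟶ G) (hB : Red.IsBorelOver k b) (b' : B' ⟶ G) (hB' : Red.IsBorelOver k b') {r : ℕ}
    (j : Red.DS S₀ (Fin r → ℤ) ⟶ G) (hjR : Red.IsMaximalTorus j) (hj : AGF.IsMaxTorus j)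
    (tj : Red.DS S₀ (Fin r → ℤ) ⟶ B') (htj : tj ≫ b' = j) :
    ∃ (T : Over S₀) (_ : GrpObj T) (i : T ⟶ G), AGF.IsMaxTorus i ∧ (∃ t : T ⟶ B, t ≫ b = i) ∧
      ∃ t : T ⟶ B', t ≫ b' = i := by
  classical
  haveI := hred.1; haveI := hred.2.1; haveI := hred.2.2.1
  haveI := hB.1; haveI := hB.2.1; haveI := hB'.1; haveI := hB'.2.1
  haveI : IsAffineHom G.hom := isAffineHom_of_isAffine _
  haveI : Mono b' := Over.mono_of_mono_left b'
  haveI := hj.1; haveI := hj.2.1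
  haveI hT : Red.IsTorus (Red.DS S₀ (Fin r → ℤ)) := hj.2.2.1
  haveI := Chev.isAffine_of_isTorus hT
  haveI := Chev.smooth_of_isTorus hT
  haveI := Chev.connectedSpace_of_isTorus hT
  haveI : Group.IsSolvable (Chev.RP (Red.DS S₀ (Fin r → ℤ))) := Group.isSolvable_of_comm fun a c => ch_ext fun m => by rw [ch_mul, ch_mul, mul_comm]
  obtain ⟨mu, -, P', _, p', e', hP', he'⟩ := BorelConj.exists_cochar_regular hred j hj b' hB' tj htj
  haveI : IsMonHom (Red.DSmap S₀ mu ≫ j) := isMonHom_comp' (Red.DSmap S₀ mu) j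
  let c := Red.DSmap S₀ mu ≫ j
  obtain ⟨X, a, o, hX, hflat, hsurj, hmem⟩ := exists_flag b hB
  haveI := hX; haveI := hflat; haveI := hsurj
  let Fix : Set (Chev.RP X) :=
    {y | ∀ (T : Over S₀) (t : T ⟶ Red.DS S₀ (Fin r → ℤ)), (t ≫ j) ≫ a.orbitMap y = toUnit T ≫ y}
  choose gy nu U hUg u ty hum hu hy hty hop using fun y : Fix => exists_fixed_cell hred j hj b hB a o hmem y.1 y.2
  -- the cells are stable
  have hsmul : ∀ (y : Fix) {T : Over S₀} (g h : T ⟶ G), (g * h) ≫ a.orbitMap y.1 = lift g (h ≫ a.orbitMap y.1) ≫ a.act :=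
    fun y T g h => by rw [GrpAct.comp_orbitMap, GrpAct.mul_smul, GrpAct.comp_orbitMap]
  have hstab : ∀ (y : Fix) {A : Type u} [CommRing A] (f : Spec (CommRingCat.of A) ⟶ S₀)
      (t : pt A f ⟶ Red.DS S₀ (Fin r → ℤ)) (z : pt A f ⟶ U y), ∃ z' : pt A f ⟶ U y,
        z' ≫ u y = (t ≫ j) * (z ≫ u y) * (t ≫ j)⁻¹ ∧
        z' ≫ u y ≫ a.orbitMap y.1 = lift (t ≫ j) (z ≫ u y ≫ a.orbitMap y.1) ≫ a.act := fun y A _ f t z => by
    obtain ⟨z', hz'⟩ := (hu y).exists_fac_iff.2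
      (conj_mem_USub (RootSys.comp_mem_ZSub j (nu y) t) ((hu y).exists_fac_iff.1 ⟨z, rfl⟩))
    refine ⟨z', hz', ?_⟩
    rw [← Category.assoc, hz', hsmul]
    have h1 : (t ≫ j)⁻¹ ≫ a.orbitMap y.1 = toUnit _ ≫ y.1 := by
      rw [show (t ≫ j)⁻¹ = t⁻¹ ≫ j from (GrpObj.inv_comp t j).symm]
      exact y.2 _ _
    rw [h1, ← GrpAct.comp_orbitMap, hsmul, Category.assoc]
  -- the cells cover
  let Z : Set X.left := {x | ∀ y : Fix, x ∉ Set.range (u y ≫ a.orbitMap y.1).left}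
  have hZc : IsClosed Z := by
    have : Z = ⋂ y : Fix, (Set.range (u y ≫ a.orbitMap y.1).left)ᶜ := by ext x; simp [Z]
    rw [this]
    exact isClosed_iInter fun y => by haveI := hop y; exact (u y ≫ a.orbitMap y.1).left.isOpenMap.isOpen_range.isClosed_compl
  have hZ : ∀ x, x ∉ Z := fun x hx => by
    let aT := Chev.BorelFixed.resAction j a
    obtain ⟨z, hz, hzfix⟩ := exists_fixed_mem aT hZc ⟨x, hx⟩ fun t w hw y hmemr => by
      haveI := hop y
      obtain ⟨v, hv⟩ := exists_rp_open (u y ≫ a.orbitMap y.1) _ hmemr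
      obtain ⟨v', -, hv'⟩ := hstab y (𝟙 S₀) ((t : pt k (𝟙 S₀) ⟶ _)⁻¹) v
      refine hw y ⟨rpt v', ?_⟩
      rw [map_rpt]
      congr 1
      refine hv'.trans ?_
      exact resAction_cancel j a t w _ hv
    have hzF : z ∈ Fix := fun T t => by
      have h := hzfix T t
      rw [Chev.Borel.resAction_smul] at h
      rw [GrpAct.comp_orbitMap]
      exact h
    haveI := hum ⟨z, hzF⟩
    refine hz ⟨z, hzF⟩ ⟨rpt (1 : Chev.RP (U ⟨z, hzF⟩)), ?_⟩
    rw [map_rpt]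
    congr 1
    rw [← Category.assoc, MonObj.one_comp, GrpAct.comp_orbitMap, GrpAct.one_smul',
      toUnit_unique (toUnit (𝟙_ (Over S₀))) (𝟙 _), Category.id_comp]
  -- the curve
  let fO : Spec (CommRingCat.of (O k)) ⟶ S₀ := Spec.map (CommRingCat.ofHom (algebraMap k (O k)))
  let fF : Spec (CommRingCat.of (F k)) ⟶ S₀ := Spec.map (CommRingCat.ofHom (algebraMap k (F k)))
  have hOF : Spec.map (CommRingCat.ofHom (iotaF k)) ≫ fO = fF := by
    rw [← Spec.map_comp, ← CommRingCat.ofHom_comp, ← IsScalarTower.algebraMap_eq]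
  have hgF : Spec.map (CommRingCat.ofHom (germ (k := k)).toRingHom) ≫ fL (𝟙 S₀) ℤ = fF := by
    show _ ≫ Spec.map _ ≫ 𝟙 S₀ = _
    rw [Category.comp_id, ← Spec.map_comp, ← CommRingCat.ofHom_comp]
    exact congrArg (fun φ => Spec.map (CommRingCat.ofHom φ)) (germ (k := k)).comp_algebraMap
  let ρ : pt (F k) fF ⟶ pt (O k) fO := qm (iotaF k) hOF
  let γ₀ : pt (F k) fF ⟶ pt (AddMonoidAlgebra k ℤ) (fL (𝟙 S₀) ℤ) := qm (germ (k := k)).toRingHom hgF
  let tF : pt (F k) fF ⟶ Red.DS S₀ (Fin r → ℤ) := γ₀ ≫ xu (𝟙 S₀) ℤ ≫ Red.DSmap S₀ mu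
  let e : pt (F k) fF ⟶ X := (tF ≫ j) ≫ a.orbitMap o
  obtain ⟨e₀, he₀⟩ := exists_ext e
  have hee : ρ ≫ e₀ = e := by
    rw [← he₀]
    exact congrArg (· ≫ e₀) (Over.OverMorphism.ext rfl)
  -- the cell of the limit
  obtain ⟨y, hyr⟩ : ∃ y : Fix, e₀.left (IsLocalRing.closedPoint (O k)) ∈ Set.range (u y ≫ a.orbitMap y.1).left := by
    by_contra hc
    push Not at hc
    exact hZ _ hc
  haveI := hop y
  haveI : Mono (u y ≫ a.orbitMap y.1) := Over.mono_of_mono_left _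
  have hr : Set.range e₀.left ⊆ Set.range (u y ≫ a.orbitMap y.1).left := by
    rintro _ ⟨x, rfl⟩
    exact ((IsLocalRing.specializes_closedPoint (R := O k) x).map e₀.left.continuous).mem_open
      (u y ≫ a.orbitMap y.1).left.isOpenMap.isOpen_range hyr
  let h : pt (O k) fO ⟶ U y := Over.homMk (IsOpenImmersion.lift (u y ≫ a.orbitMap y.1).left e₀.left hr) (by
    rw [← Over.w (u y ≫ a.orbitMap y.1), IsOpenImmersion.lift_fac_assoc, Over.w e₀])
  have hh : h ≫ u y ≫ a.orbitMap y.1 = e₀ := Over.OverMorphism.ext (IsOpenImmersion.lift_fac _ _ _)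
  -- back to the origin
  obtain ⟨z₀, hz₀, hz₀o⟩ := hstab y fF tF⁻¹ (ρ ≫ h)
  have hz₀' : z₀ ≫ u y ≫ a.orbitMap y.1 = toUnit _ ≫ o := by
    rw [hz₀o, Category.assoc ρ, hh, hee]
    exact orbit_cancel j a tF o
  obtain ⟨g, hg⟩ : ∃ g : Chev.RP (U y), g ≫ u y ≫ a.orbitMap y.1 = o := by
    refine exists_rp_open (u y ≫ a.orbitMap y.1) o ⟨z₀.left (IsLocalRing.closedPoint (F k)), ?_⟩
    rw [← Scheme.Hom.comp_apply, ← Over.comp_left, hz₀', Over.comp_left, Scheme.Hom.comp_apply, apply_eq_rpt]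
  have hzg : z₀ = toUnit _ ≫ g := by
    rw [← cancel_mono (u y ≫ a.orbitMap y.1), hz₀', Category.assoc, hg]
  -- the point has a limit
  have hgP : ((g ≫ u y : Chev.RP G) : pt k (𝟙 S₀) ⟶ G) ∈ PSub (𝟙 S₀) c := by
    refine mem_PSub_of_germ c _ hgF hOF (h ≫ u y) ?_
    have hq : γ₀ ≫ qc ℤ (𝟙 S₀) = toUnit (pt (F k) fF) := toUnit_unique _ _
    have ht : γ₀ ≫ xu (𝟙 S₀) ℤ ≫ c = tF ≫ j := by simp only [tF, c, Category.assoc]
    show ρ ≫ h ≫ u y = γ₀ ≫ orb (𝟙 S₀) c _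
    rw [orb_apply, MonObj.comp_mul, MonObj.comp_mul, GrpObj.comp_inv, ht, ← Category.assoc γ₀ (qc ℤ (𝟙 S₀)), hq,
      ← Category.assoc (toUnit _), ← hzg, hz₀, GrpObj.inv_comp, _root_.inv_inv]
    group
    exact (Category.assoc _ _ _).symm
  obtain ⟨q, hq⟩ := hP'.exists_fac_iff.2 hgP
  -- the torus
  let w : Chev.RP G := g ≫ u y
  have hc1 : AGF.conjBy w j = (ty y) ≫ AGF.conjBy (w * gy y) b := by
    rw [← Chev.Borel.conjBy_conjBy, Chev.Borel.comp_conjBy' w (ty y), hty]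
  have hwo : lift (w * gy y) o ≫ a.act = o := by
    conv_rhs => rw [← hg, hy y, ← Category.assoc, GrpAct.comp_orbitMap,
      toUnit_unique (toUnit (𝟙_ (Over S₀))) (𝟙 _), Category.id_comp, GrpAct.comp_orbitMap,
      toUnit_unique (toUnit (𝟙_ (Over S₀))) (𝟙 _), Category.id_comp, ← GrpAct.mul_smul]
  obtain ⟨s, hs⟩ := (hmem _ (w * gy y)).2 (by
    rw [GrpAct.comp_orbitMap, toUnit_unique (toUnit (𝟙_ (Over S₀))) (𝟙 _), Category.id_comp, hwo])
  refine ⟨_, inferInstance, AGF.conjBy w j, Chev.Borel.isMaxTorus_of_isMaximalTorus _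
      (RedCartan.isMaximalTorus_conjBy w j hjR),
    ⟨ty y ≫ AGF.conjBy s (𝟙 B), ?_⟩, tj ≫ AGF.conjBy (q ≫ e'.hom) (𝟙 B'), ?_⟩
  · rw [hc1, Category.assoc, Chev.Borel.conjBy_comp, Category.id_comp, hs]
  · rw [Category.assoc, Chev.Borel.conjBy_comp, Category.id_comp, Category.assoc, he', hq, ← htj,
      Chev.Borel.comp_conjBy']


/-- **Two Borel subgroups contain a common maximal torus.** -/
theorem exists_torus_borels {G B B' : Over S₀} [GrpObj G] [GrpObj B] [GrpObj B'] (hred : Red.IsReductiveOver k G)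
    (b : B ⟶ G) (hB : Red.IsBorelOver k b) (b' : B' ⟶ G) (hB' : Red.IsBorelOver k b') :
    ∃ (T : Over S₀) (_ : GrpObj T) (i : T ⟶ G), AGF.IsMaxTorus i ∧ (∃ t : T ⟶ B, t ≫ b = i) ∧
      ∃ t : T ⟶ B', t ≫ b' = i := by
  haveI := hred.1; haveI := hred.2.1; haveI := hred.2.2.1
  haveI := hB'.1; haveI := hB'.2.1
  obtain ⟨T₀, B₁, _, _, t₀, b₁, -, -, -, hT₀, -⟩ := Chev.Borel.exists_maxTorus G
  haveI := hT₀.1
  obtain ⟨g₁, t₁, ht₁⟩ := BorelConj.exists_torus_conj b' hB' (t₀ ≫ b₁) hT₀.2.2.1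
  have hi₁ : AGF.IsMaxTorus (t₁ ≫ b') := by
    rw [ht₁]
    exact Chev.Borel.isMaxTorus_of_isMaximalTorus _
      (RedCartan.isMaximalTorus_conjBy g₁ _ (Chev.Borel.isMaximalTorus_of_isMaxTorus _ hT₀))
  obtain ⟨r, ⟨E⟩⟩ := Chev.Borel.split_of_isTorus hi₁.2.2.1
  have hjR : Red.IsMaximalTorus (E.inv.hom.hom ≫ t₁ ≫ b') :=
    RootBase.isMaximalTorus_DS (Chev.Borel.isMaximalTorus_of_isMaxTorus _ hi₁) E
  exact exists_torus_borels_aux hred b hB b' hB' _ hjR (Chev.Borel.isMaxTorus_of_isMaximalTorus _ hjR)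
    (E.inv.hom.hom ≫ t₁) (Category.assoc _ _ _)

end Groth.Agent.ParStd
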