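import Groth.Agent.ParStd.Comb
import Groth.Agent.ParStd.Tangent
import Groth.Agent.BorelConj.Etale
import Groth.Agent.RootBase.Datum
import Groth.Agent.RootBase.Comb
import Groth.Agent.BorelConj.Weight

/-!
# Parabolic subgroups through a split maximal torus over an algebraically closed field
-/

set_option autoImplicit false
set_option linter.style.haveILetI false
set_option linter.unusedSectionVars false
set_option backward.isDefEq.respectTransparency false
set_option backward.isDefEq.respectTransparency.types false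
set_option maxHeartbeats 2000000
set_option synthInstance.maxHeartbeats 400000

universe u

open CategoryTheory Limits MonoidalCategory CartesianMonoidalCategory MonObj AlgebraicGeometry LieS
open scoped CategoryTheory.Obj

noncomputable section

namespace Groth.Agent.ParStd

open Groth.Agent.HomDiag Groth.Agent.DynPar Groth.Agent.RootSys Groth.Agent.MTBridge
open Groth.Agent.DynPar.Der (dv)

variable {k : Type u} [Field k] [IsAlgClosed k]

/-- A parabolic subgroup containing a torus contains a Borel subgroup of the group containing it. -/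
theorem exists_borel_le {G P T : Over (Spec (CommRingCat.of k))} [GrpObj G] [GrpObj P] [GrpObj T] [IsAffine G.left]
    [Smooth G.hom] [ConnectedSpace G.left] {p : P ⟶ G} (hP : Red.IsParabolicOver k p) (t : T ⟶ P) [IsMonHom t]
    (hT : Red.IsTorus T) :
    ∃ (B : Over (Spec (CommRingCat.of k))) (_ : GrpObj B) (b : B ⟶ G) (t' : T ⟶ B) (q : B ⟶ P),
      Red.IsBorelOver k b ∧ t' ≫ b = t ≫ p ∧ q ≫ p = b := by
  haveI := ParNorm.connectedSpace_parabolic hP
  obtain ⟨hm, hc, hs, B, _, b, hb⟩ := hP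
  haveI := hm; haveI := hc; haveI := hs
  haveI : Mono p := Over.mono_of_mono_left p
  haveI : IsAffine P.left := isAffine_of_isAffineHom p.left
  obtain ⟨hbm, hbc, hbs, hbconn, hbsol, hbmax⟩ := hb
  haveI := hbm; haveI := hbc
  haveI : IsMonHom b := MTSplit.isMonHom_of_comp_mono b p _ rfl
  haveI : IsClosedImmersion b.left := by
    haveI : IsClosedImmersion (b.left ≫ p.left) := by rw [← Over.comp_left]; exact hbc
    exact IsClosedImmersion.of_comp b.left p.left
  have hbP : Red.IsBorelOver k b := ⟨inferInstance, inferInstance, hbs, hbconn, hbsol,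
    fun B'' _ i'' _ f hi hs' hc' hsol hf => by
      haveI := hi
      haveI : IsClosedImmersion (i'' ≫ p).left := by rw [Over.comp_left]; infer_instance
      exact hbmax B'' (i'' ≫ p) f inferInstance hs' hc' hsol (by rw [← Category.assoc, hf])⟩
  obtain ⟨g, t', ht'⟩ := BorelConj.exists_torus_conj b hbP t hT
  refine ⟨B, inferInstance, AGF.conjBy (g ≫ p)⁻¹ (b ≫ p), t', AGF.conjBy g⁻¹ b,
    Chev.Borel.isBorelOver_conjBy _ _ ⟨hbm, hbc, hbs, hbconn, hbsol, hbmax⟩, ?_, ?_⟩
  · have h1 : t' ≫ b ≫ p = AGF.conjBy (g ≫ p) (t ≫ p) := by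
      rw [← Category.assoc, ht', AGF.conjBy, AGF.conjBy, MonObj.mul_comp, MonObj.mul_comp, GrpObj.inv_comp,
        Category.assoc]
    rw [Chev.Borel.comp_conjBy', h1, Chev.Borel.conjBy_conjBy, inv_mul_cancel, Chev.Borel.conjBy_one]
  · rw [AGF.conjBy, AGF.conjBy, MonObj.mul_comp, MonObj.mul_comp, GrpObj.inv_comp, Category.assoc,
      GrpObj.inv_comp]

variable {G P : Over (Spec (CommRingCat.of k))} [GrpObj G] [GrpObj P] {M : Type} [AddCommGroup M] [Module.Free ℤ M]
  [Module.Finite ℤ M] {j : Red.DS (Spec (CommRingCat.of k)) M ⟶ G}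

section Tan

variable [IsAffine G.left] [Smooth G.hom] [ConnectedSpace G.left] [IsMonHom j] {p : P ⟶ G} [IsMonHom p]
  [IsClosedImmersion p.left] [Smooth P.hom] {t : Red.DS (Spec (CommRingCat.of k)) M ⟶ P}

omit [IsAlgClosed k] [Module.Free ℤ M] [Module.Finite ℤ M] [Smooth G.hom] [ConnectedSpace G.left] [Smooth P.hom] in
/-- Fixed tangent vectors lie in a subgroup containing a self-centralizing torus. -/
theorem mem_range_zero (hself : Red.IsCentralizerOf j j) (ht : t ≫ p = j) (v : Lie G k (fk k))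
    (hv : IsWt j v 0) : v ∈ (LieS.map k (fk k) p).range := by
  haveI : Mono p := Over.mono_of_mono_left p
  obtain ⟨z, hz⟩ := exists_centralizer_lift hself ((mem_ZSub_iff_isWt_zero j v).2 hv)
  refine ⟨⟨z ≫ t, (mem_Lie_iff P k (fk k) _).2 ?_⟩, Subtype.ext ?_⟩
  · rw [← cancel_mono p, Category.assoc, Category.assoc, ht, hz, (mem_Lie_iff G k (fk k) _).1 v.2]
    exact (MonObj.one_comp p).symm
  · show (z ≫ t) ≫ p = v.1
    rw [Category.assoc, ht, hz]

omit [Smooth P.hom] in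
/-- Weight lines of non-zero weights. -/
theorem mem_range_line (hG : Red.IsReductive G) (hj : Red.IsMaximalTorus j) {a : M} {v w : Lie G k (fk k)}
    (ha : a ≠ 0) (hv : IsWt j v a) (hv1 : v ≠ 1) (hw : IsWt j w a) (hvR : v ∈ (LieS.map k (fk k) p).range) :
    w ∈ (LieS.map k (fk k) p).range := by
  let E : Grp.mk (Red.DS (Spec (CommRingCat.of k)) M) ≅ Grp.mk (Red.DS (Spec (CommRingCat.of k)) M) := Iso.refl _
  have hE : E.inv.hom.hom ≫ j = j := Category.id_comp j
  haveI : IsMonHom (E.inv.hom.hom ≫ j) := by rw [hE]; infer_instance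
  haveI : IsAffine P.left := isAffine_of_isAffineHom p.left
  by_cases hw1 : w = 1
  · rw [hw1]; exact Subgroup.one_mem _
  rcases (field_rank_one hG j hj E (hv.congr_hom hE.symm) ha hv1).2 a w (hw.congr_hom hE.symm) hw1 ha
    ⟨1, 1, one_ne_zero, rfl⟩ with ⟨-, r, rfl⟩ | h
  · obtain ⟨x, rfl⟩ := hvR
    exact ⟨r • x, RootSys.map_smul p r x⟩
  · have h2 : (2 : ℤ) • a = 0 := by rw [two_zsmul]; nth_rw 1 [h]; rw [neg_add_cancel]
    exact absurd ((smul_eq_zero.1 h2).resolve_left two_ne_zero) ha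

/-- The tangent vectors of positive weight for a Borel subgroup inside. -/
theorem mem_range_borel {B P₀ : Over (Spec (CommRingCat.of k))} [GrpObj B] [GrpObj P₀] {b : B ⟶ G} {p₀ : P₀ ⟶ G}
    (qB : B ⟶ P) (hqB : qB ≫ p = b) (e₀ : P₀ ≅ B) (he₀ : e₀.hom ≫ b = p₀) (mu : M →+ ℤ)
    (hP₀ : IsP (Red.DSmap (Spec (CommRingCat.of k)) mu ≫ j) p₀) {a : M} (ha : 0 ≤ mu a) (v : Lie G k (fk k))
    (hv : IsWt j v a) : v ∈ (LieS.map k (fk k) p).range := by
  haveI : Mono p := Over.mono_of_mono_left p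
  have hvP : (v.1 : pt (DualNumber k) (fd (fk k)) ⟶ G) ∈ PSub (fd (fk k)) (Red.DSmap (Spec (CommRingCat.of k)) mu ≫ j) :=
    IsWt.mem_PSub (Γ' := ℤ) j hv mu ha
  haveI : IsAffineHom G.hom := isAffineHom_of_isAffine _
  obtain ⟨z, hz⟩ := (IsP.exists_fac_iff (c := Red.DSmap (Spec (CommRingCat.of k)) mu ≫ j) hP₀
    (g := (v.1 : pt (DualNumber k) (fd (fk k)) ⟶ G))).2 hvP
  refine ⟨⟨z ≫ e₀.hom ≫ qB, (mem_Lie_iff P k (fk k) _).2 ?_⟩, Subtype.ext ?_⟩
  · rw [← cancel_mono p]
    simp only [Category.assoc, hqB, he₀, hz]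
    rw [(mem_Lie_iff G k (fk k) _).1 v.2]
    exact (MonObj.one_comp p).symm
  · show (z ≫ e₀.hom ≫ qB) ≫ p = v.1
    simp only [Category.assoc, hqB, he₀, hz]

/-- The points of the subgroup have limits for a functional non-negative on its weights. -/
theorem mem_PSub_of_wts (ht : t ≫ p = j) [ConnectedSpace P.left] (lam : M →+ ℤ)
    (hlam : ∀ (d : M) (v : Lie G k (fk k)), IsWt j v d → v ≠ 1 → v ∈ (LieS.map k (fk k) p).range → 0 ≤ lam d)
    {B' : Type u} [CommRing B'] {f : Spec (CommRingCat.of B') ⟶ Spec (CommRingCat.of k)} (y : pt B' f ⟶ P) :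
    y ≫ p ∈ PSub f (Red.DSmap (Spec (CommRingCat.of k)) lam ≫ j) := by
  haveI : IsAffineHom G.hom := isAffineHom_of_isAffine _
  haveI : IsAffine P.left := isAffine_of_isAffineHom p.left
  haveI : IsAffineHom P.hom := isAffineHom_of_isAffine _
  haveI : Mono p := Over.mono_of_mono_left p
  haveI : IsMonHom t := MTSplit.isMonHom_of_comp_mono t p j ht
  haveI : IsMonHom (Red.DSmap (Spec (CommRingCat.of k)) lam ≫ t) :=
    isMonHom_comp' (Red.DSmap (Spec (CommRingCat.of k)) lam) t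
  obtain ⟨Q, _, q, hQ⟩ := exists_isP (G := P) (Red.DSmap (Spec (CommRingCat.of k)) lam ≫ t)
  haveI := hQ.1; haveI := hQ.2.1
  haveI : Mono q := Over.mono_of_mono_left q
  haveI : Smooth Q.hom := smooth_isP inferInstance _ hQ
  haveI : IsIso q := isIso_of_lieField q fun v => by
    obtain ⟨F, w, hw, hwt, hv⟩ := exists_wt_decomp t v
    rw [hv]
    refine Subgroup.prod_mem _ fun d _ => ?_
    by_cases hw1 : w d = 1
    · rw [hw1]; exact Subgroup.one_mem _
    have hd : 0 ≤ lam d := hlam d _ ((hwt d).map (φ := p) j ht)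
      (fun h => hw1 (RootSys.map_injective p (h.trans (map_one _).symm))) ⟨_, rfl⟩
    obtain ⟨z, hz⟩ := (IsP.exists_fac_iff (c := Red.DSmap (Spec (CommRingCat.of k)) lam ≫ t) hQ
      (g := ((w d).1 : pt (DualNumber k) (fd (fk k)) ⟶ P))).2 (IsWt.mem_PSub (Γ' := ℤ) t (hwt d) lam hd)
    refine ⟨⟨z, (mem_Lie_iff Q k (fk k) _).2 ?_⟩, Subtype.ext hz⟩
    rw [← cancel_mono q, Category.assoc, hz, (mem_Lie_iff P k (fk k) _).1 (w d).2]
    exact (MonObj.one_comp q).symm
  have h1 : y ∈ PSub f (Red.DSmap (Spec (CommRingCat.of k)) lam ≫ t) :=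
    (IsP.exists_fac_iff hQ (g := y)).1 ⟨y ≫ inv q, by simp⟩
  have h := comp_mem_PSub f (Red.DSmap (Spec (CommRingCat.of k)) lam ≫ t) p h1
  rwa [Category.assoc (Red.DSmap (Spec (CommRingCat.of k)) lam) t p, ht] at h

/-- The symmetric part of the weights is stable under its reflections. -/
theorem mem_range_refl (hG : Red.IsReductive G) (hj : Red.IsMaximalTorus j) (hself : Red.IsCentralizerOf j j)
    (ht : t ≫ p = j) {a : M} (ha0 : a ≠ 0) {e : M →+ ℤ} (hco : IsCorootOf j a e)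
    (ha : ∀ v, IsWt j v a → v ∈ (LieS.map k (fk k) p).range)
    (ha' : ∀ v, IsWt j v (-a) → v ∈ (LieS.map k (fk k) p).range)
    {d : M} {w : Lie G k (fk k)} (hw : IsWt j w d) (hw1 : w ≠ 1) (hwR : w ∈ (LieS.map k (fk k) p).range) :
    ∃ w' : Lie G k (fk k), IsWt j w' (refl' a e d) ∧ w' ≠ 1 ∧ w' ∈ (LieS.map k (fk k) p).range := by
  classical
  haveI : Mono p := Over.mono_of_mono_left p
  obtain ⟨hfin, D, hDlin, hDroot, -, -, -⟩ := RootBase.exists_datum hG j hj
  obtain ⟨u, v, c, hu, hv, hc, he2, hSl⟩ := hco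
  obtain ⟨v₀, hv₀, hv₀1⟩ : ∃ v₀ : Lie G k (fk k), IsWt j v₀ a ∧ v₀ ≠ 1 := by
    let E : Grp.mk (Red.DS (Spec (CommRingCat.of k)) M) ≅ Grp.mk (Red.DS (Spec (CommRingCat.of k)) M) := Iso.refl _
    have hE : E.inv.hom.hom ≫ j = j := Category.id_comp j
    haveI : IsMonHom (E.inv.hom.hom ≫ j) := by rw [hE]; infer_instance
    obtain ⟨-, v₀, h, h1⟩ := isSplitRoot_of_rootHom (i := j) (E := E) ha0 (u := u) (by rw [hE]; exact hu)
    exact ⟨v₀, h.congr_hom hE, h1⟩
  let r : RootBase.Roots j → M := fun b =>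
    if b.1 = a ∨ b.1 = -a then b.1 else (2 : ℤ) • b.1 - e b.1 • a
  have hrne : ∀ b, r b ≠ 0 := fun b => by
    simp only [r]
    split_ifs with h
    · exact b.2.1
    · intro h0
      obtain ⟨hb0, w, hw, hw1⟩ := b.2
      let E : Grp.mk (Red.DS (Spec (CommRingCat.of k)) M) ≅ Grp.mk (Red.DS (Spec (CommRingCat.of k)) M) := Iso.refl _
      have hE : E.inv.hom.hom ≫ j = j := Category.id_comp j
      haveI : IsMonHom (E.inv.hom.hom ≫ j) := by rw [hE]; infer_instance
      rcases (field_rank_one hG j hj E (hv₀.congr_hom hE.symm) ha0 hv₀1).2 b.1 w (hw.congr_hom hE.symm) hw1 hb0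
        ⟨e b.1, 2, two_ne_zero, sub_eq_zero.1 h0⟩ with ⟨h', -⟩ | h'
      · exact h (Or.inl h')
      · exact h (Or.inr h')
  obtain ⟨ψ, hψ⟩ := RootBase.exists_hom_ne r hrne
  let θ : M →+ ℤ := ψ.comp ((2 : ℤ) • AddMonoidHom.id M - (zmultiplesHom M a).comp e)
  have hθ : ∀ m, θ m = ψ ((2 : ℤ) • m - e m • a) := fun m => rfl
  have hθa : θ a = 0 := by rw [hθ, he2, sub_self, map_zero]
  have hwts : ∀ (d : M) (w : Lie G k (fk k)), IsWt j w d → θ d = 0 → w ∈ (LieS.map k (fk k) p).range :=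
    fun d w hw hd => by
    by_cases hd0 : d = 0
    · exact mem_range_zero hself ht w (hd0 ▸ hw)
    by_cases hw1 : w = 1
    · rw [hw1]; exact Subgroup.one_mem _
    by_cases h : d = a ∨ d = -a
    · rcases h with h | h
      · exact ha w (h ▸ hw)
      · exact ha' w (h ▸ hw)
    · refine absurd ?_ (hψ (⟨d, hd0, w, hw, hw1⟩ : RootBase.Roots j))
      simp only [r, if_neg h]
      rw [← hθ, hd]
  have hfacpt : ∀ {w : Red.Ga (Spec (CommRingCat.of k)) ⟶ G} {m : M}, Red.IsRootHom j (Red.chi _ m) w → θ m = 0 →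
      ∀ {B' : Type u} [CommRing B'] {f : Spec (CommRingCat.of B') ⟶ Spec (CommRingCat.of k)}
        (y : pt B' f ⟶ Red.Ga (Spec (CommRingCat.of k))), ∃ z, z ≫ p = y ≫ w := fun {w m} hw hm {B' _ f} y =>
    le_of_wt_zero ht θ hwts (y ≫ w) (by
      rw [mem_ZSub, BorelConj.orb_rootHom hw, hm, ← Category.assoc, BorelConj.qc_rootHom])
  obtain ⟨nP, hnP⟩ : ∃ nP : 𝟙_ _ ⟶ P, nP ≫ p = weylPt u v c := by
    obtain ⟨z1, h1⟩ := hfacpt hu hθa (gpt (𝟙 (Spec (CommRingCat.of k))) (1 : k))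
    obtain ⟨z2, h2⟩ := hfacpt hv (by rw [map_neg, hθa, neg_zero]) (gpt (𝟙 (Spec (CommRingCat.of k))) (-c⁻¹))
    exact ⟨z1 * z2 * z1, by rw [MonObj.mul_comp, MonObj.mul_comp, h1, h2]; rfl⟩
  have hφ : Red.DSmap (Spec (CommRingCat.of k)) (refl' a e) ≫ j = j ≫ RootIntrinsic.inner (weylPt u v c) := by
    rw [RootIntrinsic.comp_inner]
    have h := weyl_conj hc he2 hSl hu hv (𝟙 (Red.DS (Spec (CommRingCat.of k)) M))
    rw [Category.id_comp, Category.id_comp] at h
    exact h.symm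
  haveI : IsMonHom (Red.DSmap (Spec (CommRingCat.of k)) (refl' a e) ≫ j) :=
    isMonHom_comp' (Red.DSmap (Spec (CommRingCat.of k)) (refl' a e)) j
  haveI : IsMonHom (Red.DSmap (Spec (CommRingCat.of k)) (refl' a e) ≫ Red.DSmap (Spec (CommRingCat.of k)) (refl' a e) ≫ j) :=
    isMonHom_comp' (Red.DSmap (Spec (CommRingCat.of k)) (refl' a e)) _
  have hw' := (hw.map (φ := RootIntrinsic.inner (weylPt u v c))
    (Red.DSmap (Spec (CommRingCat.of k)) (refl' a e) ≫ j) hφ.symm).DSmap (refl' a e)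
  have hj2 : Red.DSmap (Spec (CommRingCat.of k)) (refl' a e) ≫ Red.DSmap (Spec (CommRingCat.of k)) (refl' a e) ≫ j = j := by
    rw [← Category.assoc, DSmap_invol (refl'_invol he2), Category.id_comp]
  refine ⟨_, hw'.congr_hom hj2, fun h => ?_, ?_⟩
  · exact hw1 (RootSys.map_injective (RootIntrinsic.inner (weylPt u v c)) (h.trans (map_one _).symm))
  · obtain ⟨z, hz⟩ := hwR
    refine ⟨LieS.map k (fk k) (RootIntrinsic.inner nP) z, Subtype.ext ?_⟩
    show (z.1 ≫ RootIntrinsic.inner nP) ≫ p = w.1 ≫ RootIntrinsic.inner (weylPt u v c)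
    rw [← show z.1 ≫ p = w.1 from congrArg Subtype.val hz]
    simp only [Category.assoc]
    congr 1
    simp only [RootIntrinsic.inner, MonObj.mul_comp, GrpObj.inv_comp, MonObj.comp_mul, GrpObj.comp_inv,
      Category.assoc, hnP, Category.comp_id, Category.id_comp, comp_toUnit_assoc]

end Tan

/-- **A parabolic subgroup through a split maximal torus is the dynamical parabolic subgroup of a functional.** -/
theorem isP_of_parabolic (hG : Red.IsReductive G) (hred : Red.IsReductiveOver k G) (hj : Red.IsMaximalTorus j)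
    {p : P ⟶ G} (hP : Red.IsParabolicOver k p) (t : Red.DS (Spec (CommRingCat.of k)) M ⟶ P) (ht : t ≫ p = j) :
    ∃ lam : M →+ ℤ, IsP (Red.DSmap (Spec (CommRingCat.of k)) lam ≫ j) p := by
  classical
  let S := Spec (CommRingCat.of k)
  haveI := hred.1; haveI := hred.2.1; haveI := hred.2.2.1
  haveI : IsAffineHom G.hom := isAffineHom_of_isAffine _
  haveI := hj.1; haveI := hj.2.1
  haveI hpm := hP.1; haveI hpc := hP.2.1; haveI hps := hP.2.2.1
  haveI : Mono p := Over.mono_of_mono_left p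
  haveI : IsMonHom t := MTSplit.isMonHom_of_comp_mono t p j ht
  haveI hPconn := ParNorm.connectedSpace_parabolic hP
  have hjA : AGF.IsMaxTorus j := Chev.Borel.isMaxTorus_of_isMaximalTorus _ hj
  have hself := exists_isCentralizerOf_self hred j hjA
  obtain ⟨B, _, b, tB, qB, hB, htB, hqB⟩ := exists_borel_le (T := Red.DS S M) hP t hj.2.2.1
  rw [ht] at htB
  obtain ⟨mu, hreg, P₀, _, p₀, e₀, hP₀, he₀⟩ := BorelConj.exists_cochar_regular hred j hjA b hB tB htB
  obtain ⟨_, D, hDlin, hDroot, hDco, -, -⟩ := RootBase.exists_datum hG j hj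
  let R' : Set (RootBase.Roots j) := {a | ∀ v, IsWt j v a.1 → v ∈ (LieS.map k (fk k) p).range}
  have hR' : ∀ (a : RootBase.Roots j) {v : Lie G k (fk k)}, IsWt j v a.1 → v ≠ 1 →
      v ∈ (LieS.map k (fk k) p).range → a ∈ R' := fun a v hv hv1 hvR w hw =>
    mem_range_line hG hj a.2.1 hv hv1 hw hvR
  have hmu : ∀ a : RootBase.Roots j, mu (D.root a) ≠ 0 := fun a h => by
    obtain ⟨ha, v, hv, hv1⟩ := a.2
    haveI : IsMonHom (Red.DSmap S mu ≫ j) := isMonHom_comp' (Red.DSmap S mu) j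
    have h1 := hv.DSmap mu
    rw [← hDroot, h] at h1
    exact hv1 (hv.eq_one ((mem_ZSub_iff_isWt_zero j v).1 (hreg _ _ _ ((mem_ZSub_iff_isWt_zero _ v).2 h1))) ha)
  have hposR : ∀ a : RootBase.Roots j, 0 < mu (D.root a) → a ∈ R' := fun a h v hv =>
    mem_range_borel qB hqB e₀ he₀ mu hP₀ (by rw [← hDroot]; exact h.le) v hv
  have hstab : ∀ a ∈ R', D.reflectionPerm a a ∈ R' → ∀ x ∈ R', D.reflectionPerm a x ∈ R' := by
    intro a ha ha' x hx
    have hopp : (D.reflectionPerm a a).1 = -a.1 := by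
      rw [← hDroot, D.root_reflectionPerm, D.reflection_apply_self, hDroot]
    obtain ⟨hx0, w, hw, hw1⟩ := x.2
    obtain ⟨w', hw', hw'1, hw'R⟩ := mem_range_refl hG hj hself ht a.2.1 (hDco a) ha
      (fun v hv => ha' v (by rwa [hopp])) hw hw1 (hx w hw)
    have hval : refl' a.1 (D.coroot a : M →ₗ[ℤ] ℤ).toAddMonoidHom x.1 = (D.reflectionPerm a x).1 := by
      rw [← hDroot (D.reflectionPerm a x), D.root_reflectionPerm, D.reflection_apply, refl'_apply, hDroot, hDroot]
      congr 2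
      show (D.coroot a : M →ₗ[ℤ] ℤ) x.1 = D.toLinearMap x.1 (D.coroot a)
      rw [hDlin]; rfl
    rw [hval] at hw'
    exact hR' _ hw' hw'1 hw'R
  haveI : Finite (RootBase.Roots j) := Finite.of_fintype _
  obtain ⟨lam, hlam⟩ := exists_nonneg_hom (P := D) mu R' hmu hposR hstab
  refine ⟨lam, hP.1, hP.2.1, fun X g => ⟨?_, fun hg => le_of_wt_nonneg ht lam ?_ g hg⟩⟩
  · rintro ⟨z, rfl⟩ B' _ f y
    rw [← Category.assoc]
    refine mem_PSub_of_wts ht lam (fun d v hv hv1 hvR => ?_) _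
    by_cases hd0 : d = 0
    · rw [hd0, map_zero]
    have := (hlam ⟨d, hd0, v, hv, hv1⟩).1 (hR' _ hv hv1 hvR)
    rwa [hDroot] at this
  · intro d v hv hd
    by_cases hd0 : d = 0
    · exact mem_range_zero hself ht v (hd0 ▸ hv)
    by_cases hv1 : v = 1
    · rw [hv1]; exact Subgroup.one_mem _
    exact (hlam ⟨d, hd0, v, hv, hv1⟩).2 (by rwa [hDroot]) v hv

end Groth.Agent.ParStd
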