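import Groth.Agent.ParStd.Glue
import Groth.Agent.RedLR.Main
import Groth.Agent.HenselChart.Count
import Mathlib.AlgebraicGeometry.Morphisms.LocalFlatDescent

/-!
# The unipotent radical of a parabolic subgroup, and the Levi subgroup containing a maximal torus
-/

set_option autoImplicit false
set_option linter.style.haveILetI false
set_option backward.isDefEq.respectTransparency false
set_option backward.isDefEq.respectTransparency.types false
set_option maxHeartbeats 2000000
set_option synthInstance.maxHeartbeats 400000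

universe u

open CategoryTheory Limits MonoidalCategory CartesianMonoidalCategory MonObj AlgebraicGeometry LieS
open scoped CategoryTheory.Obj

noncomputable section

namespace Groth.Agent.ParStd

open Groth.Agent.HomDiag Groth.Agent.DynPar Groth.Agent.MTBridge Groth.Agent.Chev

variable {S : Scheme.{u}} {G P : Over S} [GrpObj G] [GrpObj P] {K₀ : Type u} {Q : K₀ → Scheme.{u}}
  {f : ∀ i, Q i ⟶ S}

omit [GrpObj G] [GrpObj P] in
/-- Smoothness is étale local on the base. -/
theorem smooth_of_cover (hf : ∀ i, Etale (f i)) (hs : ∀ s, ∃ i, s ∈ Set.range (f i).base) {X : Over S}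
    (h : ∀ i, Smooth (Red.bc (f i) X).hom) : Smooth X.hom := by
  let V : K₀ → S.Opens := fun i => ⟨Set.range (f i).base, by haveI := hf i; exact (f i).isOpenMap.isOpen_range⟩
  have hV : iSup V = ⊤ := top_le_iff.mp fun s _ => by
    obtain ⟨i, hi⟩ := hs s
    exact TopologicalSpace.Opens.mem_iSup.mpr ⟨i, hi⟩
  refine IsZariskiLocalAtTarget.of_iSup_eq_top (P := @Smooth) V hV fun i => ?_
  haveI := hf i
  let g' : Q i ⟶ V i := IsOpenImmersion.lift (V i).ι (f i) (by simp [V])
  have hg' : g' ≫ (V i).ι = f i := IsOpenImmersion.lift_fac _ _ _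
  haveI : Surjective g' := ⟨fun x => by
    obtain ⟨y, hy⟩ := x.2
    exact ⟨y, (V i).ι.injective (by rw [← Scheme.Hom.comp_apply, hg']; exact hy)⟩⟩
  haveI : Flat g' := MorphismProperty.of_postcomp (W := @Flat) (W' := @IsOpenImmersion) g' (V i).ι inferInstance
    (by rw [hg']; infer_instance)
  haveI : LocallyOfFinitePresentation g' :=
    MorphismProperty.of_postcomp (W := @LocallyOfFinitePresentation) (W' := @IsOpenImmersion) g' (V i).ι inferInstance
      (by rw [hg']; infer_instance)
  refine MorphismProperty.of_pullback_fst_of_descendsAlong (P := @Smooth)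
    (Q := @Surjective ⊓ @Flat ⊓ @LocallyOfFinitePresentation) (f := g') ⟨⟨inferInstance, inferInstance⟩, inferInstance⟩ ?_
  have sq : IsPullback (pullback.snd g' (X.hom ∣_ V i) ≫ (X.hom ⁻¹ᵁ V i).ι) (pullback.fst g' (X.hom ∣_ V i))
      X.hom (f i) := by
    rw [← hg']
    exact (IsPullback.of_hasPullback g' (X.hom ∣_ V i)).flip.paste_horiz (isPullback_morphismRestrict X.hom (V i)).flip
  rw [← sq.isoPullback_hom_snd]
  haveI : Smooth (pullback.snd X.hom (f i)) := h i
  infer_instance

/-- A family of charts of a parabolic subgroup. -/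
structure IsAtlas (p : P ⟶ G) (f : ∀ i, Q i ⟶ S) (c : ∀ i, Red.DS (Q i) ℤ ⟶ Red.bc (f i) G) : Prop where
  etale : ∀ i, Etale (f i)
  surj : ∀ s, ∃ i, s ∈ Set.range (f i).base
  hom : ∀ i, IsMonHom (c i)
  isP : ∀ i, IsP (c i) ((Over.pullback (f i)).map p)

/-- A geometric point of the base in a chart. -/
theorem IsAtlas.exists_point {p : P ⟶ G} {c : ∀ i, Red.DS (Q i) ℤ ⟶ Red.bc (f i) G} (h : IsAtlas p f c) (s : S) :
    ∃ (i : K₀) (φ : Spec (CommRingCat.of (AlgebraicClosure (S.residueField s))) ⟶ Q i),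
      φ ≫ f i = Red.geomPt s := by
  obtain ⟨i, hi⟩ := h.surj s
  haveI := h.etale i
  exact ⟨i, BorelConj.exists_geom_lift (f i) (Red.geomPt s) (by rw [MTImage.geomPt_closedPoint]; exact hi)⟩

/-- No subtorus, transported. -/
theorem hasNoSubtorus_of_iso {K : Type u} [Field K] {U U' : Over (Spec (CommRingCat.of K))} [GrpObj U] [GrpObj U']
    (e : U ≅ U') [IsMonHom e.hom] (h : Red.HasNoSubtorus K U) : Red.HasNoSubtorus K U' := by
  intro T _ j _ _ hT
  haveI : IsMonHom e.symm.hom := inferInstanceAs (IsMonHom e.inv)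
  haveI : IsMonHom (j ≫ e.symm.hom) := inferInstance
  exact h T (j ≫ e.symm.hom) hT

/-- The chart of a glued subgroup at a geometric point. -/
theorem exists_geomIso {V : Over S} [GrpObj V] {i : K₀} {W : Over (Q i)} [GrpObj W] (e : Red.bc (f i) V ≅ W)
    [IsMonHom e.hom] {s : S} {φ : Spec (CommRingCat.of (AlgebraicClosure (S.residueField s))) ⟶ Q i}
    (hφ : φ ≫ f i = Red.geomPt s) : ∃ e' : Red.bc φ W ≅ Red.geomFibre s V, IsMonHom e'.hom := by
  obtain ⟨d, -, hd⟩ := MaxTorusBC.exists_trIso hφ V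
  haveI : IsMonHom d.hom := hd
  haveI : IsMonHom d.symm.hom := inferInstanceAs (IsMonHom d.inv)
  haveI : IsMonHom e.symm.hom := inferInstanceAs (IsMonHom e.inv)
  haveI : IsMonHom ((Over.pullback φ).map e.symm.hom) := inferInstance
  have h : IsMonHom ((Over.pullback φ).map e.symm.hom ≫ d.symm.hom) := inferInstance
  exact ⟨(Over.pullback φ).mapIso e.symm ≪≫ d.symm, h⟩

/-- **The unipotent radical of a parabolic subgroup from an atlas.** -/
theorem exists_radical_of_atlas (hG : Red.IsReductive G) (p : P ⟶ G) (hP : Red.IsParabolic p)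
    {c : ∀ i, Red.DS (Q i) ℤ ⟶ Red.bc (f i) G} (h : IsAtlas p f c) :
    ∃ (U : Over S) (_ : GrpObj U) (uP : U ⟶ P), Par.IsUnipotentRadical uP ∧
      ∀ i, ∃ (V : Over (Q i)) (_ : GrpObj V) (v : V ⟶ Red.bc (f i) G) (e : Red.bc (f i) U ≅ V),
        IsU (c i) v ∧ IsMonHom e.hom ∧ e.hom ≫ v = (Over.pullback (f i)).map (uP ≫ p) := by
  haveI := hP.1; haveI := hP.2.1; haveI := hG.1; haveI := hG.2.1
  haveI := h.hom
  haveI : Mono p := Over.mono_of_mono_left p
  have hg := mem_fpqc_of_etale h.etale h.surj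
  haveI : ∀ i, IsAffineHom (Red.bc (f i) G).hom := fun i => (DynPar.isReductive_bc (f i) hG).1
  haveI : ∀ i, Smooth (Red.bc (f i) G).hom := fun i => (DynPar.isReductive_bc (f i) hG).2.1
  choose V hVg v hv using fun i => exists_isU (G := Red.bc (f i) G) (c i)
  obtain ⟨U, _, u, hu, huc, hufac, hue⟩ := exists_glue_U hG p hg c h.isP v hv
  haveI := hu; haveI := huc
  choose e heh he using hue
  have hGi := fun i => DynPar.isReductive_bc (f i) hG
  choose Z hZg z hz hzc hzs using fun i => exists_centralizer_DS (hGi i).2.1 (hGi i).1 (c i)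
  have d := fun i => (exists_leviData (h.isP i) (hv i) (hz i)).some
  have hrad := fun i => isUnipotentRadical_iu (hGi i) (h.isP i) (hz i) (hv i) (d i)
  obtain ⟨uP, huP⟩ := exists_fac_of_cover hg p u fun i => ⟨(e i).hom ≫ (d i).iu, by
    rw [Category.assoc, (d i).iu_p, he]⟩
  haveI : IsMonHom uP := MTSplit.isMonHom_of_comp_mono uP p u huP
  haveI : IsClosedImmersion uP.left := by
    haveI : IsClosedImmersion (uP.left ≫ p.left) := by rw [← Over.comp_left, huP]; infer_instance
    exact IsClosedImmersion.of_comp uP.left p.left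
  have hfac : ∀ (X : Over S) (x : X ⟶ P), (∃ y, y ≫ uP = x) ↔
      ∀ i, ∃ y, y ≫ (d i).iu = (Over.pullback (f i)).map x := by
    intro X x
    have h1 : (∃ y, y ≫ uP = x) ↔ ∃ y, y ≫ u = x ≫ p :=
      ⟨fun ⟨y, hy⟩ => ⟨y, by rw [← huP, ← Category.assoc, hy]⟩, fun ⟨y, hy⟩ => ⟨y, by
        rw [← cancel_mono p, Category.assoc, huP, hy]⟩⟩
    rw [h1, hufac]
    refine forall_congr' fun i => exists_congr fun y => ?_
    haveI := (h.isP i).2.1
    haveI : Mono ((Over.pullback (f i)).map p) := Over.mono_of_mono_left _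
    rw [show y ≫ v i = y ≫ (d i).iu ≫ (Over.pullback (f i)).map p from (congrArg (y ≫ ·) (d i).iu_p).symm,
      Functor.map_comp, ← Category.assoc y, cancel_mono]
  refine ⟨U, inferInstance, uP, ⟨inferInstance, inferInstance, ?_, ?_, ?_, fun s => ?_, ?_⟩,
    fun i => ⟨V i, hVg i, v i, e i, hv i, heh i, by rw [he, huP]⟩⟩
  · intro X g n
    obtain ⟨y, hy⟩ := (hfac X (g * (n ≫ uP) * g⁻¹)).2 fun i => by
      obtain ⟨m, hm⟩ := (hfac _ (n ≫ uP)).1 ⟨n, rfl⟩ i
      obtain ⟨r, hr⟩ := (hrad i).2.2.1 _ ((Over.pullback (f i)).map g) m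
      refine ⟨r, hr.symm.trans ?_⟩
      have h1 := (Over.pullback (f i)).homMonoidHom (X := X) (M := P)
      have h2 := ((Over.pullback (f i)).homMonoidHom (X := X) (M := P)).map_mul (g * (n ≫ uP)) g⁻¹
      have h3 := ((Over.pullback (f i)).homMonoidHom (X := X) (M := P)).map_mul g (n ≫ uP)
      have h4 := ((Over.pullback (f i)).homMonoidHom (X := X) (M := P)).map_inv g
      simp only [Functor.homMonoidHom_apply] at h2 h3 h4
      rw [h2, h3, h4, hm]
    exact ⟨y, hy.symm⟩
  · refine smooth_of_cover h.etale h.surj fun i => ?_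
    haveI := (hrad i).2.2.2.1
    haveI : IsIso (e i).hom.left := inferInstanceAs (IsIso ((Over.forget _).map (e i).hom))
    rw [← Over.w (e i).hom]
    infer_instance
  · haveI : IsAffineHom U.hom := by rw [← Over.w u]; infer_instance
    infer_instance
  · obtain ⟨i, φ, hφ⟩ := h.exists_point s
    haveI := heh i
    obtain ⟨e', he'⟩ := exists_geomIso (e i) hφ
    haveI := he'
    haveI : IsAffineHom (Red.bc φ (Red.bc (f i) G)).hom := inferInstanceAs (IsAffineHom (pullback.snd _ φ))
    haveI : IsAffine (Red.bc φ (Red.bc (f i) G)).left := isAffine_of_isAffineHom (Red.bc φ (Red.bc (f i) G)).hom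
    haveI : Smooth (Red.bc φ (Red.bc (f i) G)).hom := inferInstanceAs (Smooth (pullback.snd _ φ))
    haveI : IsMonHom (bcHom' φ (c i)) := isMonHom_bcHom' φ (c i)
    obtain ⟨-, hc, hn⟩ := field_fibre (bcHom' φ (c i)) ((h.isP i).bc φ) ((hv i).bc φ)
    haveI := hc
    refine ⟨?_, hasNoSubtorus_of_iso e' (hn inferInstance)⟩
    haveI : IsIso e'.hom.left := inferInstanceAs (IsIso ((Over.forget _).map e'.hom))
    exact e'.hom.left.surjective.connectedSpace e'.hom.left.continuous
  · intro U' _ u' _ hcl hn hs hqc hfib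
    refine (hfac U' u').2 fun i => ?_
    refine exists_fac_iu (hGi i) (h.isP i) (hz i) (hv i) (d i) ((Over.pullback (f i)).map u')
      (MorphismProperty.overPullbackMap (P := @IsClosedImmersion) _ u' hcl)
      (SubGen.isNormalHom_pullback (f i) P u' hn) (MorphismProperty.pullback_snd (P := @Smooth) _ _ hs) fun w => ?_
    haveI := h.etale i
    obtain ⟨φ, hφ, hφw⟩ := HenselChart.exists_lift_at (f i) (Red.geomPt (f i w)) (x := w)
      (MTImage.geomPt_closedPoint _).symm
    obtain ⟨e', he', he''⟩ := MaxTorusBC.exists_trIso hφ U'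
    haveI : IsMonHom e'.hom := he''
    haveI := (hfib ((f i) w)).1
    haveI : IsIso e'.hom.left := inferInstanceAs (IsIso ((Over.forget _).map e'.hom))
    exact ⟨_, inferInstance, inferInstance, φ, hφw, e'.hom.left.surjective.connectedSpace e'.hom.left.continuous,
      hasNoSubtorus_of_iso e' (hfib ((f i) w)).2⟩

omit [GrpObj G] [GrpObj P] in
/-- The multiplication of the product of two subobjects after a change of base. -/
theorem map_mul_eq {S' : Scheme.{u}} (g : S' ⟶ S) {X A B : Over S} [GrpObj X] (a : A ⟶ X) (b : B ⟶ X) :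
    (Over.pullback g).map ((a ⊗ₘ b) ≫ μ) =
      CartesianMonoidalCategory.prodComparison (Over.pullback g) A B ≫
        (((Over.pullback g).map a ⊗ₘ (Over.pullback g).map b) ≫ μ) := by
  have h0 : (a ⊗ₘ b) ≫ μ = (fst A B ≫ a) * (snd A B ≫ b) := by
    rw [← lift_mul, lift_fst_snd, Category.id_comp]
  rw [h0, CartesianMonoidalCategory.prodComparison, lift_mul, ← Functor.map_comp, ← Functor.map_comp]
  exact ((Over.pullback g).homMonoidHom (X := A ⊗ B) (M := X)).map_mul (fst A B ≫ a) (snd A B ≫ b)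

/-- **The Levi subgroup containing the torus, from an atlas of cocharacters of the torus.** -/
theorem exists_levi_of_atlas (hG : Red.IsReductive G) (p : P ⟶ G) (hP : Red.IsParabolic p) {T : Over S} [GrpObj T]
    (hT : Red.IsTorus T) (t : T ⟶ P) [IsMonHom t] (cT : ∀ i, Red.DS (Q i) ℤ ⟶ Red.bc (f i) T)
    [∀ i, IsMonHom (cT i)] (h : IsAtlas p f fun i => cT i ≫ (Over.pullback (f i)).map (t ≫ p)) :
    ∃ (L : Over S) (_ : GrpObj L) (l : L ⟶ P) (tl : T ⟶ L), Par.IsLevi l ∧ tl ≫ l = t ∧
      ∀ (K : Over S) [GrpObj K] (k : K ⟶ P) (tk : T ⟶ K),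
        IsMonHom k → Mono k → Red.IsReductive K → tk ≫ k = t → ∃ m : K ⟶ L, m ≫ l = k := by
  haveI := hP.1; haveI := hP.2.1; haveI := hG.1; haveI := hG.2.1; haveI := hP.2.2.1
  haveI : Mono p := Over.mono_of_mono_left p
  let c := fun i => cT i ≫ (Over.pullback (f i)).map (t ≫ p)
  haveI : ∀ i, IsMonHom (c i) := h.hom
  have hg := mem_fpqc_of_etale h.etale h.surj
  have hGi := fun i => DynPar.isReductive_bc (f i) hG
  haveI : ∀ i, IsAffineHom (Red.bc (f i) G).hom := fun i => (hGi i).1
  haveI : ∀ i, Smooth (Red.bc (f i) G).hom := fun i => (hGi i).2.1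
  obtain ⟨U, _, uP, hU, hUch⟩ := exists_radical_of_atlas hG p hP h
  choose V hVg v eU hv heU heU' using hUch
  choose Z hZg z hz hzc hzs using fun i => exists_centralizer_DS (hGi i).2.1 (hGi i).1 (c i)
  have d := fun i => (exists_leviData (h.isP i) (hv i) (hz i)).some
  obtain ⟨L, _, l, hl, hlc, hlfac, hle⟩ := exists_glue_Z hG p hT (t ≫ p) hg cT c (fun _ => rfl) h.isP z hz hzc
  haveI := hl; haveI := hlc; haveI := hU.1; haveI := hU.2.1
  choose eL heL heL' using hle
  obtain ⟨lP, hlP⟩ := exists_fac_of_cover hg p l fun i => ⟨(eL i).hom ≫ (d i).l, by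
    rw [Category.assoc, (d i).l_p, heL']⟩
  haveI : IsMonHom lP := MTSplit.isMonHom_of_comp_mono lP p l hlP
  haveI : IsClosedImmersion lP.left := by
    haveI : IsClosedImmersion (lP.left ≫ p.left) := by rw [← Over.comp_left, hlP]; infer_instance
    exact IsClosedImmersion.of_comp lP.left p.left
  haveI : Mono lP := Over.mono_of_mono_left lP
  have hLs : Smooth L.hom := smooth_of_cover h.etale h.surj fun i => by
    haveI := hzs i
    haveI : IsIso (eL i).hom.left := inferInstanceAs (IsIso ((Over.forget _).map (eL i).hom))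
    rw [← Over.w (eL i).hom]
    infer_instance
  have hLred : Red.IsReductive L := by
    refine ⟨by rw [← Over.w l]; infer_instance, hLs, fun s => ?_⟩
    obtain ⟨i, φ, hφ⟩ := h.exists_point s
    haveI := heL i
    obtain ⟨e', he'⟩ := exists_geomIso (eL i) hφ
    haveI := he'
    haveI : IsMonHom (bcHom' φ (c i)) := isMonHom_bcHom' φ (c i)
    exact RedLR.isReductiveOver_of_iso e'
      (field_parabolic (BorelConj.isReductiveOver_pt (hGi i) φ) (bcHom' φ (c i)) _ _ ((h.isP i).bc φ)
        (centralizer_bc φ (hz i))).2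
  haveI : IsIso ((lP ⊗ₘ uP) ≫ μ) := by
    haveI := hLs; haveI := hU.2.2.2.1
    haveI : Smooth (L ⊗ U).hom := inferInstanceAs (Smooth (pullback.fst L.hom U.hom ≫ L.hom))
    refine ParNorm.isIso_of_geomPts _ fun s => ?_
    obtain ⟨i, φ, hφ⟩ := h.exists_point s
    have hi : IsIso ((Over.pullback (f i)).map ((lP ⊗ₘ uP) ≫ μ)) := by
      haveI := (h.isP i).2.1
      haveI : Mono ((Over.pullback (f i)).map p) := Over.mono_of_mono_left _
      have h1 : (Over.pullback (f i)).map lP = (eL i).hom ≫ (d i).l := by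
        rw [← cancel_mono ((Over.pullback (f i)).map p), ← Functor.map_comp, hlP, Category.assoc, (d i).l_p, heL']
      have h2 : (Over.pullback (f i)).map uP = (eU i).hom ≫ (d i).iu := by
        rw [← cancel_mono ((Over.pullback (f i)).map p), ← Functor.map_comp, Category.assoc, (d i).iu_p, heU']
      haveI := (d i).iso
      rw [map_mul_eq, h1, h2, ← MonoidalCategory.tensorHom_comp_tensorHom, Category.assoc]
      infer_instance
    have key : ∀ ψ, ψ = φ ≫ f i → IsIso ((Over.pullback ψ).map ((lP ⊗ₘ uP) ≫ μ)) := by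
      rintro _ rfl
      exact (NatIso.isIso_map_iff (Over.pullbackComp φ (f i)) _).2
        (inferInstanceAs (IsIso ((Over.pullback φ).map ((Over.pullback (f i)).map ((lP ⊗ₘ uP) ≫ μ)))))
    exact key _ hφ.symm
  have hlevi : Par.IsLevi lP := ⟨inferInstance, inferInstance, hLred, U, inferInstance, uP, hU, inferInstance⟩
  have hcomm : ∀ (i : K₀) (X' : Over (Q i)) (a b : X' ⟶ Red.bc (f i) T), a * b = b * a := fun i X' a b =>
    RedR1.mul_comm_torus (Borel.isTorus_bc_scheme T (f i) hT) a b
  obtain ⟨tl, htl⟩ := (hlfac T (t ≫ p)).2 fun i => ((hz i).2.2 _ _).2 fun X' x y => by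
    simp only [c, ← Category.assoc, ← MonObj.mul_comp, hcomm]
  refine ⟨L, inferInstance, lP, tl, hlevi, ?_, fun K _ k tk hkm hk hK htk => ?_⟩
  · rw [← cancel_mono p, Category.assoc, hlP, htl]
  · haveI := hkm; haveI := hk
    haveI : IsMonHom tk := MTSplit.isMonHom_of_comp_mono tk k t htk
    obtain ⟨m, hm⟩ := (hlfac K (k ≫ p)).2 fun i => by
      let F := Over.pullback (f i)
      haveI : PreservesLimitsOfShape WalkingCospan F :=
        (Over.mapPullbackAdj (f i)).rightAdjoint_preservesLimits.preservesLimitsOfShape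
      haveI : IsMonHom (cT i ≫ F.map tk) := isMonHom_comp' (cT i) (F.map tk)
      exact exists_fac_centralizer (DynPar.isReductive_bc (f i) hK) (h.isP i) (F.map (k ≫ p)) (cT i ≫ F.map tk)
        (by rw [Category.assoc, ← Functor.map_comp, ← Category.assoc tk, htk])
        ⟨F.map k, (F.map_comp _ _).symm⟩ (hz i)
    exact ⟨m, by rw [← cancel_mono p, Category.assoc, hlP, hm]⟩

/-- An atlas exists for a parabolic subgroup containing a maximal torus. -/
theorem exists_levi (hG : Red.IsReductive G) (p : P ⟶ G) (hP : Red.IsParabolic p) {T : Over S} [GrpObj T]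
    (t : T ⟶ P) [IsMonHom t] (hT : Red.IsMaximalTorus (t ≫ p)) :
    ∃ (L : Over S) (_ : GrpObj L) (l : L ⟶ P) (tl : T ⟶ L), Par.IsLevi l ∧ tl ≫ l = t ∧
      ∀ (K : Over S) [GrpObj K] (k : K ⟶ P) (tk : T ⟶ K),
        IsMonHom k → Mono k → Red.IsReductive K → tk ≫ k = t → ∃ m : K ⟶ L, m ≫ l = k := by
  choose S' f hf hs c hc hcP using exists_chart hG p hP t hT
  haveI := hT.1
  haveI := hc
  exact exists_levi_of_atlas (f := f) hG p hP hT.2.2.1 t c
    ⟨hf, fun s => ⟨s, hs s⟩, fun s => isMonHom_comp' (c s) ((Over.pullback (f s)).map (t ≫ p)), hcP⟩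

end Groth.Agent.ParStd
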