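import Groth.Agent.ParStd.Critical
import Groth.Agent.SchDescent.Glue

/-!
# Levi subgroups of a parabolic subgroup are conjugate by a unique point of the unipotent radical
-/

set_option autoImplicit false
set_option linter.style.haveILetI false
set_option backward.isDefEq.respectTransparency false
set_option backward.isDefEq.respectTransparency.types false
set_option maxHeartbeats 2000000
set_option synthInstance.maxHeartbeats 400000

universe u

open CategoryTheory Limits MonoidalCategory CartesianMonoidalCategory MonObj AlgebraicGeometry LieS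
open scoped CategoryTheory.Obj

noncomputable section

namespace Groth.Agent.ParStd

open Groth.Agent.HomDiag Groth.Agent.DynPar Groth.Agent.MTBridge Groth.Agent.Chev

variable {S : Scheme.{u}}

/-- The point `w` conjugates `a₁` into `a₂`, on all points over `W`. -/
def ConjTo {P H W : Over S} [GrpObj P] (a₁ a₂ : H ⟶ P) (w : W ⟶ P) : Prop :=
  ∀ (X : Over S) (x : X ⟶ W) (h : X ⟶ H), h ≫ a₂ = (x ≫ w) * (h ≫ a₁) * (x ≫ w)⁻¹

/-- Conjugation seen after a change of base is conjugation. -/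
theorem conjTo_from {S' : Scheme.{u}} (f : S' ⟶ S) {P H : Over S} [GrpObj P] {a₁ a₂ : H ⟶ P} {W : Over S'}
    (w : W ⟶ Red.bc f P) (h : ConjTo ((Over.pullback f).map a₁) ((Over.pullback f).map a₂) w) :
    ConjTo a₁ a₂ (DynPar.fromB f w) := by
  intro X x b
  let Y : Over S' := Over.mk (x.left ≫ W.hom)
  let y : Y ⟶ W := Over.homMk x.left rfl
  have hw : (x.left ≫ W.hom) ≫ f = X.hom := by rw [Category.assoc]; exact Over.w x
  let ε : (Over.map f).obj Y ≅ X := Over.isoMk (Iso.refl _) (show 𝟙 _ ≫ X.hom = (x.left ≫ W.hom) ≫ f by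
    rw [Category.id_comp, hw])
  have hε : ε.hom ≫ x = (Over.map f).map y := Over.OverMorphism.ext (Category.id_comp _)
  rw [← cancel_epi ε.hom, MonObj.comp_mul, MonObj.comp_mul, GrpObj.comp_inv, ← Category.assoc ε.hom x, hε]
  apply MTBridge.toBC_inj f
  rw [MTBridge.toBC_mul, MTBridge.toBC_mul, MTBridge.toBC_inv]
  have hy : MTBridge.toBC f ((Over.map f).map y ≫ DynPar.fromB f w) = y ≫ w :=
    ((Over.mapPullbackAdj f).homEquiv_naturality_left y _).trans (congrArg (y ≫ ·) (Equiv.apply_symm_apply _ _))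
  rw [hy, ← Category.assoc ε.hom b a₂, ← Category.assoc ε.hom b a₁, MTBridge.toBC_comp f a₂ (ε.hom ≫ b),
    MTBridge.toBC_comp f a₁ (ε.hom ≫ b)]
  exact h Y y _

theorem conjTo_comp {P H W W' : Over S} [GrpObj P] {a₁ a₂ : H ⟶ P} {w : W ⟶ P} (h : ConjTo a₁ a₂ w)
    (v : W' ⟶ W) : ConjTo a₁ a₂ (v ≫ w) := fun X x b => by
  have h1 := h X (x ≫ v) b
  rwa [Category.assoc] at h1

/-- Homomorphisms into a torus of `P` with the same image modulo the unipotent kernel are equal. -/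
theorem eq_of_kernel {k : Type u} [Field k] [IsAlgClosed k] {P L U T D : Over (Spec (CommRingCat.of k))} [GrpObj P]
    [GrpObj L] [GrpObj U] [GrpObj T] [GrpObj D] (r : P ⟶ L) [IsMonHom r] (u : U ⟶ P) [IsMonHom u] [Mono u]
    [IsAffine U.left] [Smooth U.hom] [ConnectedSpace U.left] (hU : Red.HasNoSubtorus k U)
    (hker : ∀ (X : Over (Spec (CommRingCat.of k))) (x : X ⟶ P), x ≫ r = 1 → ∃ y, y ≫ u = x)
    (i : T ⟶ P) [IsMonHom i] [Mono i] (hT : Red.IsTorus T) (a b : D ⟶ T) [IsMonHom a] [IsMonHom b]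
    (hD : SGA3x.IsMultTypeFT D) (h : (a ≫ i) ≫ r = (b ≫ i) ≫ r) : a = b := by
  haveI : IsMonHom (a * b⁻¹) := MTTorus.isMonHom_of_mul _ fun x y => by
    simp only [MonObj.comp_mul, GrpObj.comp_inv, MonObj.mul_comp, _root_.mul_inv_rev, _root_.mul_assoc,
      _root_.mul_left_cancel_iff]
    rw [← _root_.mul_assoc, RedR1.mul_comm_torus hT]
  obtain ⟨e, he⟩ := hker _ ((a * b⁻¹) ≫ i) (by
    rw [MonObj.mul_comp, GrpObj.inv_comp, MonObj.mul_comp, GrpObj.inv_comp, h, mul_inv_cancel])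
  haveI : IsMonHom ((a * b⁻¹) ≫ i) := inferInstance
  haveI : IsMonHom e := MTSplit.isMonHom_of_comp_mono e u _ he
  rw [← mul_inv_eq_one, ← cancel_mono i, ← he, UnipTor.eq_one_of_hasNoSubtorus hU hD e,
    show (1 : D ⟶ U) ≫ u = 1 from (IsMonHom.monoidHom u D).map_one]
  exact ((IsMonHom.monoidHom i D).map_one).symm

/-- Cocharacters of a parabolic subgroup with the same image in the Levi quotient are conjugate at a geometric
point. -/
theorem exists_conj_field {k : Type u} [Field k] [IsAlgClosed k] {P L U : Over (Spec (CommRingCat.of k))} [GrpObj P]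
    [GrpObj L] [GrpObj U] [IsAffine P.left] [Smooth P.hom] [ConnectedSpace P.left] (r : P ⟶ L) [IsMonHom r]
    (u : U ⟶ P) [IsMonHom u] [Mono u] [IsAffine U.left] [Smooth U.hom] [ConnectedSpace U.left]
    (hU : Red.HasNoSubtorus k U)
    (hker : ∀ (X : Over (Spec (CommRingCat.of k))) (x : X ⟶ P), x ≫ r = 1 → ∃ y, y ≫ u = x)
    (c c₂ : Red.DS (Spec (CommRingCat.of k)) ℤ ⟶ P) [IsMonHom c] [IsMonHom c₂] (hr : c ≫ r = c₂ ≫ r)
    (hcen : ∀ (X : Over (Spec (CommRingCat.of k))) (x : X ⟶ Red.DS (Spec (CommRingCat.of k)) ℤ) (y : X ⟶ L),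
      y * (x ≫ c₂ ≫ r) = (x ≫ c₂ ≫ r) * y) :
    ∃ g : 𝟙_ _ ⟶ P, ∀ (X : Over (Spec (CommRingCat.of k))) (x : X ⟶ Red.DS (Spec (CommRingCat.of k)) ℤ),
      x ≫ c₂ = (toUnit X ≫ g) * (x ≫ c) * (toUnit X ≫ g)⁻¹ := by
  haveI : IsAffineHom P.hom := isAffineHom_of_isAffine P.hom
  obtain ⟨r₁, i₁, lam₁, hi₁, rfl⟩ := exists_maxTorus_lambda c
  obtain ⟨r₂, i₂, lam₂, hi₂, rfl⟩ := exists_maxTorus_lambda c₂
  haveI := hi₁.1; haveI := hi₁.2.1; haveI := hi₂.1; haveI := hi₂.2.1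
  obtain ⟨g, φ, hφ⟩ := MTImage.exists_conjBy_maxTori i₁ hi₁ i₂ hi₂
  refine ⟨g, fun X x => ?_⟩
  let T₂ := Red.DS (Spec (CommRingCat.of k)) (Fin r₂ → ℤ)
  haveI : IsMonHom (AGF.conjBy g i₁) := Chev.Borel.isMonHom_conjBy g i₁
  haveI : IsMonHom φ.hom := MTSplit.isMonHom_of_comp_mono φ.hom i₂ (AGF.conjBy g i₁) hφ.symm
  let a : Red.DS (Spec (CommRingCat.of k)) ℤ ⟶ T₂ := Red.DSmap _ lam₁ ≫ φ.hom
  let b : Red.DS (Spec (CommRingCat.of k)) ℤ ⟶ T₂ := Red.DSmap _ lam₂
  haveI ha : IsMonHom a := isMonHom_comp' (Red.DSmap _ lam₁) φ.hom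
  haveI hb : IsMonHom b := inferInstanceAs (IsMonHom (Red.DSmap _ lam₂))
  have hT₂ : Red.IsTorus T₂ := hi₂.2.2.1
  have hai : ∀ {Y : Over (Spec (CommRingCat.of k))} (y : Y ⟶ Red.DS (Spec (CommRingCat.of k)) ℤ),
      y ≫ a ≫ i₂ = (toUnit Y ≫ g) * (y ≫ Red.DSmap _ lam₁ ≫ i₁) * (toUnit Y ≫ g)⁻¹ := fun {Y} y => by
    have h := congrArg ((y ≫ Red.DSmap _ lam₁) ≫ ·) hφ
    simp only [MonObj.comp_mul, GrpObj.comp_inv] at h
    rw [← Category.assoc _ (toUnit _) g, toUnit_unique ((y ≫ Red.DSmap _ lam₁) ≫ toUnit _) (toUnit Y)] at h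
    simp only [Category.assoc] at h
    simp only [a, Category.assoc]
    exact h.symm
  have hr' : ∀ {Y : Over (Spec (CommRingCat.of k))} (y : Y ⟶ Red.DS (Spec (CommRingCat.of k)) ℤ),
      (y ≫ a ≫ i₂) ≫ r = (y ≫ b ≫ i₂) ≫ r := fun {Y} y => by
    rw [hai, MonObj.mul_comp, MonObj.mul_comp, GrpObj.inv_comp, Category.assoc y, hr,
      hcen Y y ((toUnit Y ≫ g) ≫ r), mul_inv_cancel_right]
    simp only [b, Category.assoc]
  have h1 := hr' (𝟙 _)
  simp only [Category.id_comp] at h1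
  have hab : a = b :=
    eq_of_kernel r u hU hker i₂ hT₂ a b (MTTorus.isMultTypeFT_DS _ ℤ) (by simpa only [Category.assoc] using h1)
  rw [← hai x, hab]

section Levi

variable {G P U L L' : Over S} [GrpObj G] [GrpObj P] [GrpObj U] [GrpObj L] [GrpObj L']

/-- A point of the unipotent radical commuting with a Levi subgroup is trivial. -/
theorem eq_one_of_commute (hG : Red.IsReductive G) (p : P ⟶ G) (hP : Red.IsParabolic p) (l : L ⟶ P)
    (hl : Par.IsLevi l) (u : U ⟶ P) [IsMonHom u] [Mono u] (r : P ⟶ L) [IsMonHom r] (hlr : l ≫ r = 𝟙 L)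
    (hur : u ≫ r = 1) {X : Over S} (y : X ⟶ U)
    (hy : ∀ (X' : Over S) (x : X' ⟶ X) (h : X' ⟶ L), (x ≫ y ≫ u) * (h ≫ l) = (h ≫ l) * (x ≫ y ≫ u)) : y = 1 := by
  haveI := hl.1; haveI := hl.2.1; haveI := hP.1; haveI := hP.2.1; haveI := hG.1
  haveI : Mono p := Over.mono_of_mono_left p
  haveI : IsAffineHom P.hom := by rw [← Over.w p]; infer_instance
  haveI := isClosedImmersion_levi hl
  choose S' f hf hs c hc hcP hcZ using exists_levi_chart hG p hP hl
  obtain ⟨a, ha⟩ : ∃ a, a ≫ l = y ≫ u := by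
    refine exists_fac_of_cover (mem_fpqc_of_etale (Q := S') (f := f) hf fun s => ⟨s, hs s⟩) l (y ≫ u) fun s => ?_
    let F := Over.pullback (f s)
    haveI : PreservesLimitsOfShape WalkingCospan F :=
      (Over.mapPullbackAdj (f s)).rightAdjoint_preservesLimits.preservesLimitsOfShape
    obtain ⟨z, hz⟩ := ((hcZ s).2.2 _ (F.map ((y ≫ u) ≫ p))).2 fun Y x h => by
      have h1 := commute_bc (f s) l (y ≫ u) hy Y x (h ≫ c s)
      have h2 := congrArg (· ≫ F.map p) h1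
      rw [Functor.map_comp, show F.map (l ≫ p) = F.map l ≫ F.map p from F.map_comp _ _]
      simpa only [MonObj.mul_comp, Category.assoc] using h2
    exact ⟨z, by
      rw [← cancel_mono (F.map p), ← Functor.map_comp, Category.assoc, ← Functor.map_comp, hz]⟩
  have h1 := congrArg (· ≫ r) ha
  simp only [Category.assoc, hlr, hur, Category.comp_id, MonObj.comp_one] at h1
  rw [← cancel_mono u, ← ha, h1, show (1 : X ⟶ L) ≫ l = 1 from (IsMonHom.monoidHom l X).map_one,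
    show (1 : X ⟶ U) ≫ u = 1 from (IsMonHom.monoidHom u X).map_one]

end Levi

end Groth.Agent.ParStd
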