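import Groth.Agent.ParStd.Opposite
import Groth.Agent.ParStd.Conj

/-!
# The parabolic subgroup opposite to a Levi subgroup
-/

set_option autoImplicit false
set_option linter.style.haveILetI false
set_option linter.unusedSectionVars false
set_option backward.isDefEq.respectTransparency false
set_option backward.isDefEq.respectTransparency.types false
set_option maxHeartbeats 2000000
set_option synthInstance.maxHeartbeats 400000

universe u

open CategoryTheory Limits MonoidalCategory CartesianMonoidalCategory MonObj AlgebraicGeometry LieS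
open scoped CategoryTheory.Obj

noncomputable section

namespace Groth.Agent.ParStd

open Groth.Agent.HomDiag Groth.Agent.DynPar Groth.Agent.MTBridge Groth.Agent.Chev

variable {S : Scheme.{u}} {G : Over S} [GrpObj G]

/-- `P(-λ)` is parabolic, meeting `P(λ)` in the centralizer. -/
theorem isParabolic_negD (hG : Red.IsReductive G) (c : Red.DS S ℤ ⟶ G) [IsMonHom c] {P P' Z : Over S} [GrpObj P]
    [GrpObj P'] [GrpObj Z] {p : P ⟶ G} {p' : P' ⟶ G} (hp : IsP c p) (hp' : IsP (negD c) p') {z : Z ⟶ G}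
    (hz : Red.IsCentralizerOf c z) (l : Z ⟶ P) (hl : l ≫ p = z) :
    Red.IsParabolic p' ∧ ∃ m : Z ⟶ P', m ≫ p' = z ∧ IsPullback l m p p' := by
  haveI := hG.1; haveI := isMonHom_negD c
  exact ⟨(isParabolic_isLevi hG hp' (DynPar.centralizer_congr hz fun B _ f g => (mem_ZSub_negD c).symm)).1,
    isPullback_negD c hp hp' hz l hl⟩

section Restrict

variable {S' W : Scheme.{u}} {f : S' ⟶ S} {a : W ⟶ S'} {ψ : W ⟶ S}

theorem inF_PFam_restrict (e : Red.bc ψ G ≅ Red.bc a (Red.bc f G)) [IsMonHom e.hom] (c : Red.DS S' ℤ ⟶ Red.bc f G)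
    {X : Over W} (g : X ⟶ Red.bc ψ G) :
    InF (PFam (cW e c)) g ↔ InF (PFam c) (fromB a (g ≫ e.hom)) := by
  rw [← inF_fromB a (K := PFam c) (K' := PFam (bcHom' a c)) (fun B _ fa fb h b => mem_PSub_down a h c)]
  haveI : IsMonHom e.symm.hom := inferInstanceAs (IsMonHom e.inv)
  constructor
  · intro h B _ fB y
    have h1 := comp_mem_PSub fB (cW e c) e.hom (h B fB y)
    rw [cW, Category.assoc, Iso.inv_hom_id, Category.comp_id, Category.assoc] at h1
    exact h1
  · intro h B _ fB y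
    have h1 := comp_mem_PSub fB (bcHom' a c) e.symm.hom (h B fB y)
    rw [Category.assoc y, Iso.symm_hom, Category.assoc g, Iso.hom_inv_id, Category.comp_id] at h1
    exact h1

theorem cW_negD (e : Red.bc ψ G ≅ Red.bc a (Red.bc f G)) (c : Red.DS S' ℤ ⟶ Red.bc f G) :
    cW e (negD c) = negD (cW e c) := by
  rw [cW, negD, bcHom'_DSmap, Category.assoc]
  rfl

/-- Restriction of a chart of a Levi subgroup. -/
theorem exists_restrict_levi (h : a ≫ f = ψ) {P L : Over S} [GrpObj P] [GrpObj L] (p : P ⟶ G) (l : L ⟶ P)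
    {c : Red.DS S' ℤ ⟶ Red.bc f G} [IsMonHom c] (hp : IsP c ((Over.pullback f).map p))
    (hz : Red.IsCentralizerOf c ((Over.pullback f).map (l ≫ p))) :
    ∃ e : Red.bc ψ G ≅ Red.bc a (Red.bc f G), IsMonHom e.hom ∧
      e.hom.left ≫ pullback.fst _ a ≫ pullback.fst G.hom f = pullback.fst G.hom ψ ∧
      IsP (cW e c) ((Over.pullback ψ).map p) ∧ Red.IsCentralizerOf (cW e c) ((Over.pullback ψ).map (l ≫ p)) := by
  haveI := hp.1
  obtain ⟨eG, heG, hG'⟩ := MaxTorusBC.exists_trIso h G
  obtain ⟨eP, heP, hP'⟩ := MaxTorusBC.exists_trIso h P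
  obtain ⟨eL, heL, hL'⟩ := MaxTorusBC.exists_trIso h L
  haveI : IsMonHom eG.hom := hG'
  haveI : IsMonHom eP.hom := hP'
  haveI : IsMonHom eL.hom := hL'
  haveI : IsMonHom eG.symm.hom := inferInstanceAs (IsMonHom eG.inv)
  have hn : eL.hom ≫ ((Over.pullback a).map ((Over.pullback f).map (l ≫ p)) ≫ eG.inv) =
      (Over.pullback ψ).map (l ≫ p) := by
    rw [← Category.assoc, Iso.comp_inv_eq, heL, heG, MTImage.trIso_natural]
  refine ⟨eG, hG', trIso_left_fst h eG heG, isP_transport (hp.bc a) eG.symm eP rfl ?_, ?_⟩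
  · show eP.hom ≫ (Over.pullback a).map ((Over.pullback f).map p) ≫ eG.inv = _
    rw [← Category.assoc, Iso.comp_inv_eq, heP, heG, MTImage.trIso_natural]
  · have hz' := centralizer_transport (DynPar.centralizer_bc a hz) eG.symm (c' := cW eG c) rfl
    rw [Iso.symm_hom] at hz'
    haveI := hz'.1
    haveI : Mono ((Over.pullback a).map ((Over.pullback f).map (l ≫ p)) ≫ eG.inv) := hz'.2.1
    rw [← hn]
    refine ⟨inferInstance, mono_comp _ _, fun X g => Iff.trans ⟨fun ⟨y, hy⟩ => ⟨y ≫ eL.hom, by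
      rw [Category.assoc, hy]⟩, fun ⟨y, hy⟩ => ⟨y ≫ eL.inv, by
      rw [Category.assoc, Iso.inv_hom_id_assoc, hy]⟩⟩ (hz'.2.2 X g)⟩

end Restrict

variable {P L : Over S} [GrpObj P] [GrpObj L]

/-- **There is a parabolic subgroup meeting a parabolic subgroup in a given Levi subgroup.** -/
theorem exists_opposite (hG : Red.IsReductive G) (p : P ⟶ G) (hP : Red.IsParabolic p) {l : L ⟶ P}
    (hl : Par.IsLevi l) :
    ∃ (P' : Over S) (_ : GrpObj P') (p' : P' ⟶ G) (m : L ⟶ P'), Red.IsParabolic p' ∧ IsPullback l m p p' := by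
  haveI := hl.1; haveI := hl.2.1; haveI := hP.1; haveI := hP.2.1; haveI := hG.1; haveI := hG.2.1
  haveI : Mono p := Over.mono_of_mono_left p
  haveI : IsAffineHom P.hom := by rw [← Over.w p]; infer_instance
  haveI := isClosedImmersion_levi hl
  haveI : IsClosedImmersion (l ≫ p).left := by rw [Over.comp_left]; infer_instance
  choose S' f hf hs c₀ hc₀ hcP hcZ using exists_levi_chart hG p hP hl
  let c : ∀ s, Red.DS (S' s) ℤ ⟶ Red.bc (f s) G := fun s => c₀ s ≫ (Over.pullback (f s)).map (l ≫ p)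
  haveI hc : ∀ s, IsMonHom (c s) := fun s => by
    haveI := hc₀ s
    exact isMonHom_comp' (c₀ s) ((Over.pullback (f s)).map (l ≫ p))
  haveI : ∀ s, IsMonHom (negD (c s)) := fun s => isMonHom_negD (c s)
  haveI : ∀ s, IsAffineHom (Red.bc (f s) G).hom := fun s => (DynPar.isReductive_bc (f s) hG).1
  have hg := mem_fpqc_of_etale (Q := S') (f := f) hf fun s => ⟨s, hs s⟩
  choose Po hPog po hpo using fun s => exists_isP (G := Red.bc (f s) G) (negD (c s))
  haveI : ∀ s, IsMonHom (po s) := fun s => (hpo s).1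
  obtain ⟨P', _, p', hp'm, hp'c, hfac, he⟩ := exists_glue_subgroup hg po (fun s => (hpo s).2.1)
    fun i j W w₁ w₂ hw h₁ => by
    let a := w₁ ≫ pullback.snd G.hom (f i)
    let b := w₂ ≫ pullback.snd G.hom (f j)
    have hψ : (w₁ ≫ pullback.fst G.hom (f i)) ≫ G.hom = a ≫ f i := by
      simp only [a, Category.assoc, pullback.condition]
    have hb : b ≫ f j = a ≫ f i := by
      rw [← hψ, hw]
      simp only [b, Category.assoc, pullback.condition]
    obtain ⟨ea, hea, hea', hPa, hZa⟩ := exists_restrict_levi (rfl : a ≫ f i = _) p l (hcP i) (hcZ i)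
    obtain ⟨eb, heb, heb', hPb, hZb⟩ := exists_restrict_levi hb p l (hcP j) (hcZ j)
    haveI := hea; haveI := heb
    haveI := isMonHom_cW ea (c i); haveI := isMonHom_cW eb (c j)
    haveI := isMonHom_negD (cW ea (c i))
    have hGW := DynPar.isReductive_bc (a ≫ f i) hG
    haveI := hGW.1
    obtain ⟨P₁, _, p₁, hp₁⟩ := exists_isP (G := Red.bc (a ≫ f i) G) (negD (cW ea (c i)))
    obtain ⟨hpar, m, -, hsq⟩ := isParabolic_negD hGW _ hPa hp₁ hZa ((Over.pullback _).map l)
      (Functor.map_comp _ l p).symm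
    have hp₁b := isP_negD hGW _ hPb hZb hpar ((Over.pullback _).map l) (Functor.map_comp _ l p).symm m hsq
    obtain ⟨ω, hω⟩ := exists_omega (w₁ ≫ pullback.fst G.hom (f i)) hψ
    rw [exists_fac_iff_restrict ea (po i) (hpo i).2.2 w₁ ω (omega_spec ea hea' w₁ rfl ω hω),
      ← inF_PFam_restrict, cW_negD] at h₁
    rw [exists_fac_iff_restrict eb (po j) (hpo j).2.2 w₂ ω (omega_spec eb heb' w₂ rfl ω (hω.trans hw)),
      ← inF_PFam_restrict, cW_negD]
    exact (hp₁b.2.2 _ _).1 ((hp₁.2.2 _ _).2 h₁)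
  haveI := hp'm; haveI := hp'c
  haveI : Mono p' := Over.mono_of_mono_left p'
  choose e hem hee using he
  have hchart : ∀ s, IsP (negD (c s)) ((Over.pullback (f s)).map p') := fun s => by
    haveI := hem s
    haveI : IsMonHom (Iso.refl (Red.bc (f s) G)).hom := inferInstanceAs (IsMonHom (𝟙 _))
    exact isP_transport (hpo s) (Iso.refl _) (e s) (Category.comp_id _) (by rw [Iso.refl_hom, Category.comp_id, hee])
  have hloc : ∀ s, Red.IsParabolic ((Over.pullback (f s)).map p') ∧
      ∃ m : Red.bc (f s) L ⟶ Red.bc (f s) P', m ≫ (Over.pullback (f s)).map p' = (Over.pullback (f s)).map (l ≫ p) ∧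
        IsPullback ((Over.pullback (f s)).map l) m ((Over.pullback (f s)).map p) ((Over.pullback (f s)).map p') :=
    fun s => isParabolic_negD (DynPar.isReductive_bc (f s) hG) (c s) (hcP s) (hchart s) (hcZ s) _
      (Functor.map_comp _ l p).symm
  obtain ⟨m, hm⟩ := exists_fac_of_cover hg p' (l ≫ p) fun s => ⟨_, (hloc s).2.choose_spec.1⟩
  have hsm : Smooth P'.hom := smooth_of_cover hf (fun s => ⟨s, hs s⟩) fun s => (hloc s).1.2.2.1
  refine ⟨P', inferInstance, p', m, ⟨hp'm, hp'c, hsm, fun s => ?_⟩, ⟨hm.symm⟩, ⟨?_⟩⟩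
  · haveI := hf s
    obtain ⟨φ, hφ⟩ := BorelConj.exists_geom_lift (f s) (Red.geomPt s) (by rw [MTImage.geomPt_closedPoint]; exact hs s)
    obtain ⟨eG, heG, hG'⟩ := MaxTorusBC.exists_trIso hφ G
    obtain ⟨eP, heP, hP''⟩ := MaxTorusBC.exists_trIso hφ P'
    haveI : IsMonHom eG.hom := hG'
    haveI : IsMonHom eP.hom := hP''
    haveI : IsMonHom eG.symm.hom := inferInstanceAs (IsMonHom eG.inv)
    haveI : IsMonHom (bcHom' φ (negD (c s))) := isMonHom_bcHom' φ _
    let c' := bcHom' φ (negD (c s)) ≫ eG.inv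
    haveI : IsMonHom c' := isMonHom_comp' (bcHom' φ (negD (c s))) eG.symm.hom
    have hP₀ : IsP c' ((Over.pullback (Red.geomPt s)).map p') := isP_transport ((hchart s).bc φ) eG.symm eP rfl (by
      show eP.hom ≫ (Over.pullback φ).map ((Over.pullback (f s)).map p') ≫ eG.inv = _
      rw [← Category.assoc, Iso.comp_inv_eq, heP, heG, MTImage.trIso_natural])
    have hGs := hG.2.2 s
    haveI : IsAffineHom (Red.geomFibre s G).hom := inferInstanceAs (IsAffineHom (pullback.snd G.hom (Red.geomPt s)))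
    haveI : Smooth (Red.geomFibre s G).hom := inferInstanceAs (Smooth (pullback.snd G.hom (Red.geomPt s)))
    obtain ⟨Z, _, z, hz, -, -⟩ := exists_centralizer_DS (G := Red.geomFibre s G) inferInstance inferInstance c'
    exact (field_parabolic hGs c' _ _ hP₀ hz).1
  · have key : ∀ t : PullbackCone p p', ∃ w, w ≫ l ≫ p = t.fst ≫ p := fun t =>
      exists_fac_of_cover hg (l ≫ p) _ fun s => by
        obtain ⟨m', -, hsq⟩ := (hloc s).2
        refine ⟨hsq.lift ((Over.pullback (f s)).map t.fst) ((Over.pullback (f s)).map t.snd)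
          (by rw [← Functor.map_comp, ← Functor.map_comp, t.condition]), ?_⟩
        simp only [Functor.map_comp, IsPullback.lift_fst_assoc]
    haveI : Mono (l ≫ p) := Over.mono_of_mono_left _
    refine PullbackCone.IsLimit.mk _ (fun t => (key t).choose) (fun t => ?_) (fun t => ?_) fun t w h1 _ => ?_
    · rw [← cancel_mono p, Category.assoc, (key t).choose_spec]
    · rw [← cancel_mono p', Category.assoc, hm, (key t).choose_spec, t.condition]
    · rw [← cancel_mono (l ≫ p), (key t).choose_spec, ← h1, Category.assoc]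

/-- **The parabolic subgroup meeting a parabolic subgroup in a given Levi subgroup is unique.** -/
theorem opposite_unique (hG : Red.IsReductive G) (p : P ⟶ G) (hP : Red.IsParabolic p) {l : L ⟶ P}
    (hl : Par.IsLevi l) {P₁ P₂ : Over S} [GrpObj P₁] [GrpObj P₂] {p₁ : P₁ ⟶ G} {p₂ : P₂ ⟶ G} {m₁ : L ⟶ P₁}
    {m₂ : L ⟶ P₂} (h₁ : Red.IsParabolic p₁) (h₂ : Red.IsParabolic p₂) (s₁ : IsPullback l m₁ p p₁)
    (s₂ : IsPullback l m₂ p p₂) : ∃ e : P₁ ≅ P₂, e.hom ≫ p₂ = p₁ := by
  haveI := hl.1; haveI := hP.1; haveI := h₁.2.1; haveI := h₂.2.1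
  haveI : Mono p₁ := Over.mono_of_mono_left p₁
  haveI : Mono p₂ := Over.mono_of_mono_left p₂
  choose S' f hf hs c₀ hc₀ hcP hcZ using exists_levi_chart hG p hP hl
  have hg := mem_fpqc_of_etale (Q := S') (f := f) hf fun s => ⟨s, hs s⟩
  have hi : ∀ s, ∃ e : Red.bc (f s) P₁ ≅ Red.bc (f s) P₂,
      e.hom ≫ (Over.pullback (f s)).map p₂ = (Over.pullback (f s)).map p₁ := fun s => by
    haveI := hc₀ s
    let c := c₀ s ≫ (Over.pullback (f s)).map (l ≫ p)
    haveI : IsMonHom c := isMonHom_comp' (c₀ s) ((Over.pullback (f s)).map (l ≫ p))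
    haveI : PreservesLimitsOfShape WalkingCospan (Over.pullback (f s)) :=
      (Over.mapPullbackAdj (f s)).rightAdjoint_preservesLimits.preservesLimitsOfShape
    have hGs := DynPar.isReductive_bc (f s) hG
    exact (isP_negD hGs c (hcP s) (hcZ s) (isParabolic_bc (f s) hG h₁) _ (Functor.map_comp _ l p).symm _
      (s₁.map (Over.pullback (f s)))).exists_iso (isP_negD hGs c (hcP s) (hcZ s) (isParabolic_bc (f s) hG h₂) _
      (Functor.map_comp _ l p).symm _ (s₂.map (Over.pullback (f s))))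
  choose e he using hi
  obtain ⟨a, ha⟩ := exists_fac_of_cover hg p₂ p₁ fun s => ⟨_, he s⟩
  obtain ⟨b, hb⟩ := exists_fac_of_cover hg p₁ p₂ fun s => ⟨(e s).inv, by rw [← he s, Iso.inv_hom_id_assoc]⟩
  exact ⟨⟨a, b, by rw [← cancel_mono p₁, Category.assoc, hb, ha, Category.id_comp],
    by rw [← cancel_mono p₂, Category.assoc, ha, hb, Category.id_comp]⟩, ha⟩

end Groth.Agent.ParStd
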