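import Groth.Agent.DynPar.Main
import Groth.Agent.BorelConj.Nhd
import Groth.Agent.BorelConj.Main

/-!
# The contracted subgroup of `P(λ)` is its unipotent radical
-/

set_option autoImplicit false
set_option linter.style.haveILetI false
set_option backward.isDefEq.respectTransparency false
set_option maxHeartbeats 1000000
set_option synthInstance.maxHeartbeats 400000

universe u

open CategoryTheory Limits MonoidalCategory CartesianMonoidalCategory MonObj AlgebraicGeometry LieS
open scoped CategoryTheory.Obj

noncomputable section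

namespace Groth.Agent.ParStd

open Groth.Agent.HomDiag Groth.Agent.MTBridge Groth.Agent.DynPar

variable {S : Scheme.{u}} {G : Over S} [GrpObj G] [IsAffineHom G.hom] {Γ : Type} [AddCommGroup Γ] [LinearOrder Γ]
  [IsOrderedAddMonoid Γ] {c : Red.DS S Γ ⟶ G} [IsMonHom c]

/-- **The contracted subgroup is the unipotent radical.** -/
theorem isUnipotentRadical_iu (hG : Red.IsReductive G) {P Z : Over S} [GrpObj P] [GrpObj Z] {p : P ⟶ G} {z : Z ⟶ G}
    (hp : IsP c p) (hz : Red.IsCentralizerOf c z) {U : Over S} [GrpObj U] {u : U ⟶ G} (hu : IsU c u)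
    (d : LeviData (c := c) p u z) : Par.IsUnipotentRadical d.iu := by
  haveI := hp.1; haveI := hp.2.1; haveI := hz.1
  haveI := hu.1; haveI := hu.2.1
  haveI := d.l_hom; haveI := d.iu_hom; haveI := d.r_hom
  have hPs := smooth_isP hG.2.1 c hp
  obtain ⟨hUs, hZs⟩ := smooth_isU hG.2.1 hp hu hz
  haveI := hPs; haveI := hUs; haveI := hZs
  haveI : IsAffineHom P.hom := by rw [← Over.w p]; infer_instance
  haveI : IsAffineHom U.hom := by rw [← Over.w u]; infer_instance
  haveI : Mono p := Over.mono_of_mono_left p
  haveI : IsClosedImmersion d.iu.left := by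
    haveI : IsClosedImmersion (d.iu.left ≫ p.left) := by rw [← Over.comp_left, d.iu_p]; infer_instance
    exact IsClosedImmersion.of_comp d.iu.left p.left
  haveI : Mono d.iu := Over.mono_of_mono_left _
  haveI : Mono d.l := mono_of_mono_fac d.l_r
  haveI : IsClosedImmersion d.l.left := by
    haveI : IsSeparated (d.r.left ≫ Z.hom) := by rw [Over.w]; infer_instance
    haveI : IsSeparated d.r.left := IsSeparated.of_comp d.r.left Z.hom
    haveI : IsClosedImmersion (d.l.left ≫ d.r.left) := by
      rw [← Over.comp_left, d.l_r, Over.id_left]; infer_instance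
    exact IsClosedImmersion.of_comp d.l.left d.r.left
  haveI : IsAffineHom Z.hom := by rw [← Over.w d.l]; infer_instance
  have hconn : ∀ s : S, ConnectedSpace (Red.geomFibre s G).left := fun s => (hG.2.2 s).2.2.1
  have hfib : ∀ s : S,
      Red.IsParabolicOver (AlgebraicClosure (S.residueField s)) ((Over.pullback (Red.geomPt s)).map p) ∧
        Red.IsReductiveOver (AlgebraicClosure (S.residueField s)) (Red.geomFibre s Z) := fun s =>
    field_parabolic (hG.2.2 s) (bcHom' (Red.geomPt s) c) _ _ (hp.bc _) (centralizer_bc (Red.geomPt s) hz)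
  refine ⟨inferInstance, inferInstance, ?_, hUs, inferInstance, fun s => ?_, ?_⟩
  · -- normality
    intro T g n
    refine ⟨(g * (n ≫ d.iu) * g⁻¹) ≫ d.s, ?_⟩
    have hr : (g * (n ≫ d.iu) * g⁻¹) ≫ d.r = 1 := by
      rw [MonObj.mul_comp, MonObj.mul_comp, GrpObj.inv_comp, Category.assoc, d.iu_r, MonObj.comp_one,
        _root_.mul_one, mul_inv_cancel]
    have h := congrArg ((g * (n ≫ d.iu) * g⁻¹) ≫ ·) d.rs
    rw [MonObj.comp_mul, Category.comp_id, ← Category.assoc _ d.r d.l, hr,
      show (1 : T ⟶ Z) ≫ d.l = 1 from (IsMonHom.monoidHom d.l T).map_one, _root_.one_mul] at h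
    rw [Category.assoc]
    exact h.symm
  · obtain ⟨-, hUc, -, hUn⟩ := geom_fibre hG.2.1 hconn hp hu hz s
    exact ⟨hUc, hUn⟩
  · -- maximality
    intro U' _ u' _ hcl hn hs hqc hfibU
    haveI := hcl; haveI := hs
    haveI : Mono u' := Over.mono_of_mono_left u'
    haveI : IsAffineHom U'.hom := by rw [← Over.w u']; infer_instance
    obtain ⟨ρ, hρ⟩ := exists_hom_of_pts (X := U') (Y := U')
      (fun B _ f y => (exists_lim_fac hp hz d u' hn y).choose) fun B B' _ _ f f' h hf y => by
        rw [← cancel_mono u']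
        refine (exists_lim_fac hp hz d u' hn (qm h hf ≫ y)).choose_spec.trans ?_
        rw [Category.assoc, Category.assoc, (exists_lim_fac hp hz d u' hn y).choose_spec]
    have hρu : ρ ≫ u' = u' ≫ d.r ≫ d.l := hom_ext_pts _ _ fun B _ f y => by
      rw [← Category.assoc y ρ, hρ, (exists_lim_fac hp hz d u' hn y).choose_spec]
    haveI : IsMonHom (u' ≫ d.r ≫ d.l) := inferInstance
    haveI : IsMonHom ρ := MTSplit.isMonHom_of_comp_mono ρ u' _ hρu
    have hρρ : ρ ≫ ρ = ρ := by
      rw [← cancel_mono u', Category.assoc, hρu, reassoc_of% hρu, ← Category.assoc d.l d.r d.l, d.l_r,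
        Category.id_comp]
    let φ : U' ⟶ U' := ρ⁻¹ * 𝟙 U'
    have hφρ : φ ≫ ρ = 1 := by
      rw [MonObj.mul_comp, GrpObj.inv_comp, hρρ, Category.id_comp, inv_mul_cancel]
    haveI : IsIso φ := by
      refine ParNorm.isIso_of_geomPts φ fun s => ?_
      let F := Over.pullback (Red.geomPt s)
      obtain ⟨hc', hn'⟩ := hfibU s
      haveI := hc'
      haveI : Smooth (Red.geomFibre s U').hom :=
        MorphismProperty.pullback_snd (P := @Smooth) U'.hom (Red.geomPt s) hs
      haveI : IsAffineHom (Red.geomFibre s U').hom :=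
        inferInstanceAs (IsAffineHom (pullback.snd U'.hom (Red.geomPt s)))
      haveI : IsAffine (Red.geomFibre s U').left := isAffine_of_isAffineHom (Red.geomFibre s U').hom
      have h1 : F.map u' ≫ F.map d.r = 1 :=
        eq_one_of_retract (hfib s).2 (F.map d.l) (F.map d.r)
          ((F.map_comp _ _).symm.trans (by rw [d.l_r, CategoryTheory.Functor.map_id])) (F.map u')
          (SubGen.isNormalHom_pullback (Red.geomPt s) P u' hn) hn'
      haveI : IsClosedImmersion (F.map u').left := MorphismProperty.overPullbackMap (P := @IsClosedImmersion) _ u' hcl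
      haveI : Mono (F.map u') := Over.mono_of_mono_left _
      have h2 : F.map ρ = 1 := by
        rw [← cancel_mono (F.map u'), ← F.map_comp, hρu, F.map_comp, F.map_comp, ← Category.assoc, h1,
          show (1 : F.obj U' ⟶ F.obj Z) ≫ F.map d.l = 1 from (IsMonHom.monoidHom (F.map d.l) _).map_one]
        exact ((IsMonHom.monoidHom (F.map u') _).map_one).symm
      have h3 : F.map φ = 𝟙 _ := by
        have h4 : ρ * φ = 𝟙 U' := mul_inv_cancel_left ρ _
        have h5 := (F.homMonoidHom (X := U') (M := U')).map_mul ρ φ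
        simp only [Functor.homMonoidHom_apply] at h5
        rw [h4, CategoryTheory.Functor.map_id, h2, _root_.one_mul] at h5
        exact h5.symm
      rw [h3]
      infer_instance
    have hρ1 : ρ = 1 := by
      rw [← cancel_epi φ, hφρ, MonObj.comp_one]
    refine ⟨u' ≫ d.s, ?_⟩
    have h := congrArg (u' ≫ ·) d.rs
    rw [MonObj.comp_mul, Category.comp_id, ← hρu, hρ1,
      show (1 : U' ⟶ U') ≫ u' = 1 from (IsMonHom.monoidHom u' _).map_one, _root_.one_mul] at h
    rw [Category.assoc]
    exact h

/-- A normal subgroup without tori on some geometric fibre over each point lies in the contracted subgroup. -/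
theorem exists_fac_iu (hG : Red.IsReductive G) {P Z : Over S} [GrpObj P] [GrpObj Z] {p : P ⟶ G} {z : Z ⟶ G}
    (hp : IsP c p) (hz : Red.IsCentralizerOf c z) {U : Over S} [GrpObj U] {u : U ⟶ G} (hu : IsU c u)
    (d : LeviData (c := c) p u z) {U' : Over S} [GrpObj U'] (u' : U' ⟶ P) [IsMonHom u']
    (hcl : IsClosedImmersion u'.left) (hn : AlgGrp.IsNormalHom u') (hs : Smooth U'.hom)
    (hgeo : ∀ v : S, ∃ (K : Type u) (_ : Field K) (_ : IsAlgClosed K) (g₀ : Spec (CommRingCat.of K) ⟶ S),
      g₀ (IsLocalRing.closedPoint K) = v ∧ ConnectedSpace (Red.bc g₀ U').left ∧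
        Red.HasNoSubtorus K (Red.bc g₀ U')) : ∃ f : U' ⟶ U, f ≫ d.iu = u' := by
  haveI := hp.1; haveI := hp.2.1; haveI := hz.1
  haveI := hu.1; haveI := hu.2.1
  haveI := d.l_hom; haveI := d.iu_hom; haveI := d.r_hom
  have hPs := smooth_isP hG.2.1 c hp
  obtain ⟨hUs, hZs⟩ := smooth_isU hG.2.1 hp hu hz
  haveI := hPs; haveI := hUs; haveI := hZs
  haveI : IsAffineHom P.hom := by rw [← Over.w p]; infer_instance
  haveI : IsAffineHom U.hom := by rw [← Over.w u]; infer_instance
  haveI : Mono p := Over.mono_of_mono_left p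
  haveI : IsClosedImmersion d.iu.left := by
    haveI : IsClosedImmersion (d.iu.left ≫ p.left) := by rw [← Over.comp_left, d.iu_p]; infer_instance
    exact IsClosedImmersion.of_comp d.iu.left p.left
  haveI : Mono d.iu := Over.mono_of_mono_left _
  haveI : Mono d.l := mono_of_mono_fac d.l_r
  haveI : IsClosedImmersion d.l.left := by
    haveI : IsSeparated (d.r.left ≫ Z.hom) := by rw [Over.w]; infer_instance
    haveI : IsSeparated d.r.left := IsSeparated.of_comp d.r.left Z.hom
    haveI : IsClosedImmersion (d.l.left ≫ d.r.left) := by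
      rw [← Over.comp_left, d.l_r, Over.id_left]; infer_instance
    exact IsClosedImmersion.of_comp d.l.left d.r.left
  haveI : IsAffineHom Z.hom := by rw [← Over.w d.l]; infer_instance
  haveI := hcl; haveI := hs
  haveI : Mono u' := Over.mono_of_mono_left u'
  haveI : IsAffineHom U'.hom := by rw [← Over.w u']; infer_instance
  obtain ⟨ρ, hρ⟩ := exists_hom_of_pts (X := U') (Y := U')
    (fun B _ f y => (exists_lim_fac hp hz d u' hn y).choose) fun B B' _ _ f f' h hf y => by
      rw [← cancel_mono u']
      refine (exists_lim_fac hp hz d u' hn (qm h hf ≫ y)).choose_spec.trans ?_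
      rw [Category.assoc, Category.assoc, (exists_lim_fac hp hz d u' hn y).choose_spec]
  have hρu : ρ ≫ u' = u' ≫ d.r ≫ d.l := hom_ext_pts _ _ fun B _ f y => by
    rw [← Category.assoc y ρ, hρ, (exists_lim_fac hp hz d u' hn y).choose_spec]
  haveI : IsMonHom (u' ≫ d.r ≫ d.l) := inferInstance
  haveI : IsMonHom ρ := MTSplit.isMonHom_of_comp_mono ρ u' _ hρu
  have hρρ : ρ ≫ ρ = ρ := by
    rw [← cancel_mono u', Category.assoc, hρu, reassoc_of% hρu, ← Category.assoc d.l d.r d.l, d.l_r,
      Category.id_comp]
  let φ : U' ⟶ U' := ρ⁻¹ * 𝟙 U'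
  have hφρ : φ ≫ ρ = 1 := by
    rw [MonObj.mul_comp, GrpObj.inv_comp, hρρ, Category.id_comp, inv_mul_cancel]
  haveI : IsIso φ := by
    refine ParNorm.isIso_of_geomPts φ fun v => ?_
    obtain ⟨K, _, _, g₀, hg₀, hc', hn'⟩ := hgeo v
    have hK : IsIso ((Over.pullback g₀).map φ) := by
      let F := Over.pullback g₀
      haveI := hc'
      haveI : Smooth (F.obj U').hom := inferInstanceAs (Smooth (pullback.snd U'.hom g₀))
      haveI : IsAffineHom (F.obj U').hom := inferInstanceAs (IsAffineHom (pullback.snd U'.hom g₀))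
      haveI : IsAffine (F.obj U').left := isAffine_of_isAffineHom (F.obj U').hom
      have hZK : Red.IsReductiveOver K (F.obj Z) :=
        (field_parabolic (BorelConj.isReductiveOver_pt hG g₀) (bcHom' g₀ c) _ _ (hp.bc g₀) (centralizer_bc g₀ hz)).2
      have h1 : F.map u' ≫ F.map d.r = 1 :=
        eq_one_of_retract hZK (F.map d.l) (F.map d.r)
          ((F.map_comp _ _).symm.trans (by rw [d.l_r, CategoryTheory.Functor.map_id])) (F.map u')
          (SubGen.isNormalHom_pullback g₀ P u' hn) hn'
      haveI : IsClosedImmersion (F.map u').left := MorphismProperty.overPullbackMap (P := @IsClosedImmersion) _ u' hcl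
      haveI : Mono (F.map u') := Over.mono_of_mono_left _
      have h2 : F.map ρ = 1 := by
        rw [← cancel_mono (F.map u'), ← F.map_comp, hρu, F.map_comp, F.map_comp, ← Category.assoc, h1,
          show (1 : F.obj U' ⟶ F.obj Z) ≫ F.map d.l = 1 from (IsMonHom.monoidHom (F.map d.l) _).map_one]
        exact ((IsMonHom.monoidHom (F.map u') _).map_one).symm
      have h3 : F.map φ = 𝟙 _ := by
        have h4 : ρ * φ = 𝟙 U' := mul_inv_cancel_left ρ _
        have h5 := (F.homMonoidHom (X := U') (M := U')).map_mul ρ φ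
        simp only [Functor.homMonoidHom_apply] at h5
        rw [h4, CategoryTheory.Functor.map_id, h2, _root_.one_mul] at h5
        exact h5.symm
      rw [h3]
      infer_instance
    have h6 := BorelConj.isIso_fib_of_pt φ g₀ hK
    rw [hg₀] at h6
    let j := Spec.map (CommRingCat.ofHom (algebraMap (S.residueField v) (AlgebraicClosure (S.residueField v))))
    haveI : IsIso ((Over.pullback (S.fromSpecResidueField v)).map φ) := h6
    exact (NatIso.isIso_map_iff (Over.pullbackComp j (S.fromSpecResidueField v)) φ).2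
      (inferInstanceAs (IsIso ((Over.pullback j).map ((Over.pullback (S.fromSpecResidueField v)).map φ))))
  have hρ1 : ρ = 1 := by
    rw [← cancel_epi φ, hφρ, MonObj.comp_one]
  refine ⟨u' ≫ d.s, ?_⟩
  have h := congrArg (u' ≫ ·) d.rs
  rw [MonObj.comp_mul, Category.comp_id, ← hρu, hρ1,
    show (1 : U' ⟶ U') ≫ u' = 1 from (IsMonHom.monoidHom u' _).map_one, _root_.one_mul] at h
  rw [Category.assoc]
  exact h


end Groth.Agent.ParStd
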