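import Groth.Agent.DynPar.Main
import Groth.Agent.GrpField.Kernel
import Groth.Agent.BorelConj.Parabolic

/-!
# Levi subgroups: reductive subgroups of `P(λ)` through which `λ` factors are centralised by `λ`
-/

set_option autoImplicit false
set_option linter.style.haveILetI false
set_option backward.isDefEq.respectTransparency false
set_option backward.isDefEq.respectTransparency.types false
set_option maxHeartbeats 1000000
set_option synthInstance.maxHeartbeats 400000

universe u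

open CategoryTheory Limits MonoidalCategory CartesianMonoidalCategory MonObj AlgebraicGeometry LieS
open scoped CategoryTheory.Obj

noncomputable section

namespace Groth.Agent.ParStd

open Groth.Agent.HomDiag Groth.Agent.DynPar Groth.Agent.MTBridge

variable {S : Scheme.{u}}

/-- Limits in a closed subgroup. -/
theorem mem_PSub_of_comp {G K : Over S} [GrpObj G] [GrpObj K] [IsAffineHom K.hom] {Γ : Type} [AddCommGroup Γ]
    [LinearOrder Γ] [IsOrderedAddMonoid Γ] {c : Red.DS S Γ ⟶ G} [IsMonHom c] {c' : Red.DS S Γ ⟶ K} [IsMonHom c']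
    (κ : K ⟶ G) [IsMonHom κ] [IsClosedImmersion κ.left] (hc : c' ≫ κ = c) {B : Type u} [CommRing B]
    {f : Spec (CommRingCat.of B) ⟶ S} {g : pt B f ⟶ K} (hg : g ≫ κ ∈ PSub f c) : g ∈ PSub f c' := by
  obtain ⟨h, hh⟩ := (mem_PSub f c).1 hg
  have horb : orb f c (g ≫ κ) = orb f c' g ≫ κ := by
    rw [orb_apply, orb_apply, MonObj.mul_comp, MonObj.mul_comp, GrpObj.inv_comp]
    simp only [Category.assoc, hc]
  obtain ⟨z, hz⟩ := (exists_fac_iff_ker_le κ.left h.left).2 (by
    rw [← ker_qn_comp h, hh, horb, Over.comp_left]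
    exact (exists_fac_iff_ker_le κ.left _).1 ⟨(orb f c' g).left, rfl⟩)
  let h' : pt _ (fL f (NN Γ)) ⟶ K := Over.homMk z (by
    show z ≫ K.hom = _
    rw [← Over.w κ, ← Category.assoc, hz, Over.w h])
  haveI : Mono κ := Over.mono_of_mono_left κ
  refine (mem_PSub f c').2 ⟨h', ?_⟩
  rw [← cancel_mono κ, Category.assoc, show h' ≫ κ = h from Over.OverMorphism.ext hz, hh, horb]

/-- A reductive group over an algebraically closed field in which a cocharacter has limits everywhere centralises it. -/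
theorem isIso_centralizer_of_top {k : Type u} [Field k] [IsAlgClosed k] {K : Over (Spec (CommRingCat.of k))}
    [GrpObj K] (hK : Red.IsReductiveOver k K) {Γ : Type} [AddCommGroup Γ] [LinearOrder Γ] [IsOrderedAddMonoid Γ]
    (c : Red.DS (Spec (CommRingCat.of k)) Γ ⟶ K) [IsMonHom c]
    (hP : ∀ (B : Type u) [CommRing B] (f : Spec (CommRingCat.of B) ⟶ Spec (CommRingCat.of k)) (g : pt B f ⟶ K),
      g ∈ PSub f c)
    {Z : Over (Spec (CommRingCat.of k))} [GrpObj Z] {z : Z ⟶ K} (hz : Red.IsCentralizerOf c z) : IsIso z := by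
  obtain ⟨hKa, hKs, hKc, hrad⟩ := hK
  haveI := hKa; haveI := hKs; haveI := hKc
  haveI : IsAffineHom K.hom := isAffineHom_of_isAffine K.hom
  have hp : IsP c (𝟙 K) := ⟨inferInstance, by rw [Over.id_left]; infer_instance,
    fun X g => ⟨fun _ B _ f y => hP B f _, fun _ => ⟨g, Category.comp_id g⟩⟩⟩
  obtain ⟨U, _, u, hu⟩ := exists_isU (G := K) c
  obtain ⟨d⟩ := exists_leviData hp hu hz
  haveI := hu.1; haveI := hu.2.1; haveI := hz.1; haveI := d.r_hom
  obtain ⟨-, hUc, hUn⟩ := field_fibre c hp hu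
  obtain ⟨hUs, -⟩ := smooth_isU hKs hp hu hz
  have hiu : d.iu = u := (Category.comp_id _).symm.trans d.iu_p
  haveI := d.iu_hom
  haveI := d.l_hom
  have hci : IsClosedImmersion d.iu.left :=
    Eq.mpr (congrArg (fun t : U ⟶ K => IsClosedImmersion t.left) hiu) hu.2.1
  have hn : AlgGrp.IsNormalHom d.iu := by
    intro T g n
    refine ⟨(g * (n ≫ d.iu) * g⁻¹) ≫ d.s, ?_⟩
    have hr : (g * (n ≫ d.iu) * g⁻¹) ≫ d.r = 1 := by
      rw [MonObj.mul_comp, MonObj.mul_comp, GrpObj.inv_comp, Category.assoc, d.iu_r, MonObj.comp_one,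
        _root_.mul_one, mul_inv_cancel]
    have h := congrArg ((g * (n ≫ d.iu) * g⁻¹) ≫ ·) d.rs
    rw [MonObj.comp_mul, Category.comp_id, ← Category.assoc _ d.r d.l, hr,
      show (1 : T ⟶ Z) ≫ d.l = 1 from (IsMonHom.monoidHom d.l T).map_one,
      _root_.one_mul] at h
    rw [Category.assoc]
    exact h.symm
  haveI : IsIso U.hom := hrad U d.iu hci hUs hUc hn (hUn inferInstance)
  have hu1 : d.iu = 1 := by
    have h : 𝟙 U = toUnit U ≫ η[U] :=
      Over.OverMorphism.ext ((cancel_mono U.hom).1 (by rw [Over.w (toUnit U ≫ η[U]), Over.w (𝟙 U)]))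
    rw [← Category.id_comp d.iu, h, Category.assoc, IsMonHom.one_hom, Hom.one_def]
  have hrl : d.r ≫ d.l = 𝟙 K := by
    have h := d.rs
    rwa [hu1, MonObj.comp_one, _root_.mul_one] at h
  have hl : d.l = z := (Category.comp_id _).symm.trans d.l_p
  exact ⟨d.r, (congrArg (· ≫ d.r) hl).symm.trans d.l_r, (congrArg (d.r ≫ ·) hl).symm.trans hrl⟩

/-- **A reductive subgroup of `P(λ)` through which `λ` factors centralises `λ`.** -/
theorem exists_fac_centralizer {G K P : Over S} [GrpObj G] [GrpObj K] [GrpObj P] [IsAffineHom G.hom] [Smooth G.hom]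
    (hK : Red.IsReductive K) {Γ : Type} [AddCommGroup Γ] [LinearOrder Γ] [IsOrderedAddMonoid Γ]
    {c : Red.DS S Γ ⟶ G} [IsMonHom c] {p : P ⟶ G} (hp : IsP c p) (κ : K ⟶ G) [IsMonHom κ] [Mono κ]
    (c' : Red.DS S Γ ⟶ K) [IsMonHom c'] (hc : c' ≫ κ = c) (hle : ∃ m, m ≫ p = κ) {Z : Over S} [GrpObj Z]
    {z : Z ⟶ G} (hz : Red.IsCentralizerOf c z) : ∃ m, m ≫ z = κ := by
  haveI := hK.1; haveI := hK.2.1; haveI := hp.1
  obtain ⟨Z', _, z', hz', hz'c, hz's⟩ := exists_centralizer_DS hK.2.1 hK.1 c'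
  haveI := hz'c; haveI := hz's; haveI := hz'.1
  haveI : IsIso z' := by
    refine ParNorm.isIso_of_geomPts z' fun s => ?_
    let φ := Red.geomPt s
    let F := Over.pullback φ
    haveI : PreservesLimitsOfShape WalkingCospan F :=
      (Over.mapPullbackAdj φ).rightAdjoint_preservesLimits.preservesLimitsOfShape
    haveI : IsAffineHom (F.obj G).hom := inferInstanceAs (IsAffineHom (pullback.snd G.hom φ))
    haveI : Smooth (F.obj G).hom := inferInstanceAs (Smooth (pullback.snd G.hom φ))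
    haveI : IsAffineHom (F.obj K).hom := inferInstanceAs (IsAffineHom (pullback.snd K.hom φ))
    haveI : Smooth (F.obj K).hom := inferInstanceAs (Smooth (pullback.snd K.hom φ))
    haveI : IsAffine (F.obj K).left := isAffine_of_isAffineHom (F.obj K).hom
    haveI : IsAffine (F.obj G).left := isAffine_of_isAffineHom (F.obj G).hom
    haveI : IsMonHom (F.map κ) := inferInstance
    haveI : Mono (F.map κ) := inferInstance
    haveI : IsClosedImmersion (F.map κ).left := GrpField.isClosedImmersion_of_mono (f := F.map κ)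
    haveI : IsMonHom (bcHom' φ c) := isMonHom_bcHom' φ c
    haveI : IsMonHom (bcHom' φ c') := isMonHom_bcHom' φ c'
    have hcs : bcHom' φ c' ≫ F.map κ = bcHom' φ c := by
      show (ej φ Γ ≫ F.map c') ≫ F.map κ = ej φ Γ ≫ F.map c
      rw [Category.assoc, ← F.map_comp, hc]
    exact isIso_centralizer_of_top (hK.2.2 s) (bcHom' φ c') (fun B _ f g => mem_PSub_of_comp (F.map κ) hcs (by
      obtain ⟨m, hm⟩ := hle
      exact (hp.bc φ).exists_fac_iff.1 ⟨g ≫ F.map m, by rw [Category.assoc, ← F.map_comp, hm]⟩))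
      (centralizer_bc φ hz')
  refine (hz.2.2 K κ).2 fun X' x h => ?_
  have h1 := (hz'.2.2 K (𝟙 K)).1 ⟨CategoryTheory.inv z', IsIso.inv_hom_id z'⟩ X' x h
  have h2 := congrArg (· ≫ κ) h1
  simpa only [MonObj.mul_comp, Category.assoc, Category.comp_id, hc] using h2

/-- Two unipotent radicals agree. -/
theorem exists_iso_radical {P U U' : Over S} [GrpObj P] [GrpObj U] [GrpObj U'] {u : U ⟶ P} {u' : U' ⟶ P}
    (hu : Par.IsUnipotentRadical u) (hu' : Par.IsUnipotentRadical u') : ∃ e : U ≅ U', e.hom ≫ u' = u := by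
  obtain ⟨h1, h2, h3, h4, h5, h6, h7⟩ := hu
  obtain ⟨g1, g2, g3, g4, g5, g6, g7⟩ := hu'
  haveI := h1; haveI := h2; haveI := g1; haveI := g2
  haveI : Mono u := Over.mono_of_mono_left u
  haveI : Mono u' := Over.mono_of_mono_left u'
  obtain ⟨a, ha⟩ := g7 U u h2 h3 h4 h5 h6
  obtain ⟨b, hb⟩ := h7 U' u' g2 g3 g4 g5 g6
  exact ⟨⟨a, b, by rw [← cancel_mono u, Category.assoc, hb, ha, Category.id_comp],
    by rw [← cancel_mono u', Category.assoc, ha, hb, Category.id_comp]⟩, ha⟩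

/-- The multiplication map of a Levi subgroup and any unipotent radical is an isomorphism. -/
theorem isIso_levi_mul {L P U : Over S} [GrpObj L] [GrpObj P] [GrpObj U] {l : L ⟶ P} (hl : Par.IsLevi l)
    {u : U ⟶ P} (hu : Par.IsUnipotentRadical u) : IsIso ((l ⊗ₘ u) ≫ μ) := by
  obtain ⟨-, -, -, U', _, u', hu', hiso⟩ := hl
  obtain ⟨e, he⟩ := exists_iso_radical hu hu'
  haveI := hiso
  rw [← he, show (l ⊗ₘ e.hom ≫ u') = (𝟙 L ⊗ₘ e.hom) ≫ (l ⊗ₘ u') by
    rw [MonoidalCategory.tensorHom_comp_tensorHom, Category.id_comp], Category.assoc]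
  infer_instance

/-- Points of the big product. -/
theorem lift_mul {L P U X : Over S} [GrpObj P] (l : L ⟶ P) (u : U ⟶ P) (a : X ⟶ L) (b : X ⟶ U) :
    lift a b ≫ (l ⊗ₘ u) ≫ μ = (a ≫ l) * (b ≫ u) := by
  rw [lift_map_assoc, ← Hom.mul_def]

/-- **Two comparable Levi subgroups are equal.** -/
theorem exists_iso_of_levi_le {L L' P : Over S} [GrpObj L] [GrpObj L'] [GrpObj P] {l : L ⟶ P} {l' : L' ⟶ P}
    (hl : Par.IsLevi l) (hl' : Par.IsLevi l') (m : L' ⟶ L) (hm : m ≫ l = l') :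
    ∃ e : L' ≅ L, e.hom ≫ l = l' := by
  obtain ⟨U, _, u, hu, -⟩ := hl.2.2.2
  haveI := isIso_levi_mul hl hu
  haveI := isIso_levi_mul hl' hu
  haveI := hl.1; haveI := hl.2.1; haveI := hl'.2.1; haveI := hu.1
  let q := l ≫ CategoryTheory.inv ((l' ⊗ₘ u) ≫ μ)
  let a := q ≫ fst L' U
  let b := q ≫ snd L' U
  have hq : (a ≫ l') * (b ≫ u) = l := by
    rw [← lift_mul, show lift a b = q by
      rw [show a = q ≫ fst L' U from rfl, show b = q ≫ snd L' U from rfl, ← comp_lift, lift_fst_snd,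
        Category.comp_id]]
    simp [q]
  have h2 : lift (a ≫ m) b = lift (𝟙 L) (1 : L ⟶ U) := by
    rw [← cancel_mono ((l ⊗ₘ u) ≫ μ), lift_mul, lift_mul, Category.assoc, hm, hq, Category.id_comp,
      show (1 : L ⟶ U) ≫ u = 1 from (IsMonHom.monoidHom u L).map_one, _root_.mul_one]
  have h3 : a ≫ m = 𝟙 L := by simpa using congrArg (· ≫ fst L U) h2
  refine ⟨⟨m, a, ?_, h3⟩, hm⟩
  rw [← cancel_mono l', Category.id_comp, ← hm, ← Category.assoc, Category.assoc m a m, h3, Category.comp_id]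

/-- A Levi subgroup is a closed subgroup. -/
theorem isClosedImmersion_levi {L P : Over S} [GrpObj L] [GrpObj P] [IsSeparated P.hom] {l : L ⟶ P}
    (hl : Par.IsLevi l) : IsClosedImmersion l.left := by
  obtain ⟨U, _, u, hu, hiso⟩ := hl.2.2.2
  haveI := hiso; haveI := hu.1
  let r : P ⟶ L := CategoryTheory.inv ((l ⊗ₘ u) ≫ μ) ≫ fst L U
  have hlr : l ≫ r = 𝟙 L := by
    have h : l = lift (𝟙 L) (1 : L ⟶ U) ≫ (l ⊗ₘ u) ≫ μ := by
      rw [lift_mul, show (1 : L ⟶ U) ≫ u = 1 from (IsMonHom.monoidHom u L).map_one, _root_.mul_one,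
        Category.id_comp]
    calc l ≫ r = (lift (𝟙 L) (1 : L ⟶ U) ≫ (l ⊗ₘ u) ≫ μ) ≫ r := congrArg (· ≫ r) h
      _ = lift (𝟙 L) (1 : L ⟶ U) ≫ ((l ⊗ₘ u) ≫ μ) ≫ CategoryTheory.inv ((l ⊗ₘ u) ≫ μ) ≫ fst L U := by
        simp only [r, Category.assoc]
      _ = 𝟙 L := by rw [IsIso.hom_inv_id_assoc, lift_fst]
  haveI : IsAffineHom L.hom := hl.2.2.1.1
  haveI : IsSeparated (r.left ≫ L.hom) := by rw [Over.w r]; infer_instance
  haveI : IsSeparated r.left := IsSeparated.of_comp r.left L.hom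
  haveI : IsClosedImmersion (l.left ≫ r.left) := by rw [← Over.comp_left, hlr, Over.id_left]; infer_instance
  exact IsClosedImmersion.of_comp l.left r.left

end Groth.Agent.ParStd
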