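import Groth.Agent.ParStd.Atlas
import Groth.Agent.ParStd.OppositeMain
import Groth.Agent.RootSys.Cell

/-!
# The open cell of two parabolic subgroups
-/

set_option autoImplicit false
set_option linter.style.haveILetI false
set_option linter.unusedSectionVars false
set_option backward.isDefEq.respectTransparency false
set_option backward.isDefEq.respectTransparency.types false
set_option maxHeartbeats 2000000
set_option synthInstance.maxHeartbeats 400000

universe u

open CategoryTheory Limits MonoidalCategory CartesianMonoidalCategory MonObj AlgebraicGeometry LieS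
open scoped CategoryTheory.Obj

noncomputable section

namespace Groth.Agent.ParStd

open Groth.Agent.HomDiag Groth.Agent.DynPar Groth.Agent.RootSys Groth.Agent.MTBridge
open Groth.Agent.DynPar.Der (dv)

theorem negD_negD {S : Scheme.{u}} {G : Over S} (c : Red.DS S ℤ ⟶ G) : negD (negD c) = c := by
  rw [negD, negD, ← Category.assoc, MTQuot.DSmap_comp,
    show (-AddMonoidHom.id ℤ).comp (-AddMonoidHom.id ℤ) = AddMonoidHom.id ℤ from AddMonoidHom.ext fun x => by simp,
    DSmap_id, Category.id_comp]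

section Field

variable {k : Type u} [Field k]

theorem subsingleton_dual : Subsingleton (PrimeSpectrum (DualNumber k)) := by
  refine ⟨fun x y => PrimeSpectrum.ext ?_⟩
  have key : ∀ z : PrimeSpectrum (DualNumber k), z.asIdeal = RingHom.ker (TrivSqZeroExt.fstHom k k k).toRingHom :=
    fun z => by
      have hmax : (RingHom.ker (TrivSqZeroExt.fstHom k k k).toRingHom).IsMaximal :=
        RingHom.ker_isMaximal_of_surjective _ fun c => ⟨TrivSqZeroExt.inl c, rfl⟩
      refine (hmax.eq_of_le z.isPrime.ne_top fun t ht => ?_).symm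
      refine z.isPrime.mem_of_pow_mem 2 ?_
      have hz : t ^ 2 = 0 := by
        have h0 : t.fst = 0 := ht
        refine TrivSqZeroExt.ext ?_ ?_ <;> simp [pow_two, h0]
      rw [hz]
      exact Ideal.zero_mem _
  rw [key, key]

variable {G : Over (Spec (CommRingCat.of k))} [GrpObj G] [IsAffine G.left] {M : Type}
  [AddCommGroup M] (j : Red.DS (Spec (CommRingCat.of k)) M ⟶ G) [IsMonHom j]

/-- A weight vector of positive weight is contracted. -/
theorem wt_mem_USub {d : M} {v : Lie G k (fk k)} (hv : IsWt j v d) (θ : M →+ ℤ) (hd : 0 < θ d) :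
    (v.1 : pt (DualNumber k) (fd (fk k)) ⟶ G) ∈ USub (fd (fk k)) (Red.DSmap (Spec (CommRingCat.of k)) θ ≫ j) := by
  haveI : IsAffineHom G.hom := isAffineHom_of_isAffine _
  refine (DynPar.mem_USub_iff j θ gens_univ).2 ⟨IsWt.mem_PSub (Γ' := ℤ) j hv θ hd.le, fun x _ m hm => ?_⟩
  have h1 : ((1 : Lie G k (fk k)).1 : pt (DualNumber k) (fd (fk k)) ⟶ G) = 1 := rfl
  rw [← h1]
  refine TrivSqZeroExt.ext ?_ ?_
  · rw [rp_vec_fst, rp_vec_fst]
  · rw [rp_vec_snd, rp_vec_snd, Der.dv_one, hv x m (fun e => hd.ne' (e ▸ hm))]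

/-- A contracted vector has no components of weight killed by the functional. -/
theorem dv_wc_eq_zero_of_mem_USub {v : Lie G k (fk k)} (θ : M →+ ℤ)
    (h : (v.1 : pt (DualNumber k) (fd (fk k)) ⟶ G) ∈ USub (fd (fk k)) (Red.DSmap (Spec (CommRingCat.of k)) θ ≫ j))
    (x : Γ(G.left, ⊤)) {m : M} (hm : θ m = 0) : dv v (wc j x m) = 0 := by
  haveI : IsAffineHom G.hom := isAffineHom_of_isAffine _
  have h2 := ((DynPar.mem_USub_iff j θ gens_univ).1 h).2 x (Set.mem_univ x) m hm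
  have h1 : ((1 : Lie G k (fk k)).1 : pt (DualNumber k) (fd (fk k)) ⟶ G) = 1 := rfl
  rw [← h1] at h2
  rw [← rp_vec_snd, h2, rp_vec_snd, Der.dv_one]

end Field

/-- The open cell against a split maximal torus in both parabolic subgroups. -/
theorem exists_opposite_split {k : Type u} [Field k] [IsAlgClosed k] {M : Type} [AddCommGroup M] [Module.Free ℤ M]
    [Module.Finite ℤ M] {G P Q U : Over (Spec (CommRingCat.of k))} [GrpObj G] [GrpObj P] [GrpObj Q] [GrpObj U]
    (hG : Red.IsReductive G) (hred : Red.IsReductiveOver k G) {p : P ⟶ G} (hp : Red.IsParabolicOver k p)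
    {q : Q ⟶ G} (hq : Red.IsParabolicOver k q) (u : U ⟶ G)
    (hu : ∀ c : Red.DS (Spec (CommRingCat.of k)) ℤ ⟶ G, IsMonHom c → IsP c p → IsU c u)
    (i' : Red.DS (Spec (CommRingCat.of k)) M ⟶ G) (hi' : Red.IsMaximalTorus i')
    (tp : Red.DS (Spec (CommRingCat.of k)) M ⟶ P) (htp : tp ≫ p = i')
    (tq : Red.DS (Spec (CommRingCat.of k)) M ⟶ Q) (htq : tq ≫ q = i')
    (hj : IsOpenImmersion ((u ⊗ₘ q) ≫ μ).left) :
    ∃ c : Red.DS (Spec (CommRingCat.of k)) ℤ ⟶ G, IsMonHom c ∧ IsP c p ∧ IsP (negD c) q := by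
  classical
  let S := Spec (CommRingCat.of k)
  haveI := hred.1; haveI := hred.2.1; haveI := hred.2.2.1
  haveI : IsAffineHom G.hom := isAffineHom_of_isAffine _
  haveI := hq.1; haveI := hq.2.1; haveI := hq.2.2.1
  haveI := ParNorm.connectedSpace_parabolic hq
  haveI : Mono q := Over.mono_of_mono_left q
  haveI := hi'.1
  obtain ⟨lam, hlam⟩ := isP_of_parabolic hG hred hi' hp tp htp
  obtain ⟨mu, hmu⟩ := isP_of_parabolic hG hred hi' hq tq htq
  haveI : IsMonHom (Red.DSmap S lam ≫ i') := isMonHom_comp' (Red.DSmap S lam) i'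
  have hU := hu _ inferInstance hlam
  haveI := hU.1; haveI := hU.2.1
  haveI : Mono u := Over.mono_of_mono_left u
  let jm := (u ⊗ₘ q) ≫ μ
  haveI : IsOpenImmersion jm.left := hj
  haveI : Mono jm := Over.mono_of_mono_left jm
  have hlift : ∀ {X : Over S} (x : X ⟶ U) (y : X ⟶ Q), lift x y ≫ jm = (x ≫ u) * (y ≫ q) := fun x y =>
    ParStd.lift_mul u q x y
  obtain ⟨_, Dt, -, hDroot, -, -, -⟩ := RootBase.exists_datum hG i' hi'
  -- positive weights
  have hneg : ∀ d (v : Lie G k (fk k)), IsWt i' v d → v ≠ 1 → 0 < lam d → mu d < 0 := fun d v hv hv1 hd => by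
    by_contra hmd
    obtain ⟨x, hx⟩ := hU.exists_fac_iff.2 (wt_mem_USub i' hv lam hd)
    obtain ⟨y, hy⟩ := hmu.exists_fac_iff.2 (IsWt.mem_PSub (Γ' := ℤ) i' hv mu (not_lt.1 hmd))
    have h2 : lift x (1 : _ ⟶ Q) = lift (1 : _ ⟶ U) y := by
      rw [← cancel_mono jm, hlift, hlift, MonObj.one_comp q, MonObj.one_comp u, _root_.mul_one, _root_.one_mul, hx, hy]
    have h3 := congrArg (· ≫ fst U Q) h2
    simp only [lift_fst] at h3
    exact hv1 (Subtype.ext (hx.symm.trans (by rw [h3, MonObj.one_comp u]; rfl)))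
  -- weight zero
  have hzero : ∀ d (v : Lie G k (fk k)), IsWt i' v d → v ≠ 1 → lam d = 0 → 0 ≤ mu d := fun d v hv hv1 hd => by
    by_contra hmd
    let X := pt (DualNumber k) (fd (fk k))
    let vv : X ⟶ G := v.1
    have hz : zeroSec k (fk k) ≫ vv = 1 := (mem_Lie_iff G k (fk k) _).1 v.2
    have hone : lift (1 : pt k (fk k) ⟶ U) (1 : pt k (fk k) ⟶ Q) ≫ jm = 1 := by
      rw [hlift, MonObj.one_comp u, MonObj.one_comp q, _root_.mul_one]
    have hrange : Set.range vv.left.base ⊆ Set.range jm.left.base := by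
      rintro _ ⟨x, rfl⟩
      let x₀ : ↥(pt k (fk k)).left := (Classical.arbitrary (PrimeSpectrum k) : PrimeSpectrum k)
      refine ⟨(lift (1 : pt k (fk k) ⟶ U) (1 : pt k (fk k) ⟶ Q)).left.base x₀, ?_⟩
      rw [← Scheme.Hom.comp_apply, ← Over.comp_left, hone, ← hz, Over.comp_left, Scheme.Hom.comp_apply]
      exact congrArg _ ((subsingleton_dual (k := k)).elim _ _)
    let w : X ⟶ U ⊗ Q := Over.homMk (IsOpenImmersion.lift jm.left vv.left hrange) (by
      rw [← Over.w jm, IsOpenImmersion.lift_fac_assoc, Over.w vv])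
    have hw : w ≫ jm = vv := Over.OverMorphism.ext (IsOpenImmersion.lift_fac _ _ _)
    have hw0 : zeroSec k (fk k) ≫ w = lift (1 : _ ⟶ U) (1 : _ ⟶ Q) := by
      rw [← cancel_mono jm, Category.assoc, hw, hz, hone]
    let x : Lie U k (fk k) := ⟨w ≫ fst U Q, (mem_Lie_iff U k (fk k) _).2 (by
      rw [← Category.assoc, hw0, lift_fst])⟩
    let y : Lie Q k (fk k) := ⟨w ≫ snd U Q, (mem_Lie_iff Q k (fk k) _).2 (by
      rw [← Category.assoc, hw0, lift_snd])⟩
    have hxy : v = LieS.map k (fk k) u x * LieS.map k (fk k) q y := Subtype.ext (by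
      show vv = ((w ≫ fst U Q) ≫ u) * ((w ≫ snd U Q) ≫ q)
      rw [← hlift, ← hw]
      congr 1
      exact CartesianMonoidalCategory.hom_ext _ _ (lift_fst _ _).symm (lift_snd _ _).symm)
    refine hv1 (Der.dv_injective (funext fun z => ?_))
    rw [Der.dv_one]
    conv_lhs => rw [← sum_wc i' z]
    rw [dv_sum]
    refine Finset.sum_eq_zero fun m _ => ?_
    by_cases hm : m = d
    · rw [hxy, Der.dv_mul, dv_wc_eq_zero_of_mem_USub i' lam (hU.exists_fac_iff.1 ⟨x.1, rfl⟩) z (hm ▸ hd),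
        dv_wc_eq_zero_of_mem_PSub i' mu (hmu.exists_fac_iff.1 ⟨y.1, rfl⟩) z (hm ▸ not_le.1 hmd), add_zero]
    · exact hv z m hm
  have key : ∀ d (v : Lie G k (fk k)), IsWt i' v d → v ≠ 1 → (0 ≤ mu d ↔ lam d ≤ 0) := fun d v hv hv1 => by
    refine ⟨fun h => ?_, fun h => ?_⟩
    · by_contra h'
      exact absurd h (not_le.2 (hneg d v hv hv1 (not_le.1 h')))
    · rcases h.lt_or_eq with h' | h'
      · have hd0 : d ≠ 0 := fun e => by rw [e, map_zero] at h'; exact lt_irrefl 0 h'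
        let al : RootBase.Roots i' := ⟨d, hd0, v, hv, hv1⟩
        have hopp : (Dt.reflectionPerm al al).1 = -d := by
          rw [← hDroot, Dt.root_reflectionPerm, Dt.reflection_apply_self, hDroot]
        obtain ⟨-, w, hw, hw1⟩ := (Dt.reflectionPerm al al).2
        rw [hopp] at hw
        have := hneg _ w hw hw1 (by rw [map_neg]; exact neg_pos.2 h')
        rw [map_neg, neg_lt_zero] at this
        exact this.le
      · exact hzero d v hv hv1 h'
  refine ⟨Red.DSmap S lam ≫ i', inferInstance, hlam, ?_⟩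
  have hc : negD (Red.DSmap S lam ≫ i') = Red.DSmap S (-lam) ≫ i' := by
    rw [negD, ← Category.assoc, RootIntrinsic.DSmap_comp_apply]
    congr 2
  rw [hc]
  refine ⟨inferInstance, inferInstance, fun X g => ⟨?_, fun hg => le_of_wt_nonneg htq (-lam) ?_ g hg⟩⟩
  · rintro ⟨z, rfl⟩ B _ f y
    rw [← Category.assoc]
    refine mem_PSub_of_wts htq (-lam) (fun d v hv hv1 hvR => ?_) _
    obtain ⟨x, hx⟩ := hvR
    have := wt_nonneg_of_mem_PSub hv hv1 mu (hmu.exists_fac_iff.1 ⟨x.1, congrArg Subtype.val hx⟩)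
    rw [AddMonoidHom.neg_apply, neg_nonneg]
    exact (key d v hv hv1).1 this
  · intro d v hv hd
    rw [AddMonoidHom.neg_apply, neg_nonneg] at hd
    by_cases hv1 : v = 1
    · rw [hv1]; exact Subgroup.one_mem _
    exact mem_range_of_fac q (hmu.exists_fac_iff.2 (IsWt.mem_PSub (Γ' := ℤ) i' hv mu ((key d v hv hv1).2 hd)))

/-- **Over an algebraically closed field, an open cell makes the second parabolic subgroup opposite to the first.** -/
theorem exists_opposite_field {k : Type u} [Field k] [IsAlgClosed k]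
    {G P Q U T : Over (Spec (CommRingCat.of k))} [GrpObj G] [GrpObj P] [GrpObj Q] [GrpObj U] [GrpObj T]
    (hG : Red.IsReductive G) (hred : Red.IsReductiveOver k G) {p : P ⟶ G} (hp : Red.IsParabolicOver k p)
    {q : Q ⟶ G} (hq : Red.IsParabolicOver k q) (u : U ⟶ G)
    (hu : ∀ c : Red.DS (Spec (CommRingCat.of k)) ℤ ⟶ G, IsMonHom c → IsP c p → IsU c u)
    (i : T ⟶ G) (hT : Red.IsMaximalTorus i) (a : T ⟶ P) (ha : a ≫ p = i) (b : T ⟶ Q) (hb : b ≫ q = i)
    (hj : IsOpenImmersion ((u ⊗ₘ q) ≫ μ).left) :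
    ∃ c : Red.DS (Spec (CommRingCat.of k)) ℤ ⟶ G, IsMonHom c ∧ IsP c p ∧ IsP (negD c) q := by
  obtain ⟨r, ⟨E⟩⟩ := Chev.Borel.split_of_isTorus hT.2.2.1
  exact exists_opposite_split hG hred hp hq u hu (E.inv.hom.hom ≫ i) (RootBase.isMaximalTorus_DS hT E)
    (E.inv.hom.hom ≫ a) (by rw [Category.assoc, ha]) (E.inv.hom.hom ≫ b) (by rw [Category.assoc, hb]) hj

/-- The multiplication of a product in the other order. -/
theorem isIso_mul_swap {S : Scheme.{u}} {A B P : Over S} [GrpObj A] [GrpObj B] [GrpObj P] (a : A ⟶ P) [IsMonHom a]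
    (b : B ⟶ P) [IsMonHom b] (h : IsIso ((a ⊗ₘ b) ≫ μ)) : IsIso ((b ⊗ₘ a) ≫ μ) := by
  haveI := h
  let σ : B ⊗ A ≅ A ⊗ B :=
    { hom := lift (snd B A)⁻¹ (fst B A)⁻¹
      inv := lift (snd A B)⁻¹ (fst A B)⁻¹
      hom_inv_id := by
        rw [comp_lift, GrpObj.comp_inv, GrpObj.comp_inv, lift_fst, lift_snd, _root_.inv_inv, _root_.inv_inv,
          lift_fst_snd]
      inv_hom_id := by
        rw [comp_lift, GrpObj.comp_inv, GrpObj.comp_inv, lift_fst, lift_snd, _root_.inv_inv, _root_.inv_inv,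
          lift_fst_snd] }
  let ν : P ≅ P :=
    { hom := (𝟙 P)⁻¹
      inv := (𝟙 P)⁻¹
      hom_inv_id := by rw [GrpObj.comp_inv, Category.comp_id, _root_.inv_inv]
      inv_hom_id := by rw [GrpObj.comp_inv, Category.comp_id, _root_.inv_inv] }
  have e : (b ⊗ₘ a) ≫ μ = σ.hom ≫ ((a ⊗ₘ b) ≫ μ) ≫ ν.hom := by
    have h1 : (b ⊗ₘ a) ≫ μ = (fst B A ≫ b) * (snd B A ≫ a) := by
      rw [← ParStd.lift_mul, lift_fst_snd, Category.id_comp]
    show _ = σ.hom ≫ ((a ⊗ₘ b) ≫ μ) ≫ (𝟙 P)⁻¹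
    rw [← Category.assoc σ.hom, ParStd.lift_mul, GrpObj.comp_inv, Category.comp_id, GrpObj.inv_comp,
      GrpObj.inv_comp, h1, _root_.mul_inv_rev, _root_.inv_inv, _root_.inv_inv]
  rw [e]
  haveI : IsIso σ.hom := ⟨⟨σ.inv, σ.hom_inv_id, σ.inv_hom_id⟩⟩
  haveI : IsIso ν.hom := ⟨⟨ν.inv, ν.hom_inv_id, ν.inv_hom_id⟩⟩
  exact IsIso.comp_isIso' inferInstance (IsIso.comp_isIso' h inferInstance)

/-- The intersection of `P(λ)` and `P(-λ)` is the centralizer. -/
theorem centralizer_of_pullback {S : Scheme.{u}} {G P Q L : Over S} [GrpObj G] [GrpObj P] [GrpObj Q] [GrpObj L]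
    [IsAffineHom G.hom] (c : Red.DS S ℤ ⟶ G) [IsMonHom c] {p : P ⟶ G} {q : Q ⟶ G} (hp : IsP c p)
    (hq : IsP (negD c) q) {l : L ⟶ P} [IsMonHom l] {m : L ⟶ Q} (hsq : IsPullback l m p q) :
    Red.IsCentralizerOf c (l ≫ p) := by
  haveI := hp.1; haveI := hp.2.1; haveI := hq.2.1
  haveI : Mono p := Over.mono_of_mono_left p
  haveI : Mono q := Over.mono_of_mono_left q
  haveI : Mono l := ⟨fun a b h => hsq.hom_ext h (by
    rw [← cancel_mono q, Category.assoc, Category.assoc, ← hsq.w, reassoc_of% h])⟩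
  refine ⟨inferInstance, mono_comp _ _, fun X g => ?_⟩
  rw [← inF_ZFam_iff (c := c)]
  constructor
  · rintro ⟨w, rfl⟩ B _ f y
    exact mem_ZSub_of_both c ((hp.2.2 _ _).1 ⟨w ≫ l, Category.assoc _ _ _⟩ B f y)
      ((hq.2.2 _ _).1 ⟨w ≫ m, by rw [Category.assoc, ← hsq.w]⟩ B f y)
  · intro hg
    obtain ⟨x, hx⟩ := hp.exists_le g fun B _ f y => ZSub_le_PSub f c (hg B f y)
    obtain ⟨y, hy⟩ := hq.exists_le g fun B _ f z => ZSub_le_PSub f (negD c) ((mem_ZSub_negD c).2 (hg B f z))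
    exact ⟨hsq.lift x y (hx.trans hy.symm), by rw [IsPullback.lift_fst_assoc, hx]⟩

end Groth.Agent.ParStd
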