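import Groth.Agent.ParStd.Global
import Groth.Agent.RootBase.Borel

/-!
# The roots of a parabolic subgroup containing the torus of a splitting
-/

set_option autoImplicit false
set_option linter.style.haveILetI false
set_option backward.isDefEq.respectTransparency false
set_option backward.isDefEq.respectTransparency.types false
set_option maxHeartbeats 2000000
set_option synthInstance.maxHeartbeats 400000

universe u

open CategoryTheory Limits MonoidalCategory CartesianMonoidalCategory MonObj AlgebraicGeometry LieS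
open scoped CategoryTheory.Obj

noncomputable section

namespace Groth.Agent.ParStd

open Groth.Agent.HomDiag Groth.Agent.DynPar Groth.Agent.MTBridge Groth.Agent.BorelConj Groth.Agent.RootBase

variable {S : Scheme.{u}} {G P : Over S}

/-- Factorisation through a monomorphism is local. -/
theorem exists_lift_of_cover {X A B : Scheme.{u}} (p : A ⟶ B) [Mono p] (g : X ⟶ B) (𝒰 : X.OpenCover)
    (h : ∀ i, ∃ f, f ≫ p = 𝒰.f i ≫ g) : ∃ m, m ≫ p = g := by
  choose f hf using h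
  refine ⟨𝒰.glueMorphisms f fun i j => ?_, Scheme.Cover.hom_ext 𝒰 _ _ fun i => ?_⟩
  · rw [← cancel_mono p, Category.assoc, Category.assoc, hf, hf, pullback.condition_assoc]
  · rw [Scheme.Cover.ι_glueMorphisms_assoc, hf]

/-- Factorisation through a monomorphism is local on the base. -/
theorem exists_fac_local {X : Over S} (p : P ⟶ G) [Mono p.left] (g : X ⟶ G)
    (h : ∀ s : S, ∃ V : S.Opens, s ∈ V ∧
      ∃ z : Red.bc V.ι X ⟶ Red.bc V.ι P, z ≫ (Over.pullback V.ι).map p = (Over.pullback V.ι).map g) :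
    ∃ z : X ⟶ P, z ≫ p = g := by
  choose V hV z hz using h
  have hcov : TopologicalSpace.IsOpenCover V := by
    rw [TopologicalSpace.IsOpenCover, eq_top_iff]
    exact fun s _ => TopologicalSpace.Opens.mem_iSup.2 ⟨s, hV s⟩
  have hf : ∀ s, ((z s).left ≫ pullback.fst P.hom (V s).ι) ≫ p.left = pullback.fst X.hom (V s).ι ≫ g.left :=
    fun s => by
    have h2 := congrArg (fun y => y.left ≫ pullback.fst G.hom (V s).ι) (hz s)
    simp only [Over.comp_left, Category.assoc, Over.pullback_map_left] at h2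
    rw [pullback.lift_fst, pullback.lift_fst] at h2
    rw [Category.assoc]
    exact h2
  obtain ⟨m, hm⟩ := exists_lift_of_cover p.left g.left
    (Precoverage.ZeroHypercover.pullback₁ X.hom (S.openCoverOfIsOpenCover V hcov)) fun s => ⟨_, hf s⟩
  exact ⟨Over.homMk m (by rw [← Over.w p, ← Category.assoc, hm, Over.w g]), Over.OverMorphism.ext hm⟩

variable [GrpObj G] [GrpObj P]

/-- Over an open set on which it is dynamical, the roots of a parabolic subgroup are the non-negative ones. -/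
theorem fac_iff_of_isP {M : Type} [AddCommGroup M] {c : Red.DS S M ⟶ G} [IsMonHom c] [IsAffineHom G.hom]
    [Smooth G.hom] (p : P ⟶ G) {a : M} {u : Red.Ga S ⟶ G} (hu : Red.IsRootHom c (Red.chi S a) u)
    (lam : M →+ ℤ) (hp : IsP (Red.DSmap S lam ≫ c) p) [Nonempty S] :
    (∃ v, v ≫ p = u) ↔ 0 ≤ lam a := by
  constructor
  · rintro ⟨v, hv⟩
    let s : S := Classical.arbitrary S
    let φ := Red.geomPt s
    let K := AlgebraicClosure (S.residueField s)
    haveI : IsAffineHom (Red.bc φ G).hom := inferInstanceAs (IsAffineHom (pullback.snd G.hom φ))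
    haveI : IsAffine (Red.bc φ G).left := isAffine_of_isAffineHom (Red.bc φ G).hom
    haveI : IsMonHom (bcHom' φ c) := isMonHom_bcHom' φ c
    obtain ⟨x, hx⟩ := exists_gaPoint u φ (gp _ 1)
    have h1 : x ≫ u ∈ PSub φ (Red.DSmap S lam ≫ c) := hp.exists_fac_iff.1 ⟨x ≫ v, by rw [Category.assoc, hv]⟩
    rw [mem_PSub_down φ (Category.id_comp φ), hx, bcHom'_DSmap] at h1
    refine mu_nonneg_of_mem_PSub (RootSys.isRootHom_bc φ hu) lam (gp _ 1) ?_ h1
    rw [gv_gp]
    exact one_ne_zero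
  · intro ha
    rcases ha.lt_or_eq with ha | ha
    · exact hp.exists_le u fun B _ f y => USub_le_PSub _ _ (rootHom_mem_USub_global hu lam ha f y)
    · refine hp.exists_le u fun B _ f y => ZSub_le_PSub _ _ ((mem_ZSub_iff_commute f _).2 fun B' _ f' x h => ?_)
      obtain ⟨w, hw, hw'⟩ := hu.2.2 _ (h ≫ Red.DSmap S lam) (x ≫ y)
      have hg : Red.gmFn ((h ≫ Red.DSmap S lam) ≫ Red.chi S a) = 1 := by
        rw [RootIntrinsic.gmFn_chi, ch_DSmap]
        rw [toAdd_ofAdd, ← ha, ofAdd_zero]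
        exact map_one _
      rw [hg, _root_.one_mul] at hw'
      rw [show w = x ≫ y from BGaNotS.gaPt_ext hw'] at hw
      simp only [Category.assoc] at hw ⊢
      calc (x ≫ y ≫ u) * (h ≫ Red.DSmap S lam ≫ c)
          = ((h ≫ Red.DSmap S lam ≫ c) * (x ≫ y ≫ u) * (h ≫ Red.DSmap S lam ≫ c)⁻¹) * (h ≫ Red.DSmap S lam ≫ c) := by
            rw [← hw]
        _ = _ := inv_mul_cancel_right _ _

/-- **On a connected base the roots of a parabolic subgroup through the torus are cut out by a functional.** -/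
theorem exists_hom_roots [ConnectedSpace S] (D : Red.SplitRed G) (p : P ⟶ G) (hP : Red.IsParabolic p)
    (t : D.T ⟶ P) (ht : t ≫ p = D.i) :
    ∃ lam : D.M →+ ℤ, (∀ a : D.idx, (∃ v, v ≫ p = D.u a) ↔ 0 ≤ lam (D.P.root a)) ∧
      ∀ s : S, ∃ V : S.Opens, s ∈ V ∧ ∃ lam' : D.M →+ ℤ,
        (∀ a : D.idx, 0 ≤ lam' (D.P.root a) ↔ 0 ≤ lam (D.P.root a)) ∧
        IsP (Red.DSmap (V : Scheme.{u}) lam' ≫ bcHom' V.ι (D.split.inv.hom.hom ≫ D.i))
          ((Over.pullback V.ι).map p) := by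
  classical
  letI := D.grpT
  letI := D.acgM
  letI := D.fintypeIdx
  letI := D.finiteM
  letI := D.freeM
  have F := frame_of_splitRed D
  haveI := F.hG.1; haveI := F.hG.2.1; haveI := F.hc.1; haveI := hP.2.1
  haveI : Mono p.left := inferInstance
  let c : Red.DS S D.M ⟶ G := D.split.inv.hom.hom ≫ D.i
  have hloc : ∀ s, ∃ V : S.Opens, s ∈ V ∧ ∃ lam : D.M →+ ℤ,
      IsP (Red.DSmap (V : Scheme.{u}) lam ≫ bcHom' V.ι c) ((Over.pullback V.ι).map p) := fun s =>
    exists_nhd_isP F.hG c F.hc p hP (D.split.inv.hom.hom ≫ t) (by rw [Category.assoc, ht]) s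
  choose V hV lam hlam using hloc
  let gaB : ∀ s, Red.Ga (V s : Scheme.{u}) ⟶ Red.bc (V s).ι (Red.Ga S) := fun s => RootSys.gaBC (V s).ι
  have hiso : ∀ s, IsIso (gaB s) := fun s => RootSys.isIso_gaBC (V s).ι
  have hfac : ∀ s (W : S.Opens), (∃ x, x ∈ V s ∧ x ∈ W) → ∀ a : D.idx,
      (∃ v : Red.bc W.ι (Red.Ga S) ⟶ Red.bc W.ι P, v ≫ (Over.pullback W.ι).map p = (Over.pullback W.ι).map (D.u a)) →
        0 ≤ lam s (D.P.root a) := by
    rintro s W ⟨x, hxV, hx⟩ a ⟨v, hv⟩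
    let φ := Red.geomPt x
    haveI : IsAffineHom (Red.bc φ G).hom := inferInstanceAs (IsAffineHom (pullback.snd G.hom φ))
    haveI : IsAffine (Red.bc φ G).left := isAffine_of_isAffineHom (Red.bc φ G).hom
    haveI : IsMonHom (bcHom' φ c) := isMonHom_bcHom' φ c
    obtain ⟨y, hy⟩ := exists_gaPoint (D.u a) φ (gp _ 1)
    have hφW : Set.range φ ⊆ Set.range W.ι := by
      rw [Scheme.Opens.range_ι]
      rintro _ ⟨q, rfl⟩
      rw [Subsingleton.elim q (IsLocalRing.closedPoint _), MTImage.geomPt_closedPoint]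
      exact hx
    have hφV : Set.range φ ⊆ Set.range (V s).ι := by
      rw [Scheme.Opens.range_ι]
      rintro _ ⟨q, rfl⟩
      rw [Subsingleton.elim q (IsLocalRing.closedPoint _), MTImage.geomPt_closedPoint]
      exact hxV
    let X₁ : Over (W : Scheme.{u}) := Over.mk (IsOpenImmersion.lift W.ι φ hφW)
    let e₁ : (Over.map W.ι).obj X₁ ≅ pt _ φ := Over.isoMk (Iso.refl _) (by
      show 𝟙 _ ≫ φ = IsOpenImmersion.lift W.ι φ hφW ≫ W.ι
      rw [Category.id_comp, IsOpenImmersion.lift_fac])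
    obtain ⟨z, hz⟩ := mem_of_map_fac p (D.u a) v hv (e₁.hom ≫ y)
    have hzp : (e₁.inv ≫ z) ≫ p = y ≫ D.u a := by
      rw [Category.assoc, hz, Category.assoc, Iso.inv_hom_id_assoc]
    let fa := IsOpenImmersion.lift (V s).ι φ hφV
    have e : fa ≫ (V s).ι = φ := IsOpenImmersion.lift_fac _ _ _
    have h2 : down (V s).ι e (y ≫ D.u a) ∈ PSub fa (Red.DSmap _ (lam s) ≫ bcHom' (V s).ι c) :=
      (hlam s).exists_fac_iff.1 ⟨down (V s).ι e (e₁.inv ≫ z), by rw [← DynPar.down_comp, hzp]⟩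
    rw [← bcHom'_DSmap, ← mem_PSub_down (V s).ι e] at h2
    rw [mem_PSub_down φ (Category.id_comp φ), hy, bcHom'_DSmap] at h2
    refine mu_nonneg_of_mem_PSub (RootSys.isRootHom_bc φ (F.hu a)) (lam s) (gp _ 1) ?_ h2
    rw [gv_gp]
    exact one_ne_zero
  have hfac' : ∀ s (a : D.idx), 0 ≤ lam s (D.P.root a) →
      ∃ v : Red.bc (V s).ι (Red.Ga S) ⟶ Red.bc (V s).ι P,
        v ≫ (Over.pullback (V s).ι).map p = (Over.pullback (V s).ι).map (D.u a) := fun s a ha => by
    haveI : Nonempty (V s : Scheme.{u}) := ⟨⟨s, hV s⟩⟩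
    haveI : IsAffineHom (Red.bc (V s).ι G).hom :=
      MorphismProperty.pullback_snd (P := @IsAffineHom) G.hom (V s).ι F.hG.1
    haveI : Smooth (Red.bc (V s).ι G).hom := MorphismProperty.pullback_snd (P := @Smooth) G.hom _ F.hG.2.1
    haveI := (F.bc (V s).ι).hc.1
    obtain ⟨v, hv⟩ := (fac_iff_of_isP ((Over.pullback (V s).ι).map p) ((F.bc (V s).ι).hu a) (lam s) (hlam s)).2 ha
    haveI := hiso s
    refine ⟨inv (gaB s) ≫ v, ?_⟩
    rw [Category.assoc, hv]
    exact IsIso.inv_hom_id_assoc (gaB s) _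
  have hconst : ∀ s s' : S, ∀ a : D.idx, 0 ≤ lam s (D.P.root a) ↔ 0 ≤ lam s' (D.P.root a) := by
    intro s₀
    let A : Set S := {s | ∀ a : D.idx, 0 ≤ lam s (D.P.root a) ↔ 0 ≤ lam s₀ (D.P.root a)}
    have hagree : ∀ s s', s' ∈ V s → ∀ a : D.idx, 0 ≤ lam s (D.P.root a) ↔ 0 ≤ lam s' (D.P.root a) := by
      intro s s' hs' a
      have key : ∀ x y, (∃ q, q ∈ V x ∧ q ∈ V y) → 0 ≤ lam x (D.P.root a) → 0 ≤ lam y (D.P.root a) := by
        rintro x y ⟨q, hqx, hqy⟩ hx
        obtain ⟨v, hv⟩ := hfac' x a hx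
        exact hfac y (V x) ⟨q, hqy, hqx⟩ a ⟨v, hv⟩
      exact ⟨key s s' ⟨s', hs', hV s'⟩, key s' s ⟨s', hV s', hs'⟩⟩
    have hA : IsOpen A := isOpen_iff_forall_mem_open.2 fun s hs =>
      ⟨V s, fun s' hs' a => (hagree s s' hs' a).symm.trans (hs a), (V s).2, hV s⟩
    have hA' : IsOpen Aᶜ := isOpen_iff_forall_mem_open.2 fun s hs =>
      ⟨V s, fun s' hs' h => hs fun a => (hagree s s' hs' a).trans (h a), (V s).2, hV s⟩
    have : A = Set.univ := IsClopen.eq_univ ⟨⟨hA'⟩, hA⟩ ⟨s₀, fun a => Iff.rfl⟩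
    exact fun s' a => ((this ▸ Set.mem_univ s' : s' ∈ A) a).symm
  let s₀ : S := Classical.arbitrary S
  refine ⟨lam s₀, fun a => ⟨?_, fun ha => ?_⟩, fun s => ⟨V s, hV s, lam s, fun a => hconst s s₀ a, hlam s⟩⟩
  · rintro ⟨v, hv⟩
    exact hfac s₀ (V s₀) ⟨s₀, hV s₀, hV s₀⟩ a ⟨(Over.pullback (V s₀).ι).map v, by rw [← Functor.map_comp, hv]⟩
  · exact exists_fac_local p (D.u a) fun s =>
      ⟨V s, hV s, hfac' s a ((hconst s s₀ a).2 ha)⟩

end Groth.Agent.ParStd
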