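import Groth.Agent.ParStd.LeviChart
import Groth.Agent.ParStd.Roots

/-!
# Opposite parabolic subgroups
-/

set_option autoImplicit false
set_option linter.style.haveILetI false
set_option linter.unusedSectionVars false
set_option backward.isDefEq.respectTransparency false
set_option backward.isDefEq.respectTransparency.types false
set_option maxHeartbeats 2000000
set_option synthInstance.maxHeartbeats 400000

universe u

open CategoryTheory Limits MonoidalCategory CartesianMonoidalCategory MonObj AlgebraicGeometry LieS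
open scoped CategoryTheory.Obj

noncomputable section

namespace Groth.Agent.ParStd

open Groth.Agent.HomDiag Groth.Agent.DynPar Groth.Agent.RootSys Groth.Agent.MTBridge
open Groth.Agent.DynPar.Der (dv)

section Inter

variable {S : Scheme.{u}} {G : Over S} [GrpObj G]

/-- The cocharacter in the opposite direction. -/
abbrev negD (c : Red.DS S ℤ ⟶ G) : Red.DS S ℤ ⟶ G := Red.DSmap S (-AddMonoidHom.id ℤ) ≫ c

theorem DS_comm' {Γ : Type} [AddCommGroup Γ] {X : Over S} (a b : X ⟶ Red.DS S Γ) : a * b = b * a :=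
  ch_ext fun m => by rw [ch_mul, ch_mul, _root_.mul_comm]

theorem isMonHom_negD (c : Red.DS S ℤ ⟶ G) [IsMonHom c] : IsMonHom (negD c) :=
  isMonHom_comp' (Red.DSmap S (-AddMonoidHom.id ℤ)) c

/-- Having limits in both directions is being fixed. -/
theorem mem_ZSub_of_both [IsAffineHom G.hom] (c : Red.DS S ℤ ⟶ G) [IsMonHom c] {B : Type u} [CommRing B]
    {f : Spec (CommRingCat.of B) ⟶ S} {g : pt B f ⟶ G} (h₁ : g ∈ PSub f c) (h₂ : g ∈ PSub f (negD c)) :
    g ∈ ZSub f c := by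
  haveI : IsMonHom (bcHom' f c) := isMonHom_bcHom' f c
  rw [mem_PSub_down f (Category.id_comp f) c, mem_PSub_iff'] at h₁
  rw [mem_PSub_down f (Category.id_comp f) (negD c), negD, bcHom'_DSmap,
    DynPar.mem_PSub_iff _ _ gens_univ] at h₂
  have h := DynPar.mem_ZSub_iff (bcHom' f c) (AddMonoidHom.id ℤ) (g := down f (Category.id_comp f) g) gens_univ
  rw [DSmap_id, Category.id_comp] at h
  refine (mem_ZSub_down f (Category.id_comp f) c).2 (h.2 fun a _ m hm => ?_)
  have hm' : m ≠ 0 := hm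
  rcases lt_or_gt_of_ne hm' with h' | h'
  · exact h₁ a m h'
  · exact h₂ a (Set.mem_univ a) m (neg_neg_of_pos h')

/-- Fixed points have limits in the opposite direction. -/
theorem mem_ZSub_negD [IsAffineHom G.hom] (c : Red.DS S ℤ ⟶ G) [IsMonHom c] {B : Type u} [CommRing B]
    {f : Spec (CommRingCat.of B) ⟶ S} {g : pt B f ⟶ G} : g ∈ ZSub f (negD c) ↔ g ∈ ZSub f c := by
  haveI : IsMonHom (bcHom' f c) := isMonHom_bcHom' f c
  have h := DynPar.mem_ZSub_iff (bcHom' f c) (AddMonoidHom.id ℤ) (g := down f (Category.id_comp f) g) gens_univ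
  rw [DSmap_id, Category.id_comp] at h
  rw [mem_ZSub_down f (Category.id_comp f) c, h, mem_ZSub_down f (Category.id_comp f) (negD c), negD, bcHom'_DSmap,
    DynPar.mem_ZSub_iff _ _ gens_univ]
  simp only [AddMonoidHom.neg_apply, AddMonoidHom.id_apply, neg_ne_zero]

/-- The centralizer is the intersection of the parabolic subgroups of the two directions. -/
theorem isPullback_negD [IsAffineHom G.hom] (c : Red.DS S ℤ ⟶ G) [IsMonHom c] {P P' Z : Over S} [GrpObj P] [GrpObj P'] [GrpObj Z]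
    {p : P ⟶ G} {p' : P' ⟶ G} (hp : IsP c p) (hp' : IsP (negD c) p') {z : Z ⟶ G} (hz : Red.IsCentralizerOf c z)
    (l : Z ⟶ P) (hl : l ≫ p = z) : ∃ m : Z ⟶ P', m ≫ p' = z ∧ IsPullback l m p p' := by
  haveI := hp.2.1; haveI := hp'.2.1; haveI : Mono z := hz.2.1
  haveI : Mono p := Over.mono_of_mono_left p
  haveI : Mono p' := Over.mono_of_mono_left p'
  have hzZ : InF (ZFam c) z := (inF_ZFam_iff (c := c) z).2 ((hz.2.2 _ z).1 ⟨𝟙 _, Category.id_comp _⟩)
  obtain ⟨m, hm⟩ := hp'.exists_le z fun B _ f y =>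
    ZSub_le_PSub f (negD c) ((mem_ZSub_negD c).2 (hzZ B f y))
  refine ⟨m, hm, ⟨hl.trans hm.symm⟩, ⟨?_⟩⟩
  have key : ∀ s : PullbackCone p p', ∃ w, w ≫ z = s.fst ≫ p := fun s =>
    (hz.2.2 _ _).2 ((inF_ZFam_iff (c := c) _).1 fun B _ f y => mem_ZSub_of_both c
      ((hp.2.2 _ _).1 ⟨s.fst, rfl⟩ B f y) ((hp'.2.2 _ _).1 ⟨s.snd, s.condition.symm⟩ B f y))
  refine PullbackCone.IsLimit.mk _ (fun s => (key s).choose) (fun s => ?_) (fun s => ?_) fun s w h1 _ => ?_
  · rw [← cancel_mono p, Category.assoc, hl, (key s).choose_spec]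
  · rw [← cancel_mono p', Category.assoc, hm, (key s).choose_spec, s.condition]
  · rw [← cancel_mono z, (key s).choose_spec, ← hl, ← Category.assoc, h1]

end Inter

section Field

variable {k : Type u} [Field k] {G : Over (Spec (CommRingCat.of k))} [GrpObj G] [IsAffine G.left] {M : Type}
  [AddCommGroup M] {j : Red.DS (Spec (CommRingCat.of k)) M ⟶ G} [IsMonHom j]

/-- A weight vector with a limit has non-negative weight. -/
theorem wt_nonneg_of_mem_PSub {d : M} {v : Lie G k (fk k)} (hv : IsWt j v d) (hv1 : v ≠ 1) (θ : M →+ ℤ)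
    (h : (v.1 : pt (DualNumber k) (fd (fk k)) ⟶ G) ∈ PSub (fd (fk k)) (Red.DSmap (Spec (CommRingCat.of k)) θ ≫ j)) :
    0 ≤ θ d := by
  by_contra hd
  refine hv1 (Der.dv_injective (funext fun x => ?_))
  rw [Der.dv_one]
  conv_lhs => rw [← sum_wc j x]
  rw [dv_sum]
  refine Finset.sum_eq_zero fun m _ => ?_
  by_cases hm : m = d
  · exact dv_wc_eq_zero_of_mem_PSub j θ h x (hm ▸ not_le.1 hd)
  · exact hv x m hm

/-- A tangent vector factoring through a subgroup lies in its Lie algebra. -/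
theorem mem_range_of_fac {P : Over (Spec (CommRingCat.of k))} [GrpObj P] (p : P ⟶ G) [IsMonHom p] [Mono p]
    {v : Lie G k (fk k)} (h : ∃ z, z ≫ p = (v.1 : pt (DualNumber k) (fd (fk k)) ⟶ G)) :
    v ∈ (LieS.map k (fk k) p).range := by
  obtain ⟨z, hz⟩ := h
  refine ⟨⟨z, (mem_Lie_iff P k (fk k) _).2 ?_⟩, Subtype.ext hz⟩
  rw [← cancel_mono p, Category.assoc, hz, (mem_Lie_iff G k (fk k) _).1 v.2]
  exact (MonObj.one_comp p).symm

/-- **Over an algebraically closed field a parabolic subgroup meeting `P(λ)` in the centralizer is `P(-λ)`.** -/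
theorem isP_negD_field [IsAlgClosed k] {P P' Z : Over (Spec (CommRingCat.of k))} [GrpObj P] [GrpObj P'] [GrpObj Z]
    (hG : Red.IsReductive G) (hred : Red.IsReductiveOver k G) (c : Red.DS (Spec (CommRingCat.of k)) ℤ ⟶ G)
    [IsMonHom c] {p : P ⟶ G} (hp : IsP c p) {z : Z ⟶ G} (hz : Red.IsCentralizerOf c z) {p' : P' ⟶ G}
    (hP' : Red.IsParabolicOver k p') (m : Z ⟶ P') (hm : m ≫ p' = z)
    (hint : ∀ (X : Over (Spec (CommRingCat.of k))) (g : X ⟶ G), (∃ a, a ≫ p = g) → (∃ a, a ≫ p' = g) →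
      ∃ a, a ≫ z = g) :
    IsP (negD c) p' := by
  classical
  let S := Spec (CommRingCat.of k)
  haveI := hred.1; haveI := hred.2.1; haveI := hred.2.2.1
  haveI : IsAffineHom G.hom := isAffineHom_of_isAffine _
  haveI := hP'.1; haveI := hP'.2.1; haveI := hP'.2.2.1
  haveI := ParNorm.connectedSpace_parabolic hP'
  haveI : Mono p' := Over.mono_of_mono_left p'
  obtain ⟨r, i, lam, hi, rfl⟩ := exists_maxTorus_lambda c
  haveI := hi.1; haveI := hi.2.1
  have hj := Chev.Borel.isMaximalTorus_of_isMaxTorus i hi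
  obtain ⟨iz, hiz⟩ := (hz.2.2 _ i).2 fun X' x h => by
    rw [← Category.assoc h, ← MonObj.mul_comp, ← MonObj.mul_comp, DS_comm']
  have ht : (iz ≫ m) ≫ p' = i := by rw [Category.assoc, hm, hiz]
  obtain ⟨mu, hmu⟩ := isP_of_parabolic hG hred hj hP' (iz ≫ m) ht
  obtain ⟨_, D, -, hDroot, -, -, -⟩ := RootBase.exists_datum hG i hj
  -- weights
  have hneg : ∀ d (v : Lie G k (fk k)), IsWt i v d → v ≠ 1 → 0 < lam d → mu d < 0 := fun d v hv hv1 hd => by
    by_contra hmd
    have hvP := hp.exists_fac_iff.2 (IsWt.mem_PSub (Γ' := ℤ) i hv lam hd.le)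
    have hvP' := hmu.exists_fac_iff.2 (IsWt.mem_PSub (Γ' := ℤ) i hv mu (not_lt.1 hmd))
    obtain ⟨a, ha⟩ := hint _ (v.1 : pt (DualNumber k) (fd (fk k)) ⟶ G) hvP hvP'
    have h0 : IsWt (Red.DSmap S lam ≫ i) v 0 :=
      (mem_ZSub_iff_isWt_zero _ v).1 (ha ▸ mem_ZSub_of_centralizer hz a)
    exact hv1 ((hv.DSmap lam).eq_one h0 hd.ne')
  have hzero : ∀ d (v : Lie G k (fk k)), IsWt i v d → v ≠ 1 → lam d = 0 → 0 ≤ mu d := fun d v hv hv1 hd => by
    obtain ⟨a, ha⟩ := exists_centralizer_lift hz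
      ((mem_ZSub_iff_isWt_zero (Red.DSmap S lam ≫ i) v).2 (hd ▸ hv.DSmap lam))
    exact wt_nonneg_of_mem_PSub hv hv1 mu (hmu.exists_fac_iff.1 ⟨a ≫ m, by rw [Category.assoc, hm, ha]⟩)
  have key : ∀ d (v : Lie G k (fk k)), IsWt i v d → v ≠ 1 → (0 ≤ mu d ↔ lam d ≤ 0) := fun d v hv hv1 => by
    refine ⟨fun h => ?_, fun h => ?_⟩
    · by_contra h'
      exact absurd h (not_le.2 (hneg d v hv hv1 (not_le.1 h')))
    · rcases h.lt_or_eq with h' | h'
      · have hd0 : d ≠ 0 := fun e => by rw [e, map_zero] at h'; exact lt_irrefl 0 h'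
        let a : RootBase.Roots i := ⟨d, hd0, v, hv, hv1⟩
        have hopp : (D.reflectionPerm a a).1 = -d := by
          rw [← hDroot, D.root_reflectionPerm, D.reflection_apply_self, hDroot]
        obtain ⟨-, w, hw, hw1⟩ := (D.reflectionPerm a a).2
        rw [hopp] at hw
        have := hneg _ w hw hw1 (by rw [map_neg]; exact neg_pos.2 h')
        rw [map_neg, neg_lt_zero] at this
        exact this.le
      · exact hzero d v hv hv1 h'
  -- comparison
  have hc : negD (Red.DSmap S lam ≫ i) = Red.DSmap S (-lam) ≫ i := by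
    rw [negD, ← Category.assoc, RootIntrinsic.DSmap_comp_apply]
    congr 2
  rw [hc]
  refine ⟨inferInstance, inferInstance, fun X g => ⟨?_, fun hg => le_of_wt_nonneg ht (-lam) ?_ g hg⟩⟩
  · rintro ⟨a, rfl⟩ B _ f y
    rw [← Category.assoc]
    refine mem_PSub_of_wts ht (-lam) (fun d v hv hv1 hvR => ?_) _
    obtain ⟨x, hx⟩ := hvR
    have := wt_nonneg_of_mem_PSub hv hv1 mu (hmu.exists_fac_iff.1 ⟨x.1, congrArg Subtype.val hx⟩)
    rw [AddMonoidHom.neg_apply, neg_nonneg]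
    exact (key d v hv hv1).1 this
  · intro d v hv hd
    rw [AddMonoidHom.neg_apply, neg_nonneg] at hd
    by_cases hv1 : v = 1
    · rw [hv1]; exact Subgroup.one_mem _
    exact mem_range_of_fac p' (hmu.exists_fac_iff.2 (IsWt.mem_PSub (Γ' := ℤ) i hv mu ((key d v hv hv1).2 hd)))

end Field

variable {S : Scheme.{u}} {G P P' Z : Over S} [GrpObj G] [GrpObj P] [GrpObj P'] [GrpObj Z]

/-- **A parabolic subgroup meeting `P(λ)` in the centralizer of `λ` is `P(-λ)`.** -/
theorem isP_negD (hG : Red.IsReductive G) (c : Red.DS S ℤ ⟶ G) [IsMonHom c] {p : P ⟶ G} (hp : IsP c p)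
    {z : Z ⟶ G} (hz : Red.IsCentralizerOf c z) {p' : P' ⟶ G} (hP' : Red.IsParabolic p') (l : Z ⟶ P) (hl : l ≫ p = z)
    (m : Z ⟶ P') (hsq : IsPullback l m p p') : IsP (negD c) p' := by
  haveI := hG.1; haveI := hG.2.1
  haveI := hP'.1; haveI := hP'.2.1; haveI := hP'.2.2.1
  haveI := hp.1
  haveI : Mono p' := Over.mono_of_mono_left p'
  haveI := isMonHom_negD c
  have hm : m ≫ p' = z := hsq.w.symm.trans hl
  obtain ⟨P₀, _, p₀, hP₀⟩ := exists_isP (G := G) (negD c)
  haveI := hP₀.2.1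
  obtain ⟨cz, hcz⟩ := (hz.2.2 _ c).2 fun X' x h => by
    rw [← MonObj.mul_comp, ← MonObj.mul_comp, DS_comm']
  have hcm : (Red.DSmap S (-AddMonoidHom.id ℤ) ≫ cz ≫ m) ≫ p' = negD c := by
    simp only [negD, Category.assoc, hm, hcz]
  have hloc : ∀ s : S, ∃ V : S.Opens, s ∈ V ∧ ∀ (X : Over (V : Scheme.{u})) (g : (Over.map V.ι).obj X ⟶ G),
      (∃ w, w ≫ p' = g) ↔ ∃ w, w ≫ p₀ = g := by
    intro s
    let φ := Red.geomPt s
    let F := Over.pullback φ
    have hred : Red.IsReductiveOver _ (F.obj G) := hG.2.2 s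
    haveI : IsAffine (F.obj G).left := hred.1
    haveI : IsMonHom (bcHom' φ c) := isMonHom_bcHom' φ c
    have hfld := isP_negD_field (isReductive_bc φ hG) hred (bcHom' φ c) (hp.bc φ) (DynPar.centralizer_bc φ hz)
      (hP'.2.2.2 s) (F.map m) (by rw [← F.map_comp, hm]) fun X g h₁ h₂ => by
        rw [exists_fac_bc_iff] at h₁ h₂ ⊢
        obtain ⟨a, ha⟩ := h₁
        obtain ⟨b, hb⟩ := h₂
        refine ⟨hsq.lift a b (ha.trans hb.symm), ?_⟩
        rw [← hl, IsPullback.lift_fst_assoc, ha]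
    have hP₀K : IsP (negD (bcHom' φ c)) (F.map p₀) := by
      have h := hP₀.bc φ
      rwa [negD, bcHom'_DSmap] at h
    obtain ⟨e, he⟩ := hfld.exists_iso hP₀K
    obtain ⟨V, hV, hiff⟩ := BorelConj.exists_nhd_mem_iff (fun s => (hG.2.2 s).2.2.1) p'
      (MTImage.isConnected_fibre_of_geom fun s => by
        haveI := (hG.2.2 s).1; haveI := (hG.2.2 s).2.1; haveI := (hG.2.2 s).2.2.1
        exact ParNorm.connectedSpace_parabolic (hP'.2.2.2 s)) (c := negD c)
      ⟨_, hcm⟩ hP₀ φ (BorelConj.iff_of_iso φ p' p₀ e he)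
    rw [MTImage.geomPt_closedPoint] at hV
    exact ⟨V, hV, hiff⟩
  choose V hV hiff using hloc
  haveI : Mono p'.left := inferInstance
  haveI : Mono p₀.left := inferInstance
  refine isP_of_iff hP₀ inferInstance inferInstance fun X g => ⟨fun ⟨a, ha⟩ => ?_, fun ⟨a, ha⟩ => ?_⟩
  · refine exists_fac_local p₀ g fun s => ⟨V s, hV s, ?_⟩
    rw [exists_fac_bc_iff, ← hiff, ← exists_fac_bc_iff]
    exact ⟨(Over.pullback (V s).ι).map a, by rw [← Functor.map_comp, ha]⟩
  · refine exists_fac_local p' g fun s => ⟨V s, hV s, ?_⟩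
    rw [exists_fac_bc_iff, hiff, ← exists_fac_bc_iff]
    exact ⟨(Over.pullback (V s).ι).map a, by rw [← Functor.map_comp, ha]⟩

end Groth.Agent.ParStd
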