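import Groth.Agent.ParStd.LeviExists
import Groth.Agent.ParStd.LeviTorus
import Groth.Agent.S3002
import Groth.Agent.RedCartan.Global

/-!
# Atlases of parabolic subgroups and the unipotent radical on charts
-/

set_option autoImplicit false
set_option linter.style.haveILetI false
set_option linter.unusedSectionVars false
set_option backward.isDefEq.respectTransparency false
set_option backward.isDefEq.respectTransparency.types false
set_option maxHeartbeats 2000000
set_option synthInstance.maxHeartbeats 400000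

universe u

open CategoryTheory Limits MonoidalCategory CartesianMonoidalCategory MonObj AlgebraicGeometry
open scoped CategoryTheory.Obj

noncomputable section

namespace Groth.Agent.ParStd

open Groth.Agent.HomDiag Groth.Agent.DynPar Groth.Agent.MTBridge Groth.Agent.Chev

variable {S : Scheme.{u}}

/-- Transport of `U(c)` along an isomorphism. -/
theorem isU_transport {G G' U U' : Over S} [GrpObj G] [GrpObj G'] [GrpObj U] [GrpObj U'] {Γ : Type} [AddCommGroup Γ]
    [LinearOrder Γ] [IsOrderedAddMonoid Γ] {c : Red.DS S Γ ⟶ G} {u : U ⟶ G} (hu : IsU c u) (φ : G ≅ G')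
    [IsMonHom φ.hom] (ψ : U' ≅ U) [IsMonHom ψ.hom] {c' : Red.DS S Γ ⟶ G'} (hc : c ≫ φ.hom = c') {u' : U' ⟶ G'}
    (hsq : ψ.hom ≫ u ≫ φ.hom = u') : IsU c' u' := by
  subst hc hsq
  haveI := hu.1; haveI := hu.2.1
  haveI : IsMonHom φ.symm.hom := inferInstanceAs (IsMonHom φ.inv)
  haveI : IsIso φ.hom.left := inferInstanceAs (IsIso ((Over.forget S).map φ.hom))
  haveI : IsIso ψ.hom.left := inferInstanceAs (IsIso ((Over.forget S).map ψ.hom))
  refine ⟨inferInstance, by rw [Over.comp_left, Over.comp_left]; infer_instance, fun X g => ?_⟩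
  constructor
  · rintro ⟨z, rfl⟩ B _ f y
    have h := comp_mem_USub f c φ.hom (((hu.2.2 _ _).1 ⟨z ≫ ψ.hom, rfl⟩) B f y)
    simp only [Category.assoc] at h ⊢
    exact h
  · intro h
    obtain ⟨z, hz⟩ := (hu.2.2 X (g ≫ φ.inv)).2 fun B _ f y => by
      have := comp_mem_USub f (c ≫ φ.hom) φ.inv (h B f y)
      rwa [Category.assoc c, Iso.hom_inv_id, Category.comp_id, Category.assoc] at this
    exact ⟨z ≫ ψ.inv, by
      rw [Category.assoc, Iso.inv_hom_id_assoc, reassoc_of% hz, Iso.inv_hom_id, Category.comp_id]⟩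

/-- **Étale locally a parabolic subgroup contains a split maximal torus of the group.** -/
theorem exists_torus_parabolic {G P : Over S} [GrpObj G] [GrpObj P] (hG : Red.IsReductive G) (p : P ⟶ G)
    (hP : Red.IsParabolic p) (s : S) :
    ∃ (S' : Scheme.{u}) (f : S' ⟶ S), Etale f ∧ s ∈ Set.range f.base ∧ ∃ (T : Over S') (_ : GrpObj T)
      (t : T ⟶ Red.bc f P), IsMonHom t ∧ Red.IsMaximalTorus (t ≫ (Over.pullback f).map p) := by
  haveI := hP.1; haveI := hP.2.1; haveI := hP.2.2.1; haveI := hG.1; haveI := hG.2.1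
  haveI : Mono p := Over.mono_of_mono_left p
  haveI : IsAffineHom P.hom := by rw [← Over.w p]; infer_instance
  have hconn := MTImage.isConnected_fibre_of_geom fun s => by
    haveI := (hG.2.2 s).1; haveI := (hG.2.2 s).2.1; haveI := (hG.2.2 s).2.2.1
    exact ParNorm.connectedSpace_parabolic (hP.2.2.2 s)
  obtain ⟨B, _, v, hv, hs, T, _, i, hi, r, -⟩ := Groth.Agent.S3003.result S P hconn s fun T _ i hi X g hg => by
    haveI := (hG.2.2 s).1; haveI := (hG.2.2 s).2.1; haveI := (hG.2.2 s).2.2.1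
    let F := Over.pullback (Red.geomPt s)
    haveI := hi.1
    haveI : PreservesLimitsOfShape WalkingCospan F :=
      (Over.mapPullbackAdj (Red.geomPt s)).rightAdjoint_preservesLimits.preservesLimitsOfShape
    haveI : IsClosedImmersion (F.map p).left := MorphismProperty.overPullbackMap (P := @IsClosedImmersion) _ p hP.2.1
    haveI : Mono (F.map p) := Over.mono_of_mono_left _
    have hself := RedCartan.isCentralizerOf_self_algClosed (hG.2.2 s) (i ≫ F.map p)
      (isMaxTorus_of_parabolic (F.map p) (hP.2.2.2 s) i (Chev.Borel.isMaxTorus_of_isMaximalTorus i hi))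
    obtain ⟨t, ht⟩ := (hself.2.2 X (g ≫ F.map p)).2 fun X' x h => by
      have := congrArg (· ≫ F.map p) (hg X' x h)
      simpa only [MonObj.mul_comp, Category.assoc] using this
    exact ⟨t, by rw [← cancel_mono (F.map p), Category.assoc, ht]⟩
  haveI := hv; haveI := hi.1; haveI := hi.2.1
  let F := Over.pullback v
  haveI : PreservesLimitsOfShape WalkingCospan F :=
    (Over.mapPullbackAdj v).rightAdjoint_preservesLimits.preservesLimitsOfShape
  have hGv := DynPar.isReductive_bc v hG
  have hPv := isParabolic_bc v hG hP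
  refine ⟨_, v, hv, hs, T, inferInstance, i, inferInstance, inferInstance, inferInstance, hi.2.2.1,
    fun w T' _ j _ _ f hT' hf => ?_⟩
  let ψ := Red.geomPt w
  let Fw := Over.pullback ψ
  haveI : PreservesLimitsOfShape WalkingCospan Fw :=
    (Over.mapPullbackAdj ψ).rightAdjoint_preservesLimits.preservesLimitsOfShape
  have hGw := hGv.2.2 w
  haveI : IsAffine (Fw.obj (F.obj G)).left := hGw.1
  haveI : Smooth (Fw.obj (F.obj G)).hom := hGw.2.1
  haveI : ConnectedSpace (Fw.obj (F.obj G)).left := hGw.2.2.1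
  have h1 : AGF.IsMaxTorus (Fw.map i) :=
    ⟨inferInstance, inferInstance, Borel.isTorus_bc_scheme T ψ hi.2.2.1, hi.2.2.2 w⟩
  have h3 := isMaxTorus_of_parabolic (Fw.map (F.map p)) (hPv.2.2.2 w) (Fw.map i) h1
  exact h3.2.2.2 T' j f hT' (by rw [hf, Functor.map_comp])

variable {G P : Over S} [GrpObj G] [GrpObj P]

/-- **A parabolic subgroup has an atlas.** -/
theorem exists_atlas (hG : Red.IsReductive G) (p : P ⟶ G) (hP : Red.IsParabolic p) :
    ∃ (Q : S → Scheme.{u}) (f : ∀ s, Q s ⟶ S) (c : ∀ s, Red.DS (Q s) ℤ ⟶ Red.bc (f s) G),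
      IsAtlas p f c ∧ ∀ s, s ∈ Set.range (f s).base := by
  haveI := hP.1
  have key : ∀ s : S, ∃ (W : Scheme.{u}) (h : W ⟶ S), Etale h ∧ s ∈ Set.range h.base ∧
      ∃ c : Red.DS W ℤ ⟶ Red.bc h G, IsMonHom c ∧ IsP c ((Over.pullback h).map p) := fun s => by
    obtain ⟨S₁, f, hf, ⟨s₁, hs₁⟩, T, _, t, ht, hT⟩ := exists_torus_parabolic hG p hP s
    haveI := hf; haveI := ht
    obtain ⟨S₂, g, hg, ⟨s₂, hs₂⟩, c, hc, hcP⟩ :=
      exists_chart (DynPar.isReductive_bc f hG) _ (isParabolic_bc f hG hP) t hT s₁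
    haveI := hg; haveI := hc
    obtain ⟨eP, heP, hP₂⟩ := MaxTorusBC.exists_trIso (rfl : g ≫ f = _) P
    obtain ⟨eG, heG, hG₂⟩ := MaxTorusBC.exists_trIso (rfl : g ≫ f = _) G
    haveI : IsMonHom eP.hom := hP₂
    haveI : IsMonHom eG.hom := hG₂
    haveI : IsMonHom eG.symm.hom := inferInstanceAs (IsMonHom eG.inv)
    haveI : IsMonHom (c ≫ (Over.pullback g).map (t ≫ (Over.pullback f).map p)) :=
      isMonHom_comp' c ((Over.pullback g).map (t ≫ (Over.pullback f).map p))
    refine ⟨S₂, g ≫ f, inferInstance, ⟨s₂, by rw [Scheme.Hom.comp_base, TopCat.comp_app, hs₂, hs₁]⟩, _,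
      isMonHom_comp' (c ≫ (Over.pullback g).map (t ≫ (Over.pullback f).map p)) eG.symm.hom,
      isP_transport hcP eG.symm eP rfl ?_⟩
    show eP.hom ≫ (Over.pullback g).map ((Over.pullback f).map p) ≫ eG.inv = _
    rw [← Category.assoc, Iso.comp_inv_eq, heP, heG, MTImage.trIso_natural]
  choose Q f hf hs c hc hcP using key
  exact ⟨Q, f, c, ⟨hf, fun s => ⟨s, hs s⟩, hc, hcP⟩, hs⟩

/-- **The unipotent radical at a geometric point is the contracted subgroup of any cocharacter.** -/
theorem isU_radical (hG : Red.IsReductive G) (p : P ⟶ G) (hP : Red.IsParabolic p) {U : Over S} [GrpObj U]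
    {uU : U ⟶ P} (hU : Par.IsUnipotentRadical uU) {K : Type u} [Field K] [IsAlgClosed K]
    (φ : Spec (CommRingCat.of K) ⟶ S) (c : Red.DS (Spec (CommRingCat.of K)) ℤ ⟶ Red.bc φ G) [IsMonHom c]
    (hc : IsP c ((Over.pullback φ).map p)) : IsU c ((Over.pullback φ).map (uU ≫ p)) := by
  haveI := hP.1; haveI := hU.1
  obtain ⟨Q, f, cA, hA, hs⟩ := exists_atlas hG p hP
  obtain ⟨U₀, _, u₀, hU₀, hch⟩ := exists_radical_of_atlas hG p hP hA
  obtain ⟨e₀, he₀⟩ := exists_iso_radical hU hU₀
  let i := φ (IsLocalRing.closedPoint K)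
  haveI := hA.etale i; haveI := hA.hom i
  obtain ⟨φ', hφ'⟩ := BorelConj.exists_geom_lift (f i) φ (hs i)
  obtain ⟨V, _, v, e, hv, he, hev⟩ := hch i
  haveI := he; haveI := hU₀.1; haveI : IsMonHom e₀.hom := by
    haveI := hU₀.2.1
    haveI : Mono u₀ := Over.mono_of_mono_left u₀
    exact MTSplit.isMonHom_of_comp_mono e₀.hom u₀ uU he₀
  obtain ⟨eU, heU, hU'⟩ := MaxTorusBC.exists_trIso hφ' U
  obtain ⟨eP, heP, hP'⟩ := MaxTorusBC.exists_trIso hφ' P
  obtain ⟨eG, heG, hG'⟩ := MaxTorusBC.exists_trIso hφ' G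
  haveI : IsMonHom eU.hom := hU'
  haveI : IsMonHom eP.hom := hP'
  haveI : IsMonHom eG.hom := hG'
  haveI : IsMonHom eG.symm.hom := inferInstanceAs (IsMonHom eG.inv)
  haveI : IsMonHom ((Over.pullback (f i)).map e₀.hom) := inferInstance
  haveI : IsMonHom (Iso.refl (Red.bc (f i) G)).hom := inferInstanceAs (IsMonHom (𝟙 _))
  let ee : Red.bc (f i) U ≅ V := (Over.pullback (f i)).mapIso e₀ ≪≫ e
  haveI : IsMonHom ee.hom := inferInstanceAs (IsMonHom ((Over.pullback (f i)).map e₀.hom ≫ e.hom))
  have hui : IsU (cA i) ((Over.pullback (f i)).map (uU ≫ p)) :=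
    isU_transport hv (Iso.refl _) ee (Category.comp_id _) (by
      show ((Over.pullback (f i)).map e₀.hom ≫ e.hom) ≫ v ≫ 𝟙 _ = _
      rw [Category.comp_id, Category.assoc, hev, ← Functor.map_comp, reassoc_of% he₀])
  haveI : IsMonHom (bcHom' φ' (cA i)) := isMonHom_bcHom' φ' _
  let c' := bcHom' φ' (cA i) ≫ eG.inv
  haveI : IsMonHom c' := isMonHom_comp' (bcHom' φ' (cA i)) eG.symm.hom
  have hcP : IsP c' ((Over.pullback φ).map p) := isP_transport ((hA.isP i).bc φ') eG.symm eP rfl (by
    show eP.hom ≫ (Over.pullback φ').map ((Over.pullback (f i)).map p) ≫ eG.inv = _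
    rw [← Category.assoc, Iso.comp_inv_eq, heP, heG, MTImage.trIso_natural])
  have hcU : IsU c' ((Over.pullback φ).map (uU ≫ p)) := isU_transport (hui.bc φ') eG.symm eU rfl (by
    show eU.hom ≫ (Over.pullback φ').map ((Over.pullback (f i)).map (uU ≫ p)) ≫ eG.inv = _
    rw [← Category.assoc, Iso.comp_inv_eq, heU, heG, MTImage.trIso_natural])
  have hGK := DynPar.isReductive_bc φ hG
  exact ⟨hcU.1, hcU.2.1, fun X g => (hcU.2.2 X g).trans
    ⟨inF_UFam_of_isP hGK hcP hc g, inF_UFam_of_isP hGK hc hcP g⟩⟩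

/-- A map from a smooth scheme is an open immersion when it is one on every geometric fibre. -/
theorem isOpenImmersion_of_geomPts {A B : Over S} [LocallyOfFinitePresentation A.hom] [Flat A.hom]
    [LocallyOfFiniteType B.hom] (f : A ⟶ B)
    (h : ∀ s : S, IsOpenImmersion ((Over.pullback (Red.geomPt s)).map f).left) : IsOpenImmersion f.left := by
  refine FibCrit.LFT.isOpenImmersion_of_fibres (Over.w f) fun s => ?_
  let j : Spec (CommRingCat.of (AlgebraicClosure (S.residueField s))) ⟶ Spec (S.residueField s) :=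
    Spec.map (CommRingCat.ofHom (algebraMap (S.residueField s) (AlgebraicClosure (S.residueField s))))
  let τ := j ≫ S.fromSpecResidueField s
  let F := ((Over.pullback τ).map f).left
  haveI : IsOpenImmersion F := h s
  let ψ : pullback B.hom τ ⟶ B.hom.fiber s :=
    pullback.lift (pullback.fst B.hom τ) (pullback.snd B.hom τ ≫ j) (by
      rw [Category.assoc]; exact pullback.condition)
  have hψ : IsPullback ψ (pullback.snd B.hom τ) (pullback.snd B.hom (S.fromSpecResidueField s)) j :=
    IsPullback.of_right (by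
      rw [show ψ ≫ pullback.fst B.hom (S.fromSpecResidueField s) = pullback.fst B.hom τ from pullback.lift_fst _ _ _]
      exact IsPullback.of_hasPullback B.hom τ) (pullback.lift_snd _ _ _) (IsPullback.of_hasPullback _ _)
  have hj : (@Surjective ⊓ @Flat ⊓ @QuasiCompact : MorphismProperty Scheme.{u}) j :=
    ⟨⟨inferInstance, inferInstance⟩, inferInstance⟩
  have hψp : (@Surjective ⊓ @Flat ⊓ @QuasiCompact : MorphismProperty Scheme.{u}) ψ :=
    MorphismProperty.of_isPullback hψ.flip hj
  have hF : F ≫ pullback.fst B.hom τ = pullback.fst A.hom τ ≫ f.left := by simp [F, Over.pullback]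
  have sqA : IsPullback F (pullback.fst A.hom τ) (pullback.fst B.hom τ) f.left := by
    refine IsPullback.of_right ?_ hF (IsPullback.of_hasPullback B.hom τ).flip
    rw [show F ≫ pullback.snd B.hom τ = pullback.snd A.hom τ from Over.w ((Over.pullback τ).map f),
      show f.left ≫ B.hom = A.hom from Over.w f]
    exact (IsPullback.of_hasPullback A.hom τ).flip
  let u : pullback A.hom τ ⟶ pullback f.left (B.hom.fiberι s) :=
    pullback.lift (pullback.fst A.hom τ) (F ≫ ψ) (by
      rw [Category.assoc, show ψ ≫ B.hom.fiberι s = pullback.fst B.hom τ from pullback.lift_fst _ _ _]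
      exact hF.symm)
  have sqB : IsPullback F u ψ (pullback.snd f.left (B.hom.fiberι s)) := by
    refine IsPullback.of_bot ?_ (pullback.lift_snd _ _ _).symm (IsPullback.of_hasPullback f.left (B.hom.fiberι s)).flip
    rw [show ψ ≫ B.hom.fiberι s = pullback.fst B.hom τ from pullback.lift_fst _ _ _,
      show u ≫ pullback.fst f.left (B.hom.fiberι s) = pullback.fst A.hom τ from pullback.lift_fst _ _ _]
    exact sqA
  exact MorphismProperty.of_isPullback_of_descendsAlong (P := @IsOpenImmersion)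
    (Q := (@Surjective ⊓ @Flat ⊓ @QuasiCompact : MorphismProperty Scheme.{u})) sqB hψp ‹IsOpenImmersion F›

end Groth.Agent.ParStd
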