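import Groth.Agent.RootSys.Weyl
import Groth.Agent.RootSys.BaseGen
import Groth.Agent.S5452
import Mathlib.Algebra.BigOperators.Group.Finset.Basic

/-!
# Parabolic sets of roots are cut out by functionals
-/

set_option autoImplicit false
set_option linter.style.haveILetI false

open RootPairing

noncomputable section

namespace Groth.Agent.ParStd

variable {ι M N : Type} [AddCommGroup M] [AddCommGroup N] {P : RootPairing ι ℤ M N}

/-- **A set of roots containing a positive system and stable under the reflections in its symmetric part is the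
non-negative set of a functional.** -/
theorem exists_nonneg_hom [Finite ι] (mu : M →+ ℤ) (R' : Set ι) (hne : ∀ a, mu (P.root a) ≠ 0)
    (hpos : ∀ a, 0 < mu (P.root a) → a ∈ R')
    (hstab : ∀ a ∈ R', P.reflectionPerm a a ∈ R' → ∀ x ∈ R', P.reflectionPerm a x ∈ R') :
    ∃ lam : M →+ ℤ, ∀ a, a ∈ R' ↔ 0 ≤ lam (P.root a) := by
  classical
  haveI : Finite P.weylGroup := Finite.of_injective _ (Groth.Agent.S5452.result P)
  let Φ : Set ι := {a | a ∈ R' ∧ P.reflectionPerm a a ∈ R'}
  let gen : ι → P.weylGroup := fun a => ⟨RootPairing.Equiv.reflection P a, reflection_mem_weylGroup P a⟩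
  let H : Subgroup P.weylGroup := Subgroup.closure (gen '' Φ)
  haveI : Fintype H := Fintype.ofFinite H
  have hroot : ∀ (w : P.weylGroup) (i : ι), (w : P.Aut) • P.root i = P.root ((w : P.Aut) • i) := fun w i =>
    (Groth.Agent.RootSys.groot_smul (P := P) (w : P.Aut) i).symm
  have hgen : ∀ (a x : ι), ((gen a : P.weylGroup) : P.Aut) • x = P.reflectionPerm a x := fun a x => rfl
  have hneg : ∀ a, P.root (P.reflectionPerm a a) = -P.root a := fun a => by
    rw [P.root_reflectionPerm, P.reflection_apply_self]
  have hH : ∀ w ∈ H, ∀ x, ((w : P.weylGroup) : P.Aut) • x ∈ R' ↔ x ∈ R' := by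
    intro w hw
    induction hw using Subgroup.closure_induction with
    | mem w hw =>
      obtain ⟨a, ⟨ha, ha'⟩, rfl⟩ := hw
      intro x
      rw [hgen]
      exact ⟨fun h => by have := hstab a ha ha' _ h; rwa [P.reflectionPerm_self] at this, hstab a ha ha' x⟩
    | one => intro x; simp
    | mul u v _ _ hu hv => intro x; rw [Subgroup.coe_mul, mul_smul, hu, hv]
    | inv u _ hu =>
      intro x
      rw [← hu (((u⁻¹ : P.weylGroup) : P.Aut) • x), ← mul_smul, ← Subgroup.coe_mul, mul_inv_cancel]
      simp
  let lam : M →+ ℤ := ∑ w : H, mu.comp (DistribSMul.toAddMonoidHom M ((w : P.weylGroup) : P.Aut))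
  have hlam : ∀ a, lam (P.root a) = ∑ w : H, mu (P.root (((w : P.weylGroup) : P.Aut) • a)) := fun a => by
    rw [AddMonoidHom.finsetSum_apply]
    exact Finset.sum_congr rfl fun w _ => by
      rw [AddMonoidHom.comp_apply, DistribSMul.toAddMonoidHom_apply, hroot]
  have h0 : ∀ a ∈ Φ, lam (P.root a) = 0 := fun a ha => by
    let s : H := ⟨gen a, Subgroup.subset_closure ⟨a, ha, rfl⟩⟩
    have h1 : lam (P.root (P.reflectionPerm a a)) = lam (P.root a) := by
      rw [hlam, hlam]
      refine Fintype.sum_equiv (Equiv.mulRight s) _ _ fun w => ?_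
      rw [Equiv.coe_mulRight, Subgroup.coe_mul, Subgroup.coe_mul, mul_smul, hgen]
    rw [hneg, map_neg] at h1
    omega
  have hp : ∀ a, a ∈ R' → P.reflectionPerm a a ∉ R' → 0 < lam (P.root a) := fun a ha ha' => by
    rw [hlam]
    refine Finset.sum_pos (fun w _ => ?_) Finset.univ_nonempty
    set x := ((w : P.weylGroup) : P.Aut) • a with hx
    have hxR : x ∈ R' := (hH _ w.2 a).2 ha
    refine lt_of_le_of_ne (not_lt.1 fun hlt => ha' ((hH _ w.2 _).1 (hpos _ ?_))) (Ne.symm (hne x))
    have e : P.root (((w : P.weylGroup) : P.Aut) • P.reflectionPerm a a) = -P.root x := by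
      rw [Groth.Agent.RootSys.groot_smul, hneg, smul_neg, ← Groth.Agent.RootSys.groot_smul]
    rw [e, map_neg]
    omega
  refine ⟨lam, fun a => ⟨fun ha => ?_, fun ha => ?_⟩⟩
  · by_cases h : P.reflectionPerm a a ∈ R'
    · exact (h0 a ⟨ha, h⟩).ge
    · exact (hp a ha h).le
  · by_contra h
    have hb : P.reflectionPerm a a ∈ R' := hpos _ (by
      rw [hneg, map_neg]
      have : ¬ 0 < mu (P.root a) := fun hh => h (hpos a hh)
      have := hne a
      omega)
    have h2 := hp _ hb (by
      have e : P.reflectionPerm (P.reflectionPerm a a) (P.reflectionPerm a a) = a := P.root.injective (by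
        rw [hneg, hneg, neg_neg])
      rwa [e])
    rw [hneg, map_neg] at h2
    omega

end Groth.Agent.ParStd
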