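import Groth.Agent.ParStd.LeviChart
import Groth.Agent.RedCartan.Global
import Groth.Agent.MTTorus.Basic
import Groth.Agent.MTBridge.EtaleConj
import Groth.Agent.MTQuot.Diag
import Groth.Agent.MTCentre.Main

/-!
# A Levi subgroup is the centraliser of its maximal central torus
-/

set_option autoImplicit false
set_option linter.style.haveILetI false
set_option backward.isDefEq.respectTransparency false
set_option backward.isDefEq.respectTransparency.types false
set_option maxHeartbeats 2000000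
set_option synthInstance.maxHeartbeats 400000

universe u

open CategoryTheory Limits MonoidalCategory CartesianMonoidalCategory MonObj AlgebraicGeometry LieS
open scoped CategoryTheory.Obj

noncomputable section

namespace Groth.Agent.ParStd

open Groth.Agent.HomDiag Groth.Agent.DynPar Groth.Agent.MTBridge Groth.Agent.Chev

variable {S : Scheme.{u}}

/-- Points commuting with a subgroup still do after a change of base. -/
theorem commute_bc {S' : Scheme.{u}} (f : S' ⟶ S) {G H : Over S} [GrpObj G] (i : H ⟶ G) {X : Over S} (x : X ⟶ G)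
    (h : ∀ (X' : Over S) (a : X' ⟶ X) (b : X' ⟶ H), (a ≫ x) * (b ≫ i) = (b ≫ i) * (a ≫ x))
    (Y : Over S') (a : Y ⟶ Red.bc f X) (b : Y ⟶ Red.bc f H) :
    (a ≫ (Over.pullback f).map x) * (b ≫ (Over.pullback f).map i) =
      (b ≫ (Over.pullback f).map i) * (a ≫ (Over.pullback f).map x) := by
  obtain ⟨a₀, rfl⟩ := MTBridge.exists_toBC f a
  obtain ⟨b₀, rfl⟩ := MTBridge.exists_toBC f b
  rw [← MTBridge.toBC_comp, ← MTBridge.toBC_comp, ← MTBridge.toBC_mul, ← MTBridge.toBC_mul]
  exact congrArg (MTBridge.toBC f) (h _ a₀ b₀)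

/-- A point central after a change of base is central. -/
theorem commute_from {S' : Scheme.{u}} (f : S' ⟶ S) {L : Over S} [GrpObj L] {D : Over S'} (c : D ⟶ Red.bc f L)
    (hc : ∀ (Y : Over S') (y : Y ⟶ D) (h : Y ⟶ Red.bc f L), (y ≫ c) * h = h * (y ≫ c))
    (X : Over S) (x : X ⟶ (Over.map f).obj D) (h : X ⟶ L) :
    (x ≫ DynPar.fromB f c) * h = h * (x ≫ DynPar.fromB f c) := by
  let Y : Over S' := Over.mk (x.left ≫ D.hom)
  let y : Y ⟶ D := Over.homMk x.left rfl
  have hw : (x.left ≫ D.hom) ≫ f = X.hom := by rw [Category.assoc]; exact Over.w x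
  let ε : (Over.map f).obj Y ≅ X := Over.isoMk (Iso.refl _) (show 𝟙 _ ≫ X.hom = (x.left ≫ D.hom) ≫ f by
    rw [Category.id_comp, hw])
  have hε : ε.hom ≫ x = (Over.map f).map y := Over.OverMorphism.ext (Category.id_comp _)
  rw [← cancel_epi ε.hom, MonObj.comp_mul, MonObj.comp_mul, ← Category.assoc ε.hom x, hε]
  apply MTBridge.toBC_inj f
  rw [MTBridge.toBC_mul, MTBridge.toBC_mul]
  have hy : MTBridge.toBC f ((Over.map f).map y ≫ DynPar.fromB f c) = y ≫ c :=
    ((Over.mapPullbackAdj f).homEquiv_naturality_left y _).trans (congrArg (y ≫ ·) (Equiv.apply_symm_apply _ _))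
  rw [hy]
  exact hc Y y _

/-- The maximal torus of a group of multiplicative type swallows every homomorphism from `𝔾ₘ` after a change of
base. -/
theorem exists_fac_maxTorus {Z Q : Over S} [GrpObj Z] [GrpObj Q] (hZ : SGA3x.IsMultTypeFT Z) (i : Q ⟶ Z)
    (hi : Red.IsMaximalTorus i) {S' : Scheme.{u}} (f : S' ⟶ S) (c : Red.DS S' ℤ ⟶ Red.bc f Z) [IsMonHom c] :
    ∃ a, a ≫ (Over.pullback f).map i = c := by
  have hZ' := MTBridge.isMultTypeFT_bc Z f hZ
  haveI : IsAffineHom Z.hom := MTBridge.isAffineHom Z hZ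
  haveI := MTBridge.locallyOfFinitePresentation_of_isMultTypeFT Z hZ
  haveI : IsAffineHom (Red.bc f Z).hom := MorphismProperty.pullback_snd (P := @IsAffineHom) Z.hom f inferInstance
  haveI : LocallyOfFinitePresentation (Red.bc f Z).hom :=
    MorphismProperty.pullback_snd (P := @LocallyOfFinitePresentation) Z.hom f inferInstance
  obtain ⟨Q', _, i', hi', huniv⟩ := MTTorus.exists_maximal_torus hZ'
  have hbc := Chev.MaxTorusBC.isMaximalTorus_bc i hi f
  haveI := hbc.1; haveI := hbc.2.1; haveI := hi'.1; haveI := hi'.2.1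
  obtain ⟨g, hg⟩ := huniv (Red.bc f Q) ((Over.pullback f).map i) hbc.2.2.1
  haveI : IsMonHom g := MTSplit.isMonHom_of_comp_mono g i' _ hg
  have hiso : ∀ s : S', IsIso ((Over.pullback (Red.geomPt s)).map g) := fun s => by
    haveI : PreservesLimitsOfShape WalkingCospan (Over.pullback (Red.geomPt s)) :=
      (Over.mapPullbackAdj (Red.geomPt s)).rightAdjoint_preservesLimits.preservesLimitsOfShape
    exact hbc.2.2.2 s _ ((Over.pullback (Red.geomPt s)).map i') _ (Borel.isTorus_bc_scheme _ _ hi'.2.2.1)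
      (by rw [← Functor.map_comp, hg])
  haveI := MTBridge.flat_of_isMultTypeFT _ (MTBridge.isMultTypeFT_of_isTorus _ hbc.2.2.1)
  haveI := MTBridge.locallyOfFinitePresentation_of_isMultTypeFT _ (MTBridge.isMultTypeFT_of_isTorus _ hbc.2.2.1)
  haveI := MTBridge.locallyOfFinitePresentation_of_isMultTypeFT _ (MTBridge.isMultTypeFT_of_isTorus _ hi'.2.2.1)
  haveI : IsIso g := ParNorm.isIso_of_geomPts g hiso
  have hD : Red.IsTorus (Red.DS S' (Fin 1 → ℤ)) := MTCentre.isTorus_DS_scheme S' 1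
  let e₁ : ℤ ≃+ (Fin 1 → ℤ) :=
    { toFun := fun x _ => x, invFun := fun v => v 0, left_inv := fun x => rfl,
      right_inv := fun v => funext fun j => by rw [Fin.fin_one_eq_zero j], map_add' := fun x y => rfl }
  let w : Red.DS S' (Fin 1 → ℤ) ⟶ Red.bc f Z := Red.DSmap S' e₁.toAddMonoidHom ≫ c
  haveI : IsMonHom w := isMonHom_comp' (Red.DSmap S' e₁.toAddMonoidHom) c
  obtain ⟨R, _, q, m, hqm, hmm, hmono, hR, -, -, hqm'⟩ := MTImage.exists_image_torus hD w
  haveI := hmm; haveI := hmono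
  obtain ⟨a, ha⟩ := huniv R m hR
  refine ⟨(Red.DSmap S' e₁.symm.toAddMonoidHom ≫ q ≫ a) ≫ CategoryTheory.inv g, ?_⟩
  rw [← hg, Category.assoc, IsIso.inv_hom_id_assoc, Category.assoc, Category.assoc, ha, hqm']
  show Red.DSmap S' e₁.symm.toAddMonoidHom ≫ Red.DSmap S' e₁.toAddMonoidHom ≫ c = c
  rw [← Category.assoc, MTQuot.DSmap_comp, show e₁.symm.toAddMonoidHom.comp e₁.toAddMonoidHom = AddMonoidHom.id ℤ from
    AddMonoidHom.ext fun x => e₁.symm_apply_apply x, DSmap_id, Category.id_comp]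

/-- **A Levi subgroup is the centraliser of a subtorus of itself.** -/
theorem exists_critical_torus {G P L : Over S} [GrpObj G] [GrpObj P] [GrpObj L] (hG : Red.IsReductive G) (p : P ⟶ G)
    (hP : Red.IsParabolic p) {l : L ⟶ P} (hl : Par.IsLevi l) :
    ∃ (Q : Over S) (_ : GrpObj Q) (j : Q ⟶ L), IsMonHom j ∧ Mono j ∧ Red.IsTorus Q ∧
      Red.IsCentralizerOf (j ≫ l ≫ p) (l ≫ p) := by
  haveI := hl.1; haveI := hl.2.1; haveI := hP.1; haveI := hP.2.1; haveI := hG.1; haveI := hl.2.2.1.1
  haveI : Mono p := Over.mono_of_mono_left p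
  haveI : IsAffineHom P.hom := by rw [← Over.w p]; infer_instance
  haveI := isClosedImmersion_levi hl
  haveI : IsClosedImmersion (l ≫ p).left := by rw [Over.comp_left]; infer_instance
  obtain ⟨Z, _, z, hz, -, hZ⟩ := RedCartan.exists_centre_of_isReductive hl.2.2.1
  haveI := hz.1; haveI : Mono z := hz.2.1
  obtain ⟨Q, _, i, hi, -⟩ := MTTorus.exists_maximal_torus hZ
  haveI := hi.1; haveI := hi.2.1
  refine ⟨Q, inferInstance, i ≫ z, inferInstance, mono_comp _ _, hi.2.2.1, inferInstance, mono_comp _ _, fun X g => ?_⟩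
  constructor
  · rintro ⟨y, rfl⟩ X' x h
    have h1 := ((hz.2.2 Q (i ≫ z)).1 ⟨i, rfl⟩ X' h (x ≫ y)).symm
    have h2 := congrArg (· ≫ l ≫ p) h1
    simpa only [MonObj.mul_comp, Category.assoc, Category.comp_id] using h2
  · intro hg
    choose S' f hf hs c hc hcP hcZ using exists_levi_chart hG p hP hl
    refine exists_fac_of_cover (mem_fpqc_of_etale (Q := S') (f := f) hf fun s => ⟨s, hs s⟩) (l ≫ p) g fun s => ?_
    let F := Over.pullback (f s)
    haveI := hc s
    haveI : Mono (F.map (l ≫ p)) := (hcZ s).2.1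
    -- the cocharacter is central
    obtain ⟨c', hc'⟩ : ∃ c', c' ≫ F.map z = c s := by
      rw [exists_fac_bc_iff, hz.2.2]
      intro X' x h
      rw [Category.comp_id]
      refine commute_from (f s) (c s) (fun Y y h' => ?_) X' x h
      rw [← cancel_mono (F.map (l ≫ p)), MonObj.mul_comp, MonObj.mul_comp]
      have h1 := ((hcZ s).2.2 _ (F.map (l ≫ p))).1 ⟨𝟙 _, Category.id_comp _⟩ Y h' y
      simpa only [Category.assoc] using h1.symm
    haveI : IsMonHom (F.map z) := inferInstance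
    haveI : PreservesLimitsOfShape WalkingCospan F :=
      (Over.mapPullbackAdj (f s)).rightAdjoint_preservesLimits.preservesLimitsOfShape
    haveI : IsMonHom c' := MTSplit.isMonHom_of_comp_mono c' (F.map z) (c s) hc'
    obtain ⟨a, ha⟩ := exists_fac_maxTorus hZ i hi (f s) c'
    refine ((hcZ s).2.2 _ (F.map g)).2 fun Y b d => ?_
    have h1 := commute_bc (f s) ((i ≫ z) ≫ l ≫ p) g hg Y b (d ≫ a)
    have h2 : (d ≫ a) ≫ F.map ((i ≫ z) ≫ l ≫ p) = d ≫ c s ≫ F.map (l ≫ p) := by
      rw [← hc', ← ha]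
      simp only [F, Functor.map_comp, Category.assoc]
    rwa [h2] at h1

end Groth.Agent.ParStd
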