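import Groth.Agent.ParStd.OpenCell

/-!
# Opposite Levi intersections and open cells
-/

set_option autoImplicit false
set_option linter.style.haveILetI false
set_option linter.unusedSectionVars false
set_option backward.isDefEq.respectTransparency false
set_option backward.isDefEq.respectTransparency.types false
set_option maxHeartbeats 2000000
set_option synthInstance.maxHeartbeats 400000

universe u

open CategoryTheory Limits MonoidalCategory CartesianMonoidalCategory MonObj AlgebraicGeometry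
open scoped CategoryTheory.Obj

noncomputable section

namespace Groth.Agent.ParStd

open Groth.Agent.HomDiag Groth.Agent.DynPar Groth.Agent.MTBridge Groth.Agent.Chev

variable {S : Scheme.{u}} {G P Q U L : Over S} [GrpObj G] [GrpObj P] [GrpObj Q] [GrpObj U] [GrpObj L]

/-- A geometric cocharacter of a Levi subgroup. -/
theorem exists_geom_cochar (hG : Red.IsReductive G) (p : P ⟶ G) (hP : Red.IsParabolic p) {l : L ⟶ P}
    (hl : Par.IsLevi l) (s : S) :
    ∃ c : Red.DS _ ℤ ⟶ Red.geomFibre s G, IsMonHom c ∧ IsP c ((Over.pullback (Red.geomPt s)).map p) ∧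
      Red.IsCentralizerOf c ((Over.pullback (Red.geomPt s)).map (l ≫ p)) := by
  haveI := hl.1; haveI := hP.1
  obtain ⟨S', f, hf, hs, c, hc, hcP, hcZ⟩ := exists_levi_chart hG p hP hl s
  haveI := hf; haveI := hc
  haveI : IsMonHom (c ≫ (Over.pullback f).map (l ≫ p)) := isMonHom_comp' c ((Over.pullback f).map (l ≫ p))
  obtain ⟨φ, hφ⟩ := BorelConj.exists_geom_lift f (Red.geomPt s) (by rw [MTImage.geomPt_closedPoint]; exact hs)
  obtain ⟨e, he, -, hP', hZ'⟩ := exists_restrict_levi hφ p l hcP hcZ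
  haveI := he
  exact ⟨_, isMonHom_cW e (c ≫ (Over.pullback f).map (l ≫ p)), hP', hZ'⟩

/-- The second parabolic subgroup at a geometric point is the opposite one. -/
theorem exists_geom_opposite (hG : Red.IsReductive G) (p : P ⟶ G) (hP : Red.IsParabolic p) (q : Q ⟶ G)
    (hQ : Red.IsParabolic q) {l : L ⟶ P} (hl : Par.IsLevi l) {m : L ⟶ Q} (hsq : IsPullback l m p q) (s : S) :
    ∃ c : Red.DS _ ℤ ⟶ Red.geomFibre s G, IsMonHom c ∧ IsP c ((Over.pullback (Red.geomPt s)).map p) ∧
      IsP (negD c) ((Over.pullback (Red.geomPt s)).map q) ∧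
      Red.IsCentralizerOf c ((Over.pullback (Red.geomPt s)).map (l ≫ p)) := by
  haveI := hl.1; haveI := hP.1; haveI := hQ.1
  obtain ⟨c, hc, hcP, hcZ⟩ := exists_geom_cochar hG p hP hl s
  haveI := hc
  let F := Over.pullback (Red.geomPt s)
  haveI : PreservesLimitsOfShape WalkingCospan F :=
    (Over.mapPullbackAdj (Red.geomPt s)).rightAdjoint_preservesLimits.preservesLimitsOfShape
  haveI : IsAffine (Red.geomFibre s G).left := (hG.2.2 s).1
  refine ⟨c, hc, hcP, isP_negD_field (DynPar.isReductive_bc _ hG) (hG.2.2 s) c hcP hcZ (hQ.2.2.2 s) (F.map m)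
    (by rw [← F.map_comp, hsq.w]) fun X g ⟨a, ha⟩ ⟨b, hb⟩ => ?_, hcZ⟩
  exact ⟨(hsq.map F).lift a b (ha.trans hb.symm), by rw [F.map_comp, IsPullback.lift_fst_assoc, ha]⟩

/-- The product map at a geometric point. -/
theorem isOpenImmersion_map_iff {S' : Scheme.{u}} (g : S' ⟶ S) {X A B : Over S} [GrpObj X] (a : A ⟶ X) (b : B ⟶ X) :
    IsOpenImmersion ((Over.pullback g).map ((a ⊗ₘ b) ≫ μ)).left ↔
      IsOpenImmersion (((Over.pullback g).map a ⊗ₘ (Over.pullback g).map b) ≫ μ).left := by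
  haveI : IsIso (CartesianMonoidalCategory.prodComparison (Over.pullback g) A B).left :=
    inferInstanceAs (IsIso ((Over.forget S').map (CartesianMonoidalCategory.prodComparison (Over.pullback g) A B)))
  rw [map_mul_eq, Over.comp_left]
  exact MorphismProperty.cancel_left_of_respectsIso @IsOpenImmersion _ _

/-- **Opposite parabolic subgroups through a Levi subgroup have an open cell.** -/
theorem isOpenImmersion_of_levi (hG : Red.IsReductive G) (p : P ⟶ G) (hP : Red.IsParabolic p) (q : Q ⟶ G)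
    (hQ : Red.IsParabolic q) {uU : U ⟶ P} (hU : Par.IsUnipotentRadical uU) {l : L ⟶ P} (hl : Par.IsLevi l)
    {m : L ⟶ Q} (hsq : IsPullback l m p q) : IsOpenImmersion (((uU ≫ p) ⊗ₘ q) ≫ μ).left := by
  haveI := hP.1; haveI := hQ.1; haveI := hU.1
  haveI := hU.2.2.2.1; haveI := hQ.2.2.1; haveI := hG.2.1
  haveI : Smooth (U ⊗ Q).hom := inferInstanceAs (Smooth (pullback.fst U.hom Q.hom ≫ U.hom))
  refine isOpenImmersion_of_geomPts _ fun s => ?_
  rw [isOpenImmersion_map_iff]
  obtain ⟨c, hc, hcP, hcQ, -⟩ := exists_geom_opposite hG p hP q hQ hl hsq s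
  haveI := hc
  haveI := isMonHom_negD c
  have hu := isU_radical hG p hP hU (Red.geomPt s) c hcP
  haveI : IsAffine (Red.geomFibre s G).left := (hG.2.2 s).1
  haveI : Smooth (Red.geomFibre s G).hom := (hG.2.2 s).2.1
  obtain ⟨-, h, -, -⟩ := RootSys.exists_cell_open (negD c) c (negD_negD c).symm hu hcQ
  rwa [← ParStd.lift_mul, lift_fst_snd, Category.id_comp] at h

/-- **The intersection with an opposite parabolic subgroup is a Levi subgroup of it.** -/
theorem isLevi_opposite (hG : Red.IsReductive G) (p : P ⟶ G) (hP : Red.IsParabolic p) (q : Q ⟶ G)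
    (hQ : Red.IsParabolic q) {l : L ⟶ P} (hl : Par.IsLevi l) {m : L ⟶ Q} [IsMonHom m] (hsq : IsPullback l m p q) :
    Par.IsLevi m := by
  haveI := hl.1; haveI := hl.2.1; haveI := hP.1; haveI := hP.2.1; haveI := hQ.1; haveI := hQ.2.1
  haveI := hQ.2.2.1; haveI := hl.2.2.1.2.1; haveI := hG.1; haveI := hG.2.1
  haveI : Mono p := Over.mono_of_mono_left p
  haveI : Mono q := Over.mono_of_mono_left q
  haveI : Mono m := ⟨fun a b h => by
    rw [← cancel_mono l, ← cancel_mono p, Category.assoc, Category.assoc, hsq.w, reassoc_of% h]⟩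
  obtain ⟨Q', f, cA, hA, -⟩ := exists_atlas hG q hQ
  obtain ⟨V, _, v, hv, -⟩ := exists_radical_of_atlas hG q hQ hA
  haveI := hv.1; haveI := hv.2.2.2.1
  refine ⟨inferInstance, inferInstance, hl.2.2.1, V, inferInstance, v, hv, ?_⟩
  haveI : Smooth (L ⊗ V).hom := inferInstanceAs (Smooth (pullback.fst L.hom V.hom ≫ L.hom))
  refine ParNorm.isIso_of_geomPts _ fun s => ?_
  obtain ⟨c, hc, hcP, hcQ, hcZ⟩ := exists_geom_opposite hG p hP q hQ hl hsq s
  haveI := hc
  haveI := isMonHom_negD c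
  let F := Over.pullback (Red.geomPt s)
  haveI : IsMonHom (negD c) := isMonHom_negD c
  haveI : IsAffineHom (Red.geomFibre s G).hom := (DynPar.isReductive_bc (Red.geomPt s) hG).1
  have hu := isU_radical hG q hQ hv (Red.geomPt s) (negD c) hcQ
  have hz : Red.IsCentralizerOf (negD c) (F.map (m ≫ q)) := by
    rw [← hsq.w]
    exact DynPar.centralizer_congr hcZ fun B _ f g => (mem_ZSub_negD c).symm
  obtain ⟨d⟩ := exists_leviData hcQ hu hz
  haveI : IsClosedImmersion (F.map q).left := MorphismProperty.overPullbackMap (P := @IsClosedImmersion) _ q hQ.2.1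
  haveI : Mono (F.map q) := Over.mono_of_mono_left _
  have h1 : d.l = F.map m := by rw [← cancel_mono (F.map q), d.l_p, F.map_comp]
  have h2 : d.iu = F.map v := by rw [← cancel_mono (F.map q), d.iu_p, F.map_comp]
  haveI := d.iso
  rw [map_mul_eq, ← h1, ← h2]
  infer_instance

/-- An open cell makes the intersection a Levi subgroup, given a torus in both subgroups at each geometric point. -/
theorem isLevi_of_isOpenImmersion_tori (hG : Red.IsReductive G) (p : P ⟶ G) (hP : Red.IsParabolic p) (q : Q ⟶ G)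
    (hQ : Red.IsParabolic q) {uU : U ⟶ P} (hU : Par.IsUnipotentRadical uU)
    (htori : ∀ s : S, ∃ (T : Over (Spec (CommRingCat.of (AlgebraicClosure (S.residueField s))))) (_ : GrpObj T)
      (i : T ⟶ Red.geomFibre s G), Red.IsMaximalTorus i ∧
      (∃ a : T ⟶ Red.geomFibre s P, a ≫ (Over.pullback (Red.geomPt s)).map p = i) ∧
      ∃ b : T ⟶ Red.geomFibre s Q, b ≫ (Over.pullback (Red.geomPt s)).map q = i)
    {l : L ⟶ P} [IsMonHom l] {m : L ⟶ Q} (hsq : IsPullback l m p q)
    (hj : IsOpenImmersion (((uU ≫ p) ⊗ₘ q) ≫ μ).left) : Par.IsLevi l := by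
  haveI := hP.1; haveI := hP.2.1; haveI := hP.2.2.1; haveI := hQ.1; haveI := hQ.2.1; haveI := hU.1
  haveI := hU.2.2.2.1; haveI := hG.1; haveI := hG.2.1
  haveI : Mono p := Over.mono_of_mono_left p
  haveI : Mono q := Over.mono_of_mono_left q
  haveI : IsAffineHom P.hom := by rw [← Over.w p]; infer_instance
  -- the fibres
  have hfib : ∀ s : S, IsIso ((Over.pullback (Red.geomPt s)).map ((uU ⊗ₘ l) ≫ μ)) ∧
      Red.IsReductiveOver (AlgebraicClosure (S.residueField s)) (Red.geomFibre s L) := fun s => by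
    let F := Over.pullback (Red.geomPt s)
    haveI : PreservesLimitsOfShape WalkingCospan F :=
      (Over.mapPullbackAdj (Red.geomPt s)).rightAdjoint_preservesLimits.preservesLimitsOfShape
    have hGs := DynPar.isReductive_bc (Red.geomPt s) hG
    obtain ⟨T, _, i, hi, ⟨a, ha⟩, b, hb⟩ := htori s
    haveI : IsAffineHom (Red.geomFibre s G).hom := hGs.1
    haveI : IsAffine (Red.geomFibre s G).left := (hG.2.2 s).1
    have hjs : IsOpenImmersion ((F.map (uU ≫ p) ⊗ₘ F.map q) ≫ μ).left :=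
      (isOpenImmersion_map_iff _ _ _).1 (MorphismProperty.overPullbackMap (P := @IsOpenImmersion) _ _ hj)
    obtain ⟨c, hc, hcP, hcQ⟩ := exists_opposite_field hGs (hG.2.2 s) (hP.2.2.2 s) (hQ.2.2.2 s) (F.map (uU ≫ p))
      (fun c _ hc => isU_radical hG p hP hU (Red.geomPt s) c hc) i hi a ha b hb hjs
    haveI := hc
    haveI : IsMonHom (F.map l) := inferInstance
    have hz := centralizer_of_pullback c hcP hcQ (hsq.map F)
    have hu := isU_radical hG p hP hU (Red.geomPt s) c hcP
    obtain ⟨d⟩ := exists_leviData hcP hu hz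
    haveI : IsClosedImmersion (F.map p).left := MorphismProperty.overPullbackMap (P := @IsClosedImmersion) _ p hP.2.1
    haveI : Mono (F.map p) := Over.mono_of_mono_left _
    have h1 : d.l = F.map l := by rw [← cancel_mono (F.map p), d.l_p]
    have h2 : d.iu = F.map uU := by rw [← cancel_mono (F.map p), d.iu_p, F.map_comp]
    haveI := d.l_hom; haveI := d.iu_hom
    have h3 : IsIso ((F.map uU ⊗ₘ F.map l) ≫ μ) := by
      rw [← h1, ← h2]; exact isIso_mul_swap d.l d.iu d.iso
    refine ⟨?_, (field_parabolic (hG.2.2 s) c _ _ hcP hz).2⟩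
    haveI := h3
    rw [map_mul_eq]
    infer_instance
  -- the cell of `P`
  haveI : Mono l := ⟨fun a b h => hsq.hom_ext h (by
    rw [← cancel_mono q, Category.assoc, Category.assoc, ← hsq.w, reassoc_of% h])⟩
  let τ := (uU ⊗ₘ l) ≫ μ
  let κ : U ⊗ L ⟶ U ⊗ Q := 𝟙 U ⊗ₘ m
  let jm := ((uU ≫ p) ⊗ₘ q) ≫ μ
  have hτ : ∀ {X : Over S} (x : X ⟶ U) (y : X ⟶ L), lift x y ≫ τ = (x ≫ uU) * (y ≫ l) := fun x y =>
    ParStd.lift_mul uU l x y
  have hjm : ∀ {X : Over S} (z : X ⟶ U ⊗ Q), z ≫ jm = ((z ≫ fst U Q) ≫ uU ≫ p) * ((z ≫ snd U Q) ≫ q) :=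
    fun z => by
    rw [← ParStd.lift_mul, show lift (z ≫ fst U Q) (z ≫ snd U Q) = z from
      CartesianMonoidalCategory.hom_ext _ _ (lift_fst _ _) (lift_snd _ _)]
  have hτz : ∀ {X : Over S} (z : X ⟶ U ⊗ L), z ≫ τ = ((z ≫ fst U L) ≫ uU) * ((z ≫ snd U L) ≫ l) := fun z => by
    rw [← hτ, show lift (z ≫ fst U L) (z ≫ snd U L) = z from
      CartesianMonoidalCategory.hom_ext _ _ (lift_fst _ _) (lift_snd _ _)]
  have hκ1 : κ ≫ fst U Q = fst U L := by simp [κ]
  have hκ2 : κ ≫ snd U Q = snd U L ≫ m := by simp [κ]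
  have hw : τ ≫ p = κ ≫ jm := by
    rw [hjm, hκ1, hκ2, ← Category.id_comp τ, hτz, MonObj.mul_comp]
    simp only [Category.id_comp, Category.assoc, hsq.w]
  have key : ∀ t : PullbackCone p jm, ∃ w : t.pt ⟶ L, w ≫ l = ((t.snd ≫ fst U Q) ≫ uU)⁻¹ * t.fst ∧
      w ≫ m = t.snd ≫ snd U Q := fun t => by
    refine ⟨hsq.lift _ _ ?_, IsPullback.lift_fst _ _ _ _, IsPullback.lift_snd _ _ _ _⟩
    rw [MonObj.mul_comp, GrpObj.inv_comp, t.condition, hjm, Category.assoc _ uU p, inv_mul_cancel_left]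
  have sq : IsPullback τ κ p jm := by
    refine ⟨⟨hw⟩, ⟨PullbackCone.IsLimit.mk _ (fun t => lift (t.snd ≫ fst U Q) (key t).choose) (fun t => ?_)
      (fun t => ?_) fun t w h1 h2 => ?_⟩⟩
    · rw [hτ, (key t).choose_spec.1, mul_inv_cancel_left]
    · refine CartesianMonoidalCategory.hom_ext _ _ ?_ ?_
      · rw [Category.assoc, hκ1, lift_fst]
      · rw [Category.assoc, hκ2, lift_snd_assoc, (key t).choose_spec.2]
    · refine CartesianMonoidalCategory.hom_ext _ _ ?_ ?_
      · rw [lift_fst, ← h2, Category.assoc, hκ1]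
      · rw [lift_snd]
        have hm' : (w ≫ snd U L) ≫ m = (key t).choose ≫ m := by
          rw [(key t).choose_spec.2, ← h2, Category.assoc, Category.assoc, hκ2]
        refine hsq.hom_ext ?_ hm'
        rw [← cancel_mono p, Category.assoc, Category.assoc ((key t).choose), hsq.w, ← Category.assoc, hm', Category.assoc]
  haveI : PreservesLimitsOfShape WalkingCospan (Over.forget S) := inferInstance
  haveI : IsOpenImmersion τ.left :=
    MorphismProperty.of_isPullback (P := @IsOpenImmersion) (sq.map (Over.forget S)).flip hj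
  haveI : Smooth (U ⊗ L).hom := by rw [← Over.w τ]; infer_instance
  haveI hiso : IsIso τ := ParNorm.isIso_of_geomPts τ fun s => (hfib s).1
  have hls : Smooth L.hom := smooth_of_retract (P := U ⊗ L) inferInstance (lift (1 : L ⟶ U) (𝟙 L)) (snd U L)
    (lift_snd _ _)
  haveI : IsClosedImmersion l.left :=
    MorphismProperty.of_isPullback (P := @IsClosedImmersion) (hsq.map (Over.forget S)).flip hQ.2.1
  have hla : IsAffineHom L.hom := by rw [← Over.w l]; infer_instance
  exact ⟨inferInstance, inferInstance, ⟨hla, hls, fun s => (hfib s).2⟩, U, inferInstance, uU, hU,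
    isIso_mul_swap uU l hiso⟩

/-- **An open cell makes the intersection a Levi subgroup.** -/
theorem isLevi_of_isOpenImmersion (hG : Red.IsReductive G) (p : P ⟶ G) (hP : Red.IsParabolic p) (q : Q ⟶ G)
    (hQ : Red.IsParabolic q) {uU : U ⟶ P} (hU : Par.IsUnipotentRadical uU)
    (h411 : ∀ (K : Type u) [Field K] [IsAlgClosed K] (H P₁ Q₁ : Over (Spec (CommRingCat.of K))) [GrpObj H] [GrpObj P₁] [GrpObj Q₁]
      (p₁ : P₁ ⟶ H) (q₁ : Q₁ ⟶ H), Red.IsReductive H → Red.IsParabolic p₁ → Red.IsParabolic q₁ →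
      ∃ (T : Over (Spec (CommRingCat.of K))) (_ : GrpObj T) (i : T ⟶ H), Red.IsMaximalTorus i ∧
        (∃ a : T ⟶ P₁, a ≫ p₁ = i) ∧ ∃ b : T ⟶ Q₁, b ≫ q₁ = i)
    {l : L ⟶ P} [IsMonHom l] {m : L ⟶ Q} (hsq : IsPullback l m p q)
    (hj : IsOpenImmersion (((uU ≫ p) ⊗ₘ q) ≫ μ).left) : Par.IsLevi l :=
  isLevi_of_isOpenImmersion_tori hG p hP q hQ hU (fun s => h411 _ _ _ _ _ _ (DynPar.isReductive_bc (Red.geomPt s) hG)
    (isParabolic_bc (Red.geomPt s) hG hP) (isParabolic_bc (Red.geomPt s) hG hQ)) hsq hj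

end Groth.Agent.ParStd
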