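import Groth.Agent.ParStd.CommonTorus
import Groth.Agent.ParStd.OpenCellMain
import Groth.Agent.RootSys.TwoBorel

/-!
# Borel subgroups in general position
-/

set_option autoImplicit false
set_option linter.style.haveILetI false
set_option linter.unusedSectionVars false
set_option backward.isDefEq.respectTransparency false
set_option backward.isDefEq.respectTransparency.types false
set_option maxHeartbeats 2000000
set_option synthInstance.maxHeartbeats 400000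

universe u

open CategoryTheory Limits MonoidalCategory CartesianMonoidalCategory MonObj AlgebraicGeometry LieS
open scoped CategoryTheory.Obj

noncomputable section

namespace Groth.Agent.ParStd

open Groth.Agent.HomDiag Groth.Agent.DynPar Groth.Agent.RootSys Groth.Agent.MTBridge
open Groth.Agent.DynPar.Der (dv)

variable {k : Type u} [Field k]

local notation "S₀" => Spec (CommRingCat.of k)

/-- A weight vector of weight killed by a regular functional has weight zero. -/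
theorem wt_eq_zero_of_regular {G : Over S₀} [GrpObj G] [IsAffine G.left] {M : Type} [AddCommGroup M]
    (j : Red.DS S₀ M ⟶ G) [IsMonHom j] {d : M} {v : Lie G k (fk k)} (hv : IsWt j v d) (hv1 : v ≠ 1)
    (nu : M →+ ℤ) (hreg : Regular j nu) (hd : nu d = 0) : d = 0 := by
  haveI : IsAffineHom G.hom := isAffineHom_of_isAffine _
  by_contra hd0
  have h1 : ((1 : Lie G k (fk k)).1 : pt (DualNumber k) (fd (fk k)) ⟶ G) = 1 := rfl
  have hrp : ∀ (a : Γ(G.left, ⊤)) (m : M), m ≠ 0 → m ≠ d →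
      rp (v.1 : pt (DualNumber k) (fd (fk k)) ⟶ G) (wc j a m) = 0 := fun a m hm hmd => by
    refine TrivSqZeroExt.ext ?_ ?_
    · rw [rp_vec_fst, rp_one_wc j a hm, TrivSqZeroExt.fst_zero]
    · rw [rp_vec_snd, hv a m hmd, TrivSqZeroExt.snd_zero]
  have hz := hreg _ _ _ ((mem_ZSub_iff j nu gens_univ).2 fun a _ m hm =>
    hrp a m (fun e => hm (by rw [e, map_zero])) (fun e => hm (e ▸ hd)))
  have hz' : (v.1 : pt (DualNumber k) (fd (fk k)) ⟶ G) ∈
      ZSub (fd (fk k)) (Red.DSmap S₀ (AddMonoidHom.id M) ≫ j) := by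
    rwa [DSmap_id, Category.id_comp]
  refine hv1 (Der.dv_injective (funext fun z => ?_))
  rw [Der.dv_one]
  conv_lhs => rw [← sum_wc j z]
  rw [dv_sum]
  refine Finset.sum_eq_zero fun m _ => ?_
  by_cases hm : m = d
  · subst hm
    rw [← rp_vec_snd, (mem_ZSub_iff j (AddMonoidHom.id M) gens_univ).1 hz' z (Set.mem_univ z) m hd0,
      TrivSqZeroExt.snd_zero]
  · exact hv z m hm

variable [IsAlgClosed k]

/-- **Two Borel subgroups whose unipotent radicals meet trivially are opposite.** -/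
theorem exists_opposite_borels {G B B' U U' : Over S₀} [GrpObj G] [GrpObj B] [GrpObj B'] [GrpObj U] [GrpObj U']
    (hG : Red.IsReductive G) (hred : Red.IsReductiveOver k G) (b : B ⟶ G) (hB : Red.IsBorelOver k b) (b' : B' ⟶ G)
    (hB' : Red.IsBorelOver k b') (u : U ⟶ G)
    (hu : ∀ c : Red.DS S₀ ℤ ⟶ G, IsMonHom c → IsP c b → IsU c u) (u' : U' ⟶ G)
    (hu' : ∀ c : Red.DS S₀ ℤ ⟶ G, IsMonHom c → IsP c b' → IsU c u')
    (htriv : ∀ (x : pt (DualNumber k) (fd (fk k)) ⟶ U) (y : pt (DualNumber k) (fd (fk k)) ⟶ U'),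
      x ≫ u = y ≫ u' → zeroSec k (fk k) ≫ x ≫ u = 1 → x ≫ u = 1) :
    ∃ c : Red.DS S₀ ℤ ⟶ G, IsMonHom c ∧ IsP c b ∧ IsP (negD c) b' ∧
      ∃ (T : Over S₀) (_ : GrpObj T) (i : T ⟶ G), Red.IsMaximalTorus i ∧ Red.IsCentralizerOf c i ∧
        (∃ t : T ⟶ B, t ≫ b = i) ∧ ∃ t : T ⟶ B', t ≫ b' = i := by
  classical
  haveI := hred.1; haveI := hred.2.1; haveI := hred.2.2.1
  haveI : IsAffineHom G.hom := isAffineHom_of_isAffine _
  haveI := hB.1; haveI := hB.2.1; haveI := hB'.1; haveI := hB'.2.1; haveI := hB'.2.2.1; haveI := hB'.2.2.2.1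
  haveI : Mono b' := Over.mono_of_mono_left b'
  obtain ⟨T, _, i, hi, ⟨t, ht⟩, t', ht'⟩ := exists_torus_borels hred b hB b' hB'
  obtain ⟨r, ⟨E⟩⟩ := Chev.Borel.split_of_isTorus hi.2.2.1
  have hjR : Red.IsMaximalTorus (E.inv.hom.hom ≫ i) :=
    RootBase.isMaximalTorus_DS (Chev.Borel.isMaximalTorus_of_isMaxTorus _ hi) E
  have hj := Chev.Borel.isMaxTorus_of_isMaximalTorus _ hjR
  have htj : (E.inv.hom.hom ≫ t) ≫ b = E.inv.hom.hom ≫ i := by rw [Category.assoc, ht]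
  have htj' : (E.inv.hom.hom ≫ t') ≫ b' = E.inv.hom.hom ≫ i := by rw [Category.assoc, ht']
  obtain ⟨nu, hnu, P, _, p, e, hp, he⟩ := BorelConj.exists_cochar_regular hred _ hj b hB _ htj
  obtain ⟨mu, hmu, P', _, p', e', hp', he'⟩ := BorelConj.exists_cochar_regular hred _ hj b' hB' _ htj'
  haveI := hj.1; haveI := hj.2.1
  have hcong : ∀ {P B : Over S₀} [GrpObj P] [GrpObj B] {p : P ⟶ G} {q : B ⟶ G} [IsMonHom q] [IsClosedImmersion q.left]
      {c : Red.DS S₀ ℤ ⟶ G} (e : P ≅ B), IsP c p → e.hom ≫ q = p → IsP c q := fun e hp he =>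
    ⟨inferInstance, inferInstance, fun X g => ⟨fun ⟨z, hz⟩ => (hp.2.2 X g).1
      ⟨z ≫ e.inv, by rw [Category.assoc, ← he, Iso.inv_hom_id_assoc, hz]⟩, fun hg => by
      obtain ⟨z, hz⟩ := (hp.2.2 X g).2 hg
      exact ⟨z ≫ e.hom, by rw [Category.assoc, he, hz]⟩⟩⟩
  have hb : IsP (Red.DSmap S₀ nu ≫ E.inv.hom.hom ≫ i) b := hcong e hp he
  have hb' : IsP (Red.DSmap S₀ mu ≫ E.inv.hom.hom ≫ i) b' := hcong e' hp' he'
  haveI : IsMonHom (Red.DSmap S₀ nu ≫ E.inv.hom.hom ≫ i) :=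
    isMonHom_comp' (Red.DSmap S₀ nu) (E.inv.hom.hom ≫ i)
  haveI : IsMonHom (Red.DSmap S₀ mu ≫ E.inv.hom.hom ≫ i) :=
    isMonHom_comp' (Red.DSmap S₀ mu) (E.inv.hom.hom ≫ i)
  have hUb := hu _ inferInstance hb
  have hUb' := hu' _ inferInstance hb'
  generalize hjdef : E.inv.hom.hom ≫ i = j at *
  obtain ⟨_, Dt, -, hDroot, -, -, -⟩ := RootBase.exists_datum hG j hjR
  -- no root is positive for both functionals
  have hpos : ∀ d (v : Lie G k (fk k)), IsWt j v d → v ≠ 1 → 0 < nu d → mu d ≤ 0 := fun d v hv hv1 hd => by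
    by_contra hmd
    obtain ⟨x, hx⟩ := hUb.exists_fac_iff.2 (wt_mem_USub j hv nu hd)
    obtain ⟨y, hy⟩ := hUb'.exists_fac_iff.2 (wt_mem_USub j hv mu (not_le.1 hmd))
    have hz : zeroSec k (fk k) ≫ x ≫ u = 1 := (congrArg (zeroSec k (fk k) ≫ ·) hx).trans ((mem_Lie_iff G k (fk k) _).1 v.2)
    exact hv1 (Subtype.ext ((hx.symm.trans (htriv x y (hx.trans hy.symm) hz)).trans rfl))
  have hneg : ∀ d (v : Lie G k (fk k)), IsWt j v d → v ≠ 1 → d ≠ 0 →
      ∃ w, IsWt j w (-d) ∧ w ≠ 1 := fun d v hv hv1 hd0 => by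
    let al : RootBase.Roots j := ⟨d, hd0, v, hv, hv1⟩
    have hopp : (Dt.reflectionPerm al al).1 = -d := by
      rw [← hDroot, Dt.root_reflectionPerm, Dt.reflection_apply_self, hDroot]
    obtain ⟨-, w, hw, hw1⟩ := (Dt.reflectionPerm al al).2
    rw [hopp] at hw
    exact ⟨w, hw, hw1⟩
  have key : ∀ d (v : Lie G k (fk k)), IsWt j v d → v ≠ 1 → (0 ≤ mu d ↔ nu d ≤ 0) := fun d v hv hv1 => by
    by_cases hd0 : d = 0
    · simp [hd0]
    have hn : nu d ≠ 0 := fun e => hd0 (wt_eq_zero_of_regular j hv hv1 nu hnu e)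
    have hm : mu d ≠ 0 := fun e => hd0 (wt_eq_zero_of_regular j hv hv1 mu hmu e)
    obtain ⟨w, hw, hw1⟩ := hneg d v hv hv1 hd0
    refine ⟨fun h => ?_, fun h => ?_⟩
    · by_contra h'
      exact hm (le_antisymm (hpos d v hv hv1 (not_le.1 h')) h)
    · have := hpos _ w hw hw1 (by rw [map_neg]; exact neg_pos.2 (lt_of_le_of_ne h hn))
      rwa [map_neg, neg_nonpos] at this
  have hc : negD (Red.DSmap S₀ nu ≫ j) = Red.DSmap S₀ (-nu) ≫ j := by
    rw [negD, ← Category.assoc, RootIntrinsic.DSmap_comp_apply]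
    congr 2
  refine ⟨Red.DSmap S₀ nu ≫ j, inferInstance, hb, ?_, _, inferInstance, j, hjR, ?_, ⟨_, htj⟩, _, htj'⟩
  · rw [hc]
    refine ⟨inferInstance, inferInstance, fun X g => ⟨?_, fun hg => le_of_wt_nonneg htj' (-nu) ?_ g hg⟩⟩
    · rintro ⟨z, rfl⟩ B _ f y
      rw [← Category.assoc]
      refine mem_PSub_of_wts htj' (-nu) (fun d v hv hv1 hvR => ?_) _
      obtain ⟨x, hx⟩ := hvR
      have := wt_nonneg_of_mem_PSub hv hv1 mu (hb'.exists_fac_iff.1 ⟨x.1, congrArg Subtype.val hx⟩)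
      rw [AddMonoidHom.neg_apply, neg_nonneg]
      exact (key d v hv hv1).1 this
    · intro d v hv hd
      rw [AddMonoidHom.neg_apply, neg_nonneg] at hd
      by_cases hv1 : v = 1
      · rw [hv1]; exact Subgroup.one_mem _
      exact mem_range_of_fac b' (hb'.exists_fac_iff.2 (IsWt.mem_PSub (Γ' := ℤ) j hv mu ((key d v hv hv1).2 hd)))
  · have hself := exists_isCentralizerOf_self hred j hj
    refine ⟨inferInstance, inferInstance, fun X g => ⟨fun ⟨x, hx⟩ X' a h => ?_, fun hc' => ?_⟩⟩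
    · have := (hself.2.2 X g).1 ⟨x, hx⟩ X' a (h ≫ Red.DSmap S₀ nu)
      rwa [Category.assoc] at this
    · exact (hself.2.2 X g).2 ((inF_ZFam_iff (c := j) g).1 fun B _ f y =>
        hnu B f _ ((inF_ZFam_iff (c := Red.DSmap S₀ nu ≫ j) g).2 hc' B f y))

/-- **A maximal torus of a Borel subgroup meets its unipotent radical trivially.** -/
theorem eq_one_of_torus_radical {G B U T : Over S₀} [GrpObj G] [GrpObj B] [GrpObj U] [GrpObj T]
    (hred : Red.IsReductiveOver k G) (b : B ⟶ G) (hB : Red.IsBorelOver k b) (u : U ⟶ G)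
    (hu : ∀ c : Red.DS S₀ ℤ ⟶ G, IsMonHom c → IsP c b → IsU c u) (i : T ⟶ G) (hT : Red.IsMaximalTorus i)
    (t : T ⟶ B) (ht : t ≫ b = i) {A : Type u} [CommRing A] {f : Spec (CommRingCat.of A) ⟶ S₀}
    (x : pt A f ⟶ U) (z : pt A f ⟶ T) (h : x ≫ u = z ≫ i) : x ≫ u = 1 := by
  classical
  haveI := hred.1; haveI := hred.2.1; haveI := hred.2.2.1
  haveI : IsAffineHom G.hom := isAffineHom_of_isAffine _
  haveI := hB.1; haveI := hB.2.1
  obtain ⟨r, ⟨E⟩⟩ := Chev.Borel.split_of_isTorus hT.2.2.1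
  have hjR : Red.IsMaximalTorus (E.inv.hom.hom ≫ i) := RootBase.isMaximalTorus_DS hT E
  have hj := Chev.Borel.isMaxTorus_of_isMaximalTorus _ hjR
  have htj : (E.inv.hom.hom ≫ t) ≫ b = E.inv.hom.hom ≫ i := by rw [Category.assoc, ht]
  obtain ⟨nu, -, P, _, p, e, hp, he⟩ := BorelConj.exists_cochar_regular hred _ hj b hB _ htj
  haveI := hj.1
  haveI : IsMonHom (Red.DSmap S₀ nu ≫ E.inv.hom.hom ≫ i) :=
    isMonHom_comp' (Red.DSmap S₀ nu) (E.inv.hom.hom ≫ i)
  have hb : IsP (Red.DSmap S₀ nu ≫ E.inv.hom.hom ≫ i) b :=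
    ⟨inferInstance, inferInstance, fun X g => ⟨fun ⟨w, hw⟩ => (hp.2.2 X g).1
      ⟨w ≫ e.inv, by rw [Category.assoc, ← he, Iso.inv_hom_id_assoc, hw]⟩, fun hg => by
      obtain ⟨w, hw⟩ := (hp.2.2 X g).2 hg
      exact ⟨w ≫ e.hom, by rw [Category.assoc, he, hw]⟩⟩⟩
  have h2 := (hu _ inferInstance hb).exists_fac_iff.1 ⟨x, rfl⟩
  have h3 : x ≫ u ∈ ZSub f (Red.DSmap S₀ nu ≫ E.inv.hom.hom ≫ i) := by
    have hz : z ≫ i = (z ≫ E.hom.hom.hom) ≫ E.inv.hom.hom ≫ i := by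
      have he' : E.hom.hom.hom ≫ E.inv.hom.hom = 𝟙 _ := congrArg (fun g => g.hom.hom) E.hom_inv_id
      rw [Category.assoc, reassoc_of% he']
    rw [h, hz]
    exact RootSys.comp_mem_ZSub _ nu _
  generalize E.inv.hom.hom ≫ i = j at *
  haveI := hj.1
  obtain ⟨hP, h0⟩ := (DynPar.mem_USub_iff j nu gens_univ).1 h2
  refine rp_ext (RingHom.ext fun a => ?_)
  rw [← sum_wc j a, map_sum, map_sum]
  refine Finset.sum_congr rfl fun m _ => ?_
  by_cases hm : nu m = 0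
  · exact h0 a (Set.mem_univ a) m hm
  · rw [(DynPar.mem_ZSub_iff j nu gens_univ).1 h3 a (Set.mem_univ a) m hm, rp_one_wc j a fun e => hm (by rw [e, map_zero])]

end Groth.Agent.ParStd
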