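import Groth.Agent.ParStd.LeviTorus
import Groth.Agent.Torsor.Descent

/-!
# Charts of a Levi subgroup: étale locally the centraliser of a central cocharacter
-/

set_option autoImplicit false
set_option linter.style.haveILetI false
set_option backward.isDefEq.respectTransparency false
set_option backward.isDefEq.respectTransparency.types false
set_option maxHeartbeats 2000000
set_option synthInstance.maxHeartbeats 400000

universe u

open CategoryTheory Limits MonoidalCategory CartesianMonoidalCategory MonObj AlgebraicGeometry LieS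
open scoped CategoryTheory.Obj

noncomputable section

namespace Groth.Agent.ParStd

open Groth.Agent.HomDiag Groth.Agent.DynPar Groth.Agent.MTBridge Groth.Agent.Chev

variable {S : Scheme.{u}}

/-- The hypothesis on the fibres of a unipotent group passes to a change of base. -/
theorem fibre_hyp_bc {U : Over S} [GrpObj U] {S' : Scheme.{u}} (f : S' ⟶ S) [Etale f]
    (h : ∀ s : S, ConnectedSpace (Red.geomFibre s U).left ∧
      Red.HasNoSubtorus (AlgebraicClosure (S.residueField s)) (Red.geomFibre s U)) (v : S') :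
    ConnectedSpace (Red.geomFibre v (Red.bc f U)).left ∧
      Red.HasNoSubtorus (AlgebraicClosure (S'.residueField v)) (Red.geomFibre v (Red.bc f U)) := by
  obtain ⟨φ, hφ, hφv⟩ := HenselChart.exists_lift_at f (Red.geomPt (f v)) (x := v)
    (MTImage.geomPt_closedPoint _).symm
  obtain ⟨τ', hτ'⟩ := MTImage.exists_lift_geomPt φ
  obtain ⟨τ, hτ⟩ : ∃ τ : Spec (CommRingCat.of (AlgebraicClosure (S.residueField (f v)))) ⟶
      Spec (CommRingCat.of (AlgebraicClosure (S'.residueField v))), τ ≫ Red.geomPt v = φ := by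
    have key : ∀ (w : S'), φ (IsLocalRing.closedPoint (AlgebraicClosure (S.residueField (f v)))) = w →
        ∃ τ : Spec (CommRingCat.of (AlgebraicClosure (S.residueField (f v)))) ⟶
          Spec (CommRingCat.of (AlgebraicClosure (S'.residueField w))), τ ≫ Red.geomPt w = φ := by
      rintro _ rfl
      exact ⟨τ', hτ'⟩
    exact key v hφv
  obtain ⟨e₁, -, h₁⟩ := MaxTorusBC.exists_trIso hτ (Red.bc f U)
  obtain ⟨e₂, -, h₂⟩ := MaxTorusBC.exists_trIso hφ U
  haveI : IsMonHom e₁.hom := h₁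
  haveI : IsMonHom e₂.hom := h₂
  let W := Red.geomFibre v (Red.bc f U)
  let e : Red.geomFibre (f v) U ≅ Red.bc τ W := e₂ ≪≫ e₁
  haveI : IsMonHom e.hom := inferInstanceAs (IsMonHom (e₂.hom ≫ e₁.hom))
  obtain ⟨hc, hn⟩ := h (f v)
  haveI : IsIso e.hom.left := inferInstanceAs (IsIso ((Over.forget _).map e.hom))
  haveI := hc
  haveI : ConnectedSpace (Red.bc τ W).left := e.hom.left.surjective.connectedSpace e.hom.left.continuous
  haveI : Surjective τ := inferInstance
  haveI : Surjective (pullback.fst W.hom τ) := MorphismProperty.pullback_fst _ _ inferInstance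
  haveI : ConnectedSpace ↥(pullback W.hom τ) := inferInstanceAs (ConnectedSpace (Red.bc τ W).left)
  refine ⟨(pullback.fst W.hom τ).surjective.connectedSpace (pullback.fst W.hom τ).continuous, fun T _ j _ _ hT => ?_⟩
  haveI : PreservesLimitsOfShape WalkingCospan (Over.pullback τ) :=
    (Over.mapPullbackAdj τ).rightAdjoint_preservesLimits.preservesLimitsOfShape
  haveI : IsMonHom ((Over.pullback τ).map j) := inferInstance
  have hi : IsIso (Red.bc τ T).hom :=
    hasNoSubtorus_of_iso e hn (Red.bc τ T) ((Over.pullback τ).map j) (Borel.isTorus_bc_scheme T τ hT)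
  let q : T ⟶ Over.mk (𝟙 _) := Over.homMk T.hom (Category.comp_id _)
  haveI : IsIso ((Over.pullback τ).map q) := by
    haveI : IsIso ((Over.forget _).map ((Over.pullback τ).map q)) := by
      have h1 : ((Over.pullback τ).map q).left ≫ pullback.snd _ τ = (Red.bc τ T).hom := Over.w _
      haveI : IsIso (pullback.snd (Over.mk (𝟙 (Spec (CommRingCat.of _)))).hom τ) := inferInstanceAs (IsIso (pullback.snd (𝟙 _) τ))
      haveI : IsIso (((Over.pullback τ).map q).left ≫ pullback.snd _ τ) := by rw [h1]; exact hi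
      exact IsIso.of_isIso_comp_right ((Over.pullback τ).map q).left (pullback.snd _ τ)
    exact isIso_of_reflects_iso _ (Over.forget _)
  haveI : IsIso q := Torsor.isIso_of_pullback τ q
  exact inferInstanceAs (IsIso ((Over.forget _).map q))

/-- The kernel condition of a retraction after a change of base. -/
theorem ker_bc {S' : Scheme.{u}} (f : S' ⟶ S) {P L U : Over S} [GrpObj P] [GrpObj L] (u : U ⟶ P) (r : P ⟶ L)
    (hker : ∀ (X : Over S) (x : X ⟶ P), x ≫ r = 1 → ∃ y, y ≫ u = x) (X : Over S') (x : X ⟶ Red.bc f P)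
    (hx : x ≫ (Over.pullback f).map r = 1) : ∃ y, y ≫ (Over.pullback f).map u = x := by
  rw [exists_fac_bc_iff]
  refine hker _ _ ?_
  have h := congrArg (DynPar.fromB f) hx
  rw [show DynPar.fromB f (x ≫ (Over.pullback f).map r) = DynPar.fromB f x ≫ r from
    (Over.mapPullbackAdj f).homEquiv_naturality_right_symm x r] at h
  rw [h]
  exact ((Over.mapPullbackAdj f).homEquiv X L).symm_apply_eq.2
    (map_one (MonoidHom.mk' (fun a : (Over.map f).obj X ⟶ L => MTBridge.toBC f a) (MTBridge.toBC_mul f))).symm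

/-- A split maximal torus at a point of an étale neighbourhood. -/
theorem exists_split_torus {L : Over S} [GrpObj L] (hL : Red.IsReductive L) (s : S) :
    ∃ (S' : Scheme.{u}) (f : S' ⟶ S), Etale f ∧ s ∈ Set.range f.base ∧ ∃ (T : Over S') (_ : GrpObj T)
      (i : T ⟶ Red.bc f L) (r : ℕ), Red.IsMaximalTorus i ∧ Red.IsSplitTorusWith (Fin r → ℤ) T := by
  haveI := hL.1; haveI := hL.2.1
  obtain ⟨A, _, u, hu, ⟨a, rfl⟩, -, B, _, v, hv, hvs, T, _, i, hi, r, hr⟩ :=
    Groth.Agent.S3002.result S L (RedCartan.isConnected_fibre_of_isReductive hL) s (hL.2.2 s)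
  haveI := hu; haveI := hv; haveI := hvs
  obtain ⟨b, hb⟩ := v.surjective a
  exact ⟨_, v ≫ u, inferInstance, ⟨b, by rw [Scheme.Hom.comp_base, TopCat.comp_app, hb]⟩, T, inferInstance, i, r, hi, hr⟩

/-- **Levi subgroups are stable under étale changes of base.** -/
theorem isLevi_bc {G P L : Over S} [GrpObj G] [GrpObj P] [GrpObj L] (hG : Red.IsReductive G) (p : P ⟶ G)
    (hP : Red.IsParabolic p) {l : L ⟶ P} (hl : Par.IsLevi l) {S' : Scheme.{u}} (f : S' ⟶ S) [Etale f]
    (hP' : Red.IsParabolic ((Over.pullback f).map p)) :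
    Par.IsLevi ((Over.pullback f).map l) := by
  haveI := hl.1; haveI := hl.2.1; haveI := hP.1; haveI := hP.2.1; haveI := hG.1
  haveI := hl.2.2.1.1; haveI := hl.2.2.1.2.1
  haveI : Mono p := Over.mono_of_mono_left p
  haveI : IsAffineHom P.hom := by rw [← Over.w p]; infer_instance
  haveI : PreservesLimitsOfShape WalkingCospan (Over.pullback f) :=
    (Over.mapPullbackAdj f).rightAdjoint_preservesLimits.preservesLimitsOfShape
  obtain ⟨U, _, u, r, hu, hr, hlr, -, hker⟩ := exists_retraction hl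
  haveI := hr; haveI := hu.1; haveI := hu.2.1; haveI := hu.2.2.2.1
  haveI : Mono u := Over.mono_of_mono_left u
  haveI : IsAffineHom U.hom := by rw [← Over.w u]; infer_instance
  let F := Over.pullback f
  have hGf := DynPar.isReductive_bc f hG
  have hLf := DynPar.isReductive_bc f hl.2.2.1
  have hfib := fibre_hyp_bc f hu.2.2.2.2.2.1
  haveI : IsClosedImmersion (F.map u).left := MorphismProperty.overPullbackMap (P := @IsClosedImmersion) f u hu.2.1
  haveI : Smooth (F.obj U).hom := inferInstanceAs (Smooth (pullback.snd U.hom f))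
  haveI : IsAffineHom (F.obj L).hom := MorphismProperty.pullback_snd (P := @IsAffineHom) _ f inferInstance
  haveI : Smooth (F.obj L).hom := inferInstanceAs (Smooth (pullback.snd L.hom f))
  haveI : IsAffineHom (F.obj U).hom := MorphismProperty.pullback_snd (P := @IsAffineHom) _ f inferInstance
  have hlr' : F.map l ≫ F.map r = 𝟙 _ := by rw [← F.map_comp, hlr, CategoryTheory.Functor.map_id]
  -- an atlas of the base change from maximal tori of `L`
  have hch : ∀ v : S', ∃ (S'' : Scheme.{u}) (g : S'' ⟶ S'), Etale g ∧ v ∈ Set.range g.base ∧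
      ∃ c : Red.DS S'' ℤ ⟶ Red.bc g (F.obj P), IsMonHom c ∧
        IsP (c ≫ (Over.pullback g).map (F.map p)) ((Over.pullback g).map (F.map p)) := by
    intro v
    obtain ⟨S₁, g, hg, ⟨v₁, hv₁⟩, T, _, i, rk, hi, hsp⟩ := exists_split_torus hLf v
    haveI := hg; haveI := hi.1
    have hG₁ := DynPar.isReductive_bc g hGf
    have hP₁ := isParabolic_bc g hGf hP'
    let F₁ := Over.pullback g
    haveI : PreservesLimitsOfShape WalkingCospan F₁ :=
      (Over.mapPullbackAdj g).rightAdjoint_preservesLimits.preservesLimitsOfShape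
    haveI : IsClosedImmersion (F₁.map (F.map u)).left :=
      MorphismProperty.overPullbackMap (P := @IsClosedImmersion) g _ inferInstance
    haveI : Smooth (F₁.obj (F.obj U)).hom := inferInstanceAs (Smooth (pullback.snd _ g))
    haveI : IsAffineHom (F₁.obj (F.obj L)).hom := MorphismProperty.pullback_snd (P := @IsAffineHom) _ g inferInstance
    haveI : Smooth (F₁.obj (F.obj L)).hom := inferInstanceAs (Smooth (pullback.snd _ g))
    have hT := isMaximalTorus_of_retraction hG₁ _ hP₁ (F₁.map (F.map l)) (F₁.map (F.map u)) (F₁.map (F.map r))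
      (by rw [← F₁.map_comp, hlr', CategoryTheory.Functor.map_id])
      (ker_bc g _ _ (ker_bc f u r hker)) (fibre_hyp_bc g hfib) i hi
    haveI : IsMonHom (i ≫ F₁.map (F.map l)) := inferInstance
    obtain ⟨S₂, g₂, hg₂, ⟨v₂, hv₂⟩, c, hc, hcP⟩ :=
      exists_chart hG₁ (F₁.map (F.map p)) hP₁ (i ≫ F₁.map (F.map l)) (by rw [Category.assoc]; exact hT) v₁
    haveI := hg₂; haveI := hc
    obtain ⟨eP, heP, hP₂⟩ := MaxTorusBC.exists_trIso (rfl : g₂ ≫ g = _) (F.obj P)
    obtain ⟨eG, heG, hG₂⟩ := MaxTorusBC.exists_trIso (rfl : g₂ ≫ g = _) (F.obj G)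
    haveI : IsMonHom eP.hom := hP₂
    haveI : IsMonHom eG.hom := hG₂
    haveI : IsMonHom eP.symm.hom := inferInstanceAs (IsMonHom eP.inv)
    haveI : IsMonHom eG.symm.hom := inferInstanceAs (IsMonHom eG.inv)
    haveI : IsMonHom (c ≫ (Over.pullback g₂).map (i ≫ F₁.map (F.map l))) :=
      isMonHom_comp' c ((Over.pullback g₂).map (i ≫ F₁.map (F.map l)))
    haveI : IsMonHom (F₁.map (F.map p)) := inferInstance
    refine ⟨S₂, g₂ ≫ g, inferInstance, ⟨v₂, by rw [Scheme.Hom.comp_base, TopCat.comp_app, hv₂, hv₁]⟩,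
      (c ≫ (Over.pullback g₂).map (i ≫ F₁.map (F.map l))) ≫ eP.symm.hom,
      isMonHom_comp' (c ≫ (Over.pullback g₂).map (i ≫ F₁.map (F.map l))) eP.symm.hom, ?_⟩
    have hn : (Over.pullback g₂).map (F₁.map (F.map p)) ≫ eG.inv = eP.inv ≫ (Over.pullback (g₂ ≫ g)).map (F.map p) := by
      rw [Iso.eq_inv_comp, ← Category.assoc, Iso.comp_inv_eq, heP, heG, MTImage.trIso_natural]
    refine isP_transport hcP eG.symm eP ?_ ?_
    · simp only [Iso.symm_hom, Functor.map_comp, Category.assoc, hn]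
    · show eP.hom ≫ (Over.pullback g₂).map (F₁.map (F.map p)) ≫ eG.inv = _
      rw [hn, Iso.hom_inv_id_assoc]
  choose S₂ g₂ hg₂ hvr c hc hcP using hch
  haveI : ∀ v, IsMonHom (c v) := hc
  haveI := hP'.1; haveI := hP'.2.1
  obtain ⟨R, _, ρ, hρ, -⟩ := exists_radical_of_atlas (Q := S₂) (f := g₂) hGf (F.map p) hP'
    (c := fun v => c v ≫ (Over.pullback (g₂ v)).map (F.map p))
    ⟨hg₂, fun v => ⟨v, hvr v⟩, fun v => isMonHom_comp' (c v) ((Over.pullback (g₂ v)).map (F.map p)), hcP⟩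
  haveI := hρ.1; haveI := hρ.2.1; haveI := hρ.2.2.2.1
  haveI : IsAffineHom (F.obj P).hom := MorphismProperty.pullback_snd (P := @IsAffineHom) _ f inferInstance
  haveI : IsAffineHom R.hom := by rw [← Over.w ρ]; infer_instance
  obtain ⟨a, ha⟩ := hρ.2.2.2.2.2.2 (F.obj U) (F.map u) inferInstance (SubGen.isNormalHom_pullback f P u hu.2.2.1)
    inferInstance inferInstance hfib
  haveI : IsMonHom (F.map r) := inferInstance
  haveI : IsIso a := by
    refine ParNorm.isIso_of_geomPts a fun v => ?_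
    let ψ := Red.geomPt v
    let Fv := Over.pullback ψ
    haveI : PreservesLimitsOfShape WalkingCospan Fv :=
      (Over.mapPullbackAdj ψ).rightAdjoint_preservesLimits.preservesLimitsOfShape
    obtain ⟨hRc, hRn⟩ := hρ.2.2.2.2.2.1 v
    haveI := hRc
    haveI : Smooth (Fv.obj R).hom := inferInstanceAs (Smooth (pullback.snd R.hom ψ))
    haveI : IsAffineHom (Fv.obj R).hom := MorphismProperty.pullback_snd (P := @IsAffineHom) _ ψ inferInstance
    haveI : IsAffine (Fv.obj R).left := isAffine_of_isAffineHom (Fv.obj R).hom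
    have h1 := eq_one_of_retract (hLf.2.2 v) (Fv.map (F.map l)) (Fv.map (F.map r))
      (by rw [← Fv.map_comp, hlr', CategoryTheory.Functor.map_id]) (Fv.map ρ)
      (SubGen.isNormalHom_pullback ψ _ ρ hρ.2.2.1) hRn
    obtain ⟨b, hb⟩ := ker_bc ψ _ _ (ker_bc f u r hker) _ _ h1
    haveI : Mono (F.map u) := Over.mono_of_mono_left _
    haveI : Mono ρ := Over.mono_of_mono_left ρ
    exact ⟨b, by rw [← cancel_mono (Fv.map (F.map u)), Category.assoc, hb, ← Fv.map_comp, ha, Category.id_comp],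
      by rw [← cancel_mono (Fv.map ρ), Category.assoc, ← Fv.map_comp, ha, hb, Category.id_comp]⟩
  haveI := isIso_levi_mul hl hu
  have hm : IsIso ((F.map l ⊗ₘ F.map u) ≫ μ) := by
    have h := map_mul_eq f l u
    haveI : IsIso (CartesianMonoidalCategory.prodComparison F L U ≫ ((F.map l ⊗ₘ F.map u) ≫ μ)) := by
      rw [← h]; infer_instance
    exact IsIso.of_isIso_comp_left (CartesianMonoidalCategory.prodComparison F L U) _
  refine ⟨inferInstance, inferInstance, hLf, R, inferInstance, ρ, hρ, ?_⟩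
  haveI := hm
  rw [show (F.map l ⊗ₘ ρ) = (𝟙 _ ⊗ₘ inv a) ≫ (F.map l ⊗ₘ F.map u) by
    rw [MonoidalCategory.tensorHom_comp_tensorHom, Category.id_comp, ← ha, IsIso.inv_hom_id_assoc], Category.assoc]
  infer_instance

/-- The chart, given a split maximal torus of the Levi subgroup. -/
theorem exists_levi_chart_of_torus {G P L T : Over S} [GrpObj G] [GrpObj P] [GrpObj L] [GrpObj T]
    (hG : Red.IsReductive G) (p : P ⟶ G) (hP : Red.IsParabolic p) {l : L ⟶ P} (hl : Par.IsLevi l) (t : T ⟶ L)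
    (hT : Red.IsMaximalTorus (t ≫ l ≫ p)) [IsMonHom t] {r : ℕ} (hsp : Red.IsSplitTorusWith (Fin r → ℤ) T) (s : S) :
    ∃ (V : S.Opens), s ∈ V ∧ ∃ c : Red.DS (V : Scheme.{u}) ℤ ⟶ Red.bc V.ι L, IsMonHom c ∧
      IsP (c ≫ (Over.pullback V.ι).map (l ≫ p)) ((Over.pullback V.ι).map p) ∧
      Red.IsCentralizerOf (c ≫ (Over.pullback V.ι).map (l ≫ p)) ((Over.pullback V.ι).map (l ≫ p)) := by
  obtain ⟨E⟩ := hsp
  haveI := hl.1; haveI := hl.2.1; haveI := hP.1; haveI := hP.2.1; haveI := hG.1; haveI := hG.2.1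
  haveI : Mono p := Over.mono_of_mono_left p
  let D : Red.DS S (Fin r → ℤ) ⟶ T := E.inv.hom.hom
  haveI : IsMonHom D := E.inv.hom.isMonHom_hom
  obtain ⟨V, hV, lam, hVP⟩ := exists_nhd_isP hG (D ≫ t ≫ l ≫ p) (RootBase.isMaximalTorus_DS hT E) p hP
    (D ≫ t ≫ l) (by simp only [Category.assoc]) s
  let F := Over.pullback V.ι
  haveI : PreservesLimitsOfShape WalkingCospan F :=
    (Over.mapPullbackAdj V.ι).rightAdjoint_preservesLimits.preservesLimitsOfShape
  haveI : IsMonHom (bcHom' V.ι (D ≫ t)) := isMonHom_bcHom' V.ι (D ≫ t)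
  let c : Red.DS (V : Scheme.{u}) ℤ ⟶ F.obj L := Red.DSmap (V : Scheme.{u}) lam ≫ bcHom' V.ι (D ≫ t)
  haveI hcm : IsMonHom c := isMonHom_comp' (Red.DSmap (V : Scheme.{u}) lam) (bcHom' V.ι (D ≫ t))
  have hc : Red.DSmap (V : Scheme.{u}) lam ≫ bcHom' V.ι (D ≫ t ≫ l ≫ p) = c ≫ F.map (l ≫ p) := by
    simp only [c, bcHom', Category.assoc, F, ← Functor.map_comp]
  rw [hc] at hVP
  haveI : IsMonHom (c ≫ F.map (l ≫ p)) := isMonHom_comp' c (F.map (l ≫ p))
  have hGV := DynPar.isReductive_bc V.ι hG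
  have hLV : Par.IsLevi (F.map l) := isLevi_bc hG p hP hl V.ι (isParabolic_bc V.ι hG hP)
  haveI := hGV.1; haveI := hGV.2.1
  obtain ⟨Z, _, z, hz, -, -⟩ := exists_centralizer_DS hGV.2.1 hGV.1 (c ≫ F.map (l ≫ p))
  obtain ⟨-, zP, hzP, hZlevi⟩ := isParabolic_isLevi hGV hVP hz
  haveI : Mono (F.map p) := inferInstance
  obtain ⟨m, hm⟩ := exists_fac_centralizer hLV.2.2.1 hVP (F.map (l ≫ p)) c rfl
    ⟨F.map l, (F.map_comp l p).symm⟩ hz
  obtain ⟨e, he⟩ := exists_iso_of_levi_le hZlevi hLV m (by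
    rw [← cancel_mono (F.map p), Category.assoc, hzP, hm, ← F.map_comp])
  have hez : e.hom ≫ z = F.map (l ≫ p) := by rw [← hzP, ← Category.assoc, he, F.map_comp]
  refine ⟨V, hV, c, hcm, hVP, inferInstance, inferInstance, fun X g => ?_⟩
  rw [← hz.2.2]
  exact ⟨fun ⟨y, hy⟩ => ⟨y ≫ e.hom, by rw [Category.assoc, hez, hy]⟩,
    fun ⟨y, hy⟩ => ⟨y ≫ e.inv, by rw [Category.assoc, ← hez, Iso.inv_hom_id_assoc, hy]⟩⟩

/-- **Étale locally a Levi subgroup is the centraliser of a cocharacter of itself defining the parabolic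
subgroup.** -/
theorem exists_levi_chart {G P L : Over S} [GrpObj G] [GrpObj P] [GrpObj L] (hG : Red.IsReductive G) (p : P ⟶ G)
    (hP : Red.IsParabolic p) {l : L ⟶ P} (hl : Par.IsLevi l) (s : S) :
    ∃ (S' : Scheme.{u}) (f : S' ⟶ S), Etale f ∧ s ∈ Set.range f.base ∧
      ∃ c : Red.DS S' ℤ ⟶ Red.bc f L, IsMonHom c ∧
        IsP (c ≫ (Over.pullback f).map (l ≫ p)) ((Over.pullback f).map p) ∧
        Red.IsCentralizerOf (c ≫ (Over.pullback f).map (l ≫ p)) ((Over.pullback f).map (l ≫ p)) := by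
  haveI := hl.1; haveI := hP.1
  obtain ⟨S₁, f, hf, ⟨s₁, hs₁⟩, T, _, i, rk, hi, hsp⟩ := exists_split_torus hl.2.2.1 s
  haveI := hf; haveI := hi.1
  let F := Over.pullback f
  have hGf := DynPar.isReductive_bc f hG
  have hPf := isParabolic_bc f hG hP
  have hLf := isLevi_bc hG p hP hl f hPf
  have hT : Red.IsMaximalTorus (i ≫ F.map l ≫ F.map p) := by
    haveI := hLf.1; haveI := hLf.2.1; haveI := hLf.2.2.1.1; haveI := hLf.2.2.1.2.1
    obtain ⟨U, _, u, r, hu, hr, hlr, -, hker⟩ := exists_retraction hLf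
    haveI := hr; haveI := hu.1; haveI := hu.2.1; haveI := hu.2.2.2.1
    exact isMaximalTorus_of_retraction hGf _ hPf (F.map l) u r hlr hker hu.2.2.2.2.2.1 i hi
  obtain ⟨V, hV, c, hc, hcP, hcZ⟩ := exists_levi_chart_of_torus hGf _ hPf hLf i hT hsp s₁
  obtain ⟨eG, heG, hG'⟩ := MaxTorusBC.exists_trIso (rfl : V.ι ≫ f = _) G
  obtain ⟨eP, heP, hP'⟩ := MaxTorusBC.exists_trIso (rfl : V.ι ≫ f = _) P
  obtain ⟨eL, heL, hL'⟩ := MaxTorusBC.exists_trIso (rfl : V.ι ≫ f = _) L
  haveI : IsMonHom eG.hom := hG'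
  haveI : IsMonHom eP.hom := hP'
  haveI : IsMonHom eL.hom := hL'
  haveI : IsMonHom eG.symm.hom := inferInstanceAs (IsMonHom eG.inv)
  haveI : IsMonHom eL.symm.hom := inferInstanceAs (IsMonHom eL.inv)
  haveI := hc
  have hn : (Over.pullback V.ι).map (F.map l ≫ F.map p) ≫ eG.inv = eL.inv ≫ (Over.pullback (V.ι ≫ f)).map (l ≫ p) := by
    rw [Iso.eq_inv_comp, ← Category.assoc, Iso.comp_inv_eq, heL, heG, ← F.map_comp, MTImage.trIso_natural]
  have hc' : (c ≫ (Over.pullback V.ι).map (F.map l ≫ F.map p)) ≫ eG.inv =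
      (c ≫ eL.inv) ≫ (Over.pullback (V.ι ≫ f)).map (l ≫ p) := by
    rw [Category.assoc, Category.assoc, hn]
  refine ⟨V, V.ι ≫ f, inferInstance, ⟨⟨s₁, hV⟩, hs₁⟩, c ≫ eL.inv, isMonHom_comp' c eL.symm.hom,
    isP_transport hcP eG.symm eP hc' ?_, ?_⟩
  · show eP.hom ≫ (Over.pullback V.ι).map (F.map p) ≫ eG.inv = _
    rw [← Category.assoc, Iso.comp_inv_eq, heP, heG, MTImage.trIso_natural]
  · have h := centralizer_transport hcZ eG.symm hc'
    rw [Iso.symm_hom, hn] at h
    haveI := h.1; haveI := h.2.1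
    haveI : IsMonHom ((Over.pullback (V.ι ≫ f)).map (l ≫ p)) := inferInstance
    refine ⟨inferInstance, ?_, fun X g => (Iff.trans ⟨fun ⟨y, hy⟩ => ⟨y ≫ eL.hom, by
      rw [Category.assoc, Iso.hom_inv_id_assoc, hy]⟩, fun ⟨y, hy⟩ => ⟨y ≫ eL.inv, by
      rw [Category.assoc, hy]⟩⟩ (h.2.2 X g))⟩
    have he : (Over.pullback (V.ι ≫ f)).map (l ≫ p) = eL.hom ≫ eL.inv ≫ (Over.pullback (V.ι ≫ f)).map (l ≫ p) := by
      rw [Iso.hom_inv_id_assoc]
    rw [he]
    exact mono_comp _ _

end Groth.Agent.ParStd
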