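import Groth.Agent.ParStd.OpenCellMain
import Groth.Agent.SmoothRed.Scheme

/-!
# Characterisations of the unipotent radical of a parabolic subgroup
-/

set_option autoImplicit false
set_option linter.style.haveILetI false
set_option linter.unusedSectionVars false
set_option backward.isDefEq.respectTransparency false
set_option backward.isDefEq.respectTransparency.types false
set_option maxHeartbeats 2000000
set_option synthInstance.maxHeartbeats 400000

universe u

open CategoryTheory Limits MonoidalCategory CartesianMonoidalCategory MonObj AlgebraicGeometry LieS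
open scoped CategoryTheory.Obj

noncomputable section

namespace Groth.Agent.ParStd

open Groth.Agent.HomDiag Groth.Agent.DynPar Groth.Agent.MTBridge Groth.Agent.Chev

variable {S : Scheme.{u}} {G P U : Over S} [GrpObj G] [GrpObj P] [GrpObj U]

/-- A cocharacter at a geometric point. -/
theorem exists_geom_isP (hG : Red.IsReductive G) (p : P ⟶ G) (hP : Red.IsParabolic p) (s : S) :
    ∃ c : Red.DS _ ℤ ⟶ Red.geomFibre s G, IsMonHom c ∧ IsP c ((Over.pullback (Red.geomPt s)).map p) := by
  obtain ⟨Q, f, c, hA, hs⟩ := exists_atlas hG p hP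
  haveI := hA.etale s; haveI := hA.hom s
  obtain ⟨φ, hφ⟩ := BorelConj.exists_geom_lift (f s) (Red.geomPt s) (by rw [MTImage.geomPt_closedPoint]; exact hs s)
  obtain ⟨e, he, -, hP', -⟩ := exists_restrict hφ p (hA.isP s)
  haveI := he
  exact ⟨_, isMonHom_cW e (c s), hP'⟩

/-- A smooth closed normal subgroup whose geometric fibres are unipotent radicals is the unipotent radical. -/
theorem exists_iso_of_fibrewise (hG : Red.IsReductive G) (p : P ⟶ G) (hP : Red.IsParabolic p) (u : U ⟶ P)
    (hU : Par.IsUnipotentRadical u) {U' : Over S} [GrpObj U'] (u' : U' ⟶ P) [IsMonHom u']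
    (hc' : IsClosedImmersion u'.left) (hs' : Smooth U'.hom) (hn' : AlgGrp.IsNormalHom u')
    (hfib : ∀ s : S, Par.IsUnipotentRadical ((Over.pullback (Red.geomPt s)).map u')) :
    ∃ e : U' ≅ U, e.hom ≫ u = u' := by
  haveI := hP.1; haveI := hP.2.1; haveI := hU.1; haveI := hU.2.1; haveI := hc'; haveI := hs'; haveI := hG.1
  haveI : IsAffineHom P.hom := by rw [← Over.w p]; infer_instance
  haveI : IsAffineHom U'.hom := by rw [← Over.w u']; infer_instance
  haveI : Mono u := Over.mono_of_mono_left u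
  haveI : Mono u' := Over.mono_of_mono_left u'
  haveI := hU.2.2.2.1
  have key : ∀ s : S, ∃ e : Red.geomFibre s U' ≅ Red.geomFibre s U,
      e.hom ≫ (Over.pullback (Red.geomPt s)).map u = (Over.pullback (Red.geomPt s)).map u' ∧
      ConnectedSpace (Red.geomFibre s U').left ∧
      Red.HasNoSubtorus (AlgebraicClosure (S.residueField s)) (Red.geomFibre s U') := fun s => by
    let F := Over.pullback (Red.geomPt s)
    haveI : PreservesLimitsOfShape WalkingCospan F :=
      (Over.mapPullbackAdj (Red.geomPt s)).rightAdjoint_preservesLimits.preservesLimitsOfShape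
    obtain ⟨c, hc, hcP⟩ := exists_geom_isP hG p hP s
    haveI := hc
    have hGs := DynPar.isReductive_bc (Red.geomPt s) hG
    haveI : IsAffineHom (F.obj G).hom := hGs.1
    have hu := isU_radical hG p hP hU (Red.geomPt s) c hcP
    obtain ⟨Z, _, z, hz, -, -⟩ := exists_centralizer_DS hGs.2.1 hGs.1 c
    obtain ⟨d⟩ := exists_leviData hcP hu hz
    haveI : IsClosedImmersion (F.map p).left := MorphismProperty.overPullbackMap (P := @IsClosedImmersion) _ p hP.2.1
    haveI : Mono (F.map p) := Over.mono_of_mono_left _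
    have h2 : d.iu = F.map u := by rw [← cancel_mono (F.map p), d.iu_p, F.map_comp]
    have hrad := isUnipotentRadical_iu hGs hcP hz hu d
    obtain ⟨e, he⟩ := exists_iso_radical (hfib s) hrad
    rw [h2] at he
    haveI : Mono (F.map u) := inferInstance
    haveI : IsMonHom (F.map u') := inferInstance
    haveI : IsMonHom e.hom := MTSplit.isMonHom_of_comp_mono e.hom (F.map u) _ he
    haveI : IsMonHom e.symm.hom := inferInstanceAs (IsMonHom e.inv)
    obtain ⟨hc0, hn0⟩ := hU.2.2.2.2.2.1 s
    haveI : IsIso e.inv.left := inferInstanceAs (IsIso ((Over.forget _).map e.inv))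
    haveI := hc0
    exact ⟨e, he, e.inv.left.surjective.connectedSpace e.inv.left.continuous, hasNoSubtorus_of_iso e.symm hn0⟩
  obtain ⟨f, hf⟩ := hU.2.2.2.2.2.2 U' u' hc' hn' hs' inferInstance fun s => ⟨(key s).choose_spec.2.1, (key s).choose_spec.2.2⟩
  haveI : IsIso f := ParNorm.isIso_of_geomPts f fun s => by
    let F := Over.pullback (Red.geomPt s)
    haveI : PreservesLimitsOfShape WalkingCospan F :=
      (Over.mapPullbackAdj (Red.geomPt s)).rightAdjoint_preservesLimits.preservesLimitsOfShape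
    obtain ⟨e, he, -⟩ := key s
    haveI : Mono (F.map u) := inferInstance
    rw [show F.map f = e.hom by rw [← cancel_mono (F.map u), he, ← F.map_comp, hf]]
    infer_instance
  exact ⟨asIso f, hf⟩

/-- Contracted points of a closed subgroup. -/
theorem mem_USub_of_comp {G K : Over S} [GrpObj G] [GrpObj K] [IsAffineHom K.hom] [IsAffineHom G.hom]
    {c : Red.DS S ℤ ⟶ G} [IsMonHom c] {c' : Red.DS S ℤ ⟶ K} [IsMonHom c']
    (κ : K ⟶ G) [IsMonHom κ] [IsClosedImmersion κ.left] (hc : c' ≫ κ = c) {B : Type u} [CommRing B]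
    {f : Spec (CommRingCat.of B) ⟶ S} {g : pt B f ⟶ K} (hg : g ≫ κ ∈ USub f c) : g ∈ USub f c' := by
  haveI : Mono κ := Over.mono_of_mono_left κ
  obtain ⟨h, h0, hh⟩ := (mem_USub f c).1 hg
  obtain ⟨h', hh'⟩ := (mem_PSub f c').1 (mem_PSub_of_comp κ hc (USub_le_PSub f c hg))
  have e : h' ≫ κ = h := by
    refine qn_ext ?_
    rw [← Category.assoc, hh', hh, orb_apply, orb_apply, MonObj.mul_comp, MonObj.mul_comp, GrpObj.inv_comp]
    simp only [Category.assoc, hc]
  refine (mem_USub f c').2 ⟨h', ?_, hh'⟩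
  rw [← cancel_mono κ, Category.assoc, e, h0]
  exact ((IsMonHom.monoidHom κ _).map_one).symm

/-- A surjective homomorphism to a reductive group kills the contracted subgroup. -/
theorem eq_one_of_surjective_chart (hG : Red.IsReductive G) (p : P ⟶ G) (c : Red.DS S ℤ ⟶ G) [IsMonHom c]
    (hp : IsP c p) {U₀ : Over S} (u₀ : U₀ ⟶ P)
    (hu : ∀ (B : Type u) [CommRing B] (f : Spec (CommRingCat.of B) ⟶ S) (y : pt B f ⟶ U₀), y ≫ u₀ ≫ p ∈ USub f c)
    {L : Over S} [GrpObj L] (f : P ⟶ L) [IsMonHom f] (hL : Red.IsReductive L) (hf : Surjective f.left) :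
    u₀ ≫ f = 1 := by
  haveI := hG.1; haveI := hG.2.1; haveI := hp.1; haveI := hp.2.1; haveI := hL.1; haveI := hL.2.1; haveI := hf
  haveI : IsAffineHom P.hom := by rw [← Over.w p]; infer_instance
  obtain ⟨cP, hcP⟩ := hp.exists_le c fun B _ g y => by
    refine ZSub_le_PSub g c ((mem_ZSub_iff_commute g c).2 fun B' _ g' x h => ?_)
    rw [← Category.assoc x, ← MonObj.mul_comp, ← MonObj.mul_comp, DS_comm']
  haveI : Mono p := Over.mono_of_mono_left p
  haveI : IsMonHom cP := MTSplit.isMonHom_of_comp_mono cP p c hcP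
  let cL : Red.DS S ℤ ⟶ L := cP ≫ f
  haveI : IsMonHom cL := isMonHom_comp' cP f
  obtain ⟨PL, _, pL, hpL⟩ := exists_isP (G := L) cL
  haveI := hpL.1; haveI := hpL.2.1
  obtain ⟨a, ha⟩ := hpL.exists_le f fun B _ g y =>
    comp_mem_PSub g cP f (mem_PSub_of_comp p hcP ((hp.2.2 _ _).1 ⟨y, rfl⟩ B g (𝟙 _) |> fun h => by
      rwa [Category.id_comp] at h))
  haveI : Smooth PL.hom := smooth_isP hL.2.1 cL hpL
  haveI : Surjective pL.left := by
    haveI : Surjective (a.left ≫ pL.left) := by rw [← Over.comp_left, ha]; exact hf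
    exact Surjective.of_comp a.left pL.left
  haveI : IsIso pL := ParNorm.isIso_of_geomPts pL fun s => by
    let F := Over.pullback (Red.geomPt s)
    haveI : IsClosedImmersion (F.map pL).left := MorphismProperty.overPullbackMap (P := @IsClosedImmersion) _ pL hpL.2.1
    haveI : Surjective (F.map pL).left := MorphismProperty.overPullbackMap (P := @Surjective) _ pL ‹_›
    haveI : Smooth (F.obj L).hom := (hL.2.2 s).2.1
    haveI : AlgebraicGeometry.IsReduced (F.obj L).left := SmoothRed.isReduced_of_smooth_scheme (F.obj L).hom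
    haveI : IsIso (F.map pL).left := isIso_of_isClosedImmersion_of_surjective _
    haveI : IsIso ((Over.forget _).map (F.map pL)) := ‹IsIso (F.map pL).left›
    exact isIso_of_reflects_iso (F.map pL) (Over.forget _)
  have hall : ∀ (B : Type u) [CommRing B] (g : Spec (CommRingCat.of B) ⟶ S) (y : pt B g ⟶ L), y ∈ PSub g cL :=
    fun B _ g y => hpL.exists_fac_iff.1 ⟨y ≫ CategoryTheory.inv pL, by simp⟩
  obtain ⟨Z, _, z, hz, hzc, hzs⟩ := exists_centralizer_DS hL.2.1 hL.1 cL
  haveI := hzc; haveI := hzs; haveI := hz.1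
  haveI : IsIso z := ParNorm.isIso_of_geomPts z fun s => by
    let F := Over.pullback (Red.geomPt s)
    haveI : IsMonHom (bcHom' (Red.geomPt s) cL) := isMonHom_bcHom' _ _
    refine isIso_centralizer_of_top (hL.2.2 s) (bcHom' (Red.geomPt s) cL) (fun B _ g y => ?_)
      (DynPar.centralizer_bc (Red.geomPt s) hz)
    exact (hpL.bc (Red.geomPt s)).exists_fac_iff.1 ⟨y ≫ F.map (CategoryTheory.inv pL), by
      rw [Category.assoc, ← F.map_comp, IsIso.inv_hom_id, F.map_id, Category.comp_id]⟩
  refine hom_ext_pts _ _ fun B _ g y => ?_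
  rw [MonObj.comp_one]
  have h1 : (y ≫ u₀) ∈ USub g cP := mem_USub_of_comp p hcP (by rw [Category.assoc]; exact hu B g y)
  have h2 : (y ≫ u₀) ≫ f ∈ USub g cL := comp_mem_USub g cP f h1
  have h3 : (y ≫ u₀) ≫ f ∈ ZSub g cL := by
    rw [show (y ≫ u₀) ≫ f = (((y ≫ u₀) ≫ f) ≫ CategoryTheory.inv z) ≫ z by simp]
    exact mem_ZSub_of_centralizer hz _
  have h4 := (mem_USub_iff_lim.1 h2).2
  rw [lim_of_mem_ZSub h3] at h4
  rwa [Category.assoc] at h4

/-- **Surjective homomorphisms onto reductive groups kill the unipotent radical.** -/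
theorem radical_comp_eq_one (hG : Red.IsReductive G) (p : P ⟶ G) (hP : Red.IsParabolic p) (u : U ⟶ P)
    (hU : Par.IsUnipotentRadical u) {L : Over S} [GrpObj L] (f : P ⟶ L) [IsMonHom f] (hL : Red.IsReductive L)
    (hf : Surjective f.left) : u ≫ f = 1 := by
  haveI := hP.1; haveI := hU.1; haveI := hf
  obtain ⟨Q, g, c, hA, hs⟩ := exists_atlas hG p hP
  obtain ⟨U₀, _, u₀, hU₀, hch⟩ := exists_radical_of_atlas hG p hP hA
  obtain ⟨e₀, he₀⟩ := exists_iso_radical hU hU₀
  have hg := mem_fpqc_of_etale hA.etale hA.surj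
  suffices h : u₀ ≫ f = 1 by rw [← he₀, Category.assoc, h, MonObj.comp_one]
  refine Over.OverMorphism.ext (SchDescent.hom_ext_cover (mem_fpqc_pullback hg U₀.hom) fun i => ?_)
  let F := Over.pullback (g i)
  haveI := hA.hom i; haveI := hA.etale i
  obtain ⟨V, _, v, e, hv, -, hev⟩ := hch i
  haveI : IsMonHom (F.map f) := inferInstance
  haveI : Surjective (F.map f).left := MorphismProperty.overPullbackMap (P := @Surjective) _ f hf
  have h1 : F.map u₀ ≫ F.map f = 1 :=
    eq_one_of_surjective_chart (DynPar.isReductive_bc (g i) hG) (F.map p) (c i) (hA.isP i) (F.map u₀)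
      (fun B _ w y => by
        rw [← F.map_comp, ← hev, ← Category.assoc]
        exact hv.exists_fac_iff.1 ⟨y ≫ e.hom, rfl⟩)
      (F.map f) (DynPar.isReductive_bc (g i) hL) inferInstance
  have h2 : F.map (u₀ ≫ f) = F.map (1 : U₀ ⟶ L) := by
    rw [F.map_comp, h1]
    exact (F.homMonoidHom.map_one).symm
  have h3 := congrArg (fun k => k.left ≫ pullback.fst L.hom (g i)) h2
  simp only [F, MTBridge.map_left_fst] at h3
  exact h3

end Groth.Agent.ParStd
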