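import Groth.Agent.ParStd.LexLocal
import Groth.Agent.ParStd.RadicalGen

/-!
# The contracted subgroup of a lexicographic pair in an intersection of parabolic subgroups
-/

set_option autoImplicit false
set_option linter.style.haveILetI false
set_option linter.unusedSectionVars false
set_option backward.isDefEq.respectTransparency false
set_option backward.isDefEq.respectTransparency.types false
set_option maxHeartbeats 2000000
set_option synthInstance.maxHeartbeats 400000

universe u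

open CategoryTheory Limits MonoidalCategory CartesianMonoidalCategory MonObj AlgebraicGeometry LieS
open scoped CategoryTheory.Obj

noncomputable section

namespace Groth.Agent.ParStd

open Groth.Agent.HomDiag Groth.Agent.DynPar Groth.Agent.MTBridge

variable {S : Scheme.{u}}

/-- Contracted points of a closed subgroup. -/
theorem mem_USub_of_comp_gen {G K : Over S} [GrpObj G] [GrpObj K] [IsAffineHom K.hom] [IsAffineHom G.hom] {Γ : Type}
    [AddCommGroup Γ] [LinearOrder Γ] [IsOrderedAddMonoid Γ] {c : Red.DS S Γ ⟶ G} [IsMonHom c] {c' : Red.DS S Γ ⟶ K}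
    [IsMonHom c'] (κ : K ⟶ G) [IsMonHom κ] [IsClosedImmersion κ.left] (hc : c' ≫ κ = c) {B : Type u} [CommRing B]
    {f : Spec (CommRingCat.of B) ⟶ S} {g : pt B f ⟶ K} (hg : g ≫ κ ∈ USub f c) : g ∈ USub f c' := by
  haveI : Mono κ := Over.mono_of_mono_left κ
  obtain ⟨h, h0, hh⟩ := (mem_USub f c).1 hg
  obtain ⟨h', hh'⟩ := (mem_PSub f c').1 (mem_PSub_of_comp κ hc (USub_le_PSub f c hg))
  have e : h' ≫ κ = h := by
    refine qn_ext ?_
    rw [← Category.assoc, hh', hh, orb_apply, orb_apply, MonObj.mul_comp, MonObj.mul_comp, GrpObj.inv_comp]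
    simp only [Category.assoc, hc]
  refine (mem_USub f c').2 ⟨h', ?_, hh'⟩
  rw [← cancel_mono κ, Category.assoc, e, h0]
  exact ((IsMonHom.monoidHom κ _).map_one).symm

variable {G P Q K P' Ug I : Over S} [GrpObj G] [GrpObj P] [GrpObj Q] [GrpObj K] [GrpObj P'] [GrpObj Ug] [GrpObj I]
  {M : Type} [AddCommGroup M] [Module.Free ℤ M] [Module.Finite ℤ M] {j : Red.DS S M ⟶ G} [IsMonHom j]
  {lam mu : M →+ ℤ}

/-- **The meet of `U` of the lexicographic pair with the intersection is the unipotent radical of the latter, in a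
chart.** -/
theorem lex_inter_radical (hG : Red.IsReductive G) {p : P ⟶ G} {q : Q ⟶ G}
    (hp : IsP (Red.DSmap S lam ≫ j) p) (hq : IsP (Red.DSmap S mu ≫ j) q) {m : K ⟶ P} [IsMonHom m] {m' : K ⟶ Q}
    (hK : IsPullback m m' p q) {p' : P' ⟶ G} (hp' : IsP (Red.DSmap S (lexPair lam mu) ≫ j) p') {uG : Ug ⟶ G}
    (hu : IsU (Red.DSmap S (lexPair lam mu) ≫ j) uG) {a : I ⟶ Ug} {b : I ⟶ K} [IsMonHom b]
    (hsq : IsPullback a b uG (m ≫ p)) :
    Smooth I.hom ∧
      (∀ (F : Type u) [Field F] [IsAlgClosed F] (φ : Spec (CommRingCat.of F) ⟶ S),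
        ConnectedSpace (Red.bc φ I).left ∧ Red.HasNoSubtorus F (Red.bc φ I)) ∧
      ∀ (V : Over S) [GrpObj V] (v : V ⟶ K) [IsMonHom v], IsClosedImmersion v.left → AlgGrp.IsNormalHom v →
        Smooth V.hom → (∀ s : S, ∃ (F : Type u) (_ : Field F) (_ : IsAlgClosed F) (g₀ : Spec (CommRingCat.of F) ⟶ S),
          g₀ (IsLocalRing.closedPoint F) = s ∧ ConnectedSpace (Red.bc g₀ V).left ∧
            Red.HasNoSubtorus F (Red.bc g₀ V)) → ∃ f, f ≫ b = v := by
  haveI := hG.1; haveI := hG.2.1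
  haveI := hp.1; haveI := hp.2.1; haveI := hq.1; haveI := hq.2.1; haveI := hu.1; haveI := hu.2.1
  haveI : Mono p := Over.mono_of_mono_left p
  haveI : Mono q := Over.mono_of_mono_left q
  haveI : IsMonHom (Red.DSmap S lam ≫ j) := isMonHom_comp' (Red.DSmap S lam) j
  haveI : IsMonHom (Red.DSmap S mu ≫ j) := isMonHom_comp' (Red.DSmap S mu) j
  haveI : IsMonHom (Red.DSmap S (lexPair lam mu) ≫ j) := isMonHom_comp' (Red.DSmap S (lexPair lam mu)) j
  haveI hPs : Smooth P.hom := smooth_isP hG.2.1 _ hp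
  haveI : IsAffineHom P.hom := by rw [← Over.w p]; infer_instance
  obtain ⟨t, htm, ht⟩ := exists_fac_torus hp
  obtain ⟨t₂, -, ht₂⟩ := exists_fac_torus hq
  haveI := htm
  haveI : IsMonHom (Red.DSmap S mu ≫ t) := isMonHom_comp' (Red.DSmap S mu) t
  have hi := isP_inter hp hq hK t ht
  haveI := hi.2.1
  haveI hKs : Smooth K.hom := smooth_isP hPs _ hi
  haveI : IsAffineHom K.hom := by rw [← Over.w m]; infer_instance
  obtain ⟨κ, hκd⟩ : ∃ κ : K ⟶ G, κ = m ≫ p := ⟨_, rfl⟩
  rw [← hκd] at hsq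
  haveI : IsMonHom κ := hκd ▸ inferInstance
  haveI : IsClosedImmersion κ.left := by rw [hκd, Over.comp_left]; infer_instance
  haveI : Mono κ := Over.mono_of_mono_left κ
  obtain ⟨tK, htK⟩ : ∃ tK : Red.DS S M ⟶ K, tK ≫ κ = j :=
    ⟨hK.lift t t₂ (ht.trans ht₂.symm), by rw [hκd, IsPullback.lift_fst_assoc, ht]⟩
  haveI : IsMonHom tK := MTSplit.isMonHom_of_comp_mono tK κ j htK
  let c := Red.DSmap S (lexPair lam mu) ≫ tK
  haveI : IsMonHom c := isMonHom_comp' (Red.DSmap S (lexPair lam mu)) tK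
  have hc : c ≫ κ = Red.DSmap S (lexPair lam mu) ≫ j := by rw [Category.assoc, htK]
  -- all of `K` lies in `P` of the pair
  haveI : IsClosedImmersion (𝟙 K : K ⟶ K).left := by rw [Over.id_left]; infer_instance
  have hKP : IsP c (𝟙 K) := ⟨inferInstance, inferInstance, fun X g => ⟨fun _ B _ f y => mem_PSub_of_comp κ hc
    (inter_le_lex j lam mu (hp.exists_fac_iff.1 ⟨(y ≫ g) ≫ m, by rw [hκd, Category.assoc]⟩)
      (hq.exists_fac_iff.1 ⟨(y ≫ g) ≫ m', by rw [hκd, hK.w, Category.assoc]⟩)), fun _ => ⟨g, Category.comp_id g⟩⟩⟩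
  -- the contracted subgroup
  haveI : PreservesLimitsOfShape WalkingCospan (Over.forget S) := inferInstance
  haveI : IsClosedImmersion ((Over.forget S).map uG) := ‹IsClosedImmersion uG.left›
  have hbc : IsClosedImmersion b.left :=
    MorphismProperty.of_isPullback (P := @IsClosedImmersion) (hsq.map (Over.forget S)) ‹_›
  have hbU : IsU c b := ⟨inferInstance, hbc, fun X g => ⟨fun ⟨w, hw⟩ B _ f y => mem_USub_of_comp_gen κ hc
      (hu.exists_fac_iff.1 ⟨(y ≫ w) ≫ a, by simp only [← hw, Category.assoc, hsq.w]⟩),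
    fun h => by
      obtain ⟨w, hw⟩ := hu.exists_le (g ≫ κ) fun B _ f y => by
        have := comp_mem_USub f c κ (h B f y)
        rwa [hc, Category.assoc] at this
      exact ⟨hsq.lift w g hw, IsPullback.lift_snd _ _ _ _⟩⟩⟩
  -- the centralizer
  obtain ⟨Z, _, z, hz, -, -⟩ := exists_centralizer_DS (G := G) inferInstance inferInstance
    (Red.DSmap S (lexPair lam mu) ≫ j)
  obtain ⟨zp, hzp⟩ := hp.exists_le z fun B _ f y => (centralizer_le_inter j lam mu (mem_ZSub_of_centralizer hz y)).1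
  obtain ⟨zq, hzq⟩ := hq.exists_le z fun B _ f y => (centralizer_le_inter j lam mu (mem_ZSub_of_centralizer hz y)).2
  obtain ⟨zK, hzK⟩ : ∃ zK : Z ⟶ K, zK ≫ κ = z :=
    ⟨hK.lift zp zq (hzp.trans hzq.symm), by rw [hκd, IsPullback.lift_fst_assoc, hzp]⟩
  haveI := hz.1
  haveI : IsMonHom zK := MTSplit.isMonHom_of_comp_mono zK κ z hzK
  haveI : Mono (zK ≫ κ) := by rw [hzK]; exact hz.2.1
  haveI : Mono zK := mono_of_mono zK κ
  have hcZ : Red.IsCentralizerOf c zK := by
    refine ⟨inferInstance, inferInstance, fun X g => Iff.trans ?_ (Iff.trans (hz.2.2 X (g ≫ κ)) ?_)⟩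
    · exact ⟨fun ⟨w, hw⟩ => ⟨w, by rw [← hzK, reassoc_of% hw]⟩,
        fun ⟨w, hw⟩ => ⟨w, by rw [← cancel_mono κ, Category.assoc, hzK, hw]⟩⟩
    · refine forall_congr' fun X' => forall_congr' fun x => forall_congr' fun h => ?_
      rw [← hc, ← cancel_mono κ, MonObj.mul_comp, MonObj.mul_comp]
      simp only [Category.assoc]
  obtain ⟨d⟩ := exists_leviData hKP hbU hcZ
  have hd : d.iu = b := by simpa using d.iu_p
  refine ⟨(smooth_isU hKs hKP hbU hcZ).1, fun F _ _ φ => ?_, fun V _ v _ hvc hvn hvs hfib => ?_⟩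
  · haveI : IsAffineHom (Red.bc φ K).hom := inferInstanceAs (IsAffineHom (pullback.snd K.hom φ))
    haveI : IsAffine (Red.bc φ K).left := isAffine_of_isAffineHom (Red.bc φ K).hom
    haveI : LocallyOfFiniteType (Red.bc φ K).hom :=
      inferInstanceAs (LocallyOfFiniteType (pullback.snd K.hom φ))
    haveI : IsMonHom (bcHom' φ c) := isMonHom_bcHom' φ c
    obtain ⟨-, h1, h2⟩ := field_fibre (bcHom' φ c) (hKP.bc φ) (hbU.bc φ)
    exact ⟨h1, h2 inferInstance⟩
  · obtain ⟨f, hf⟩ := exists_fac_iu_gen hKs hKP hcZ hbU d v hvc hvn hvs hfib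
      fun F _ _ g₀ => by
        haveI : IsMonHom (bcHom' g₀ (Red.DSmap S (lexPair lam mu) ≫ j)) := isMonHom_bcHom' g₀ _
        exact (field_parabolic (BorelConj.isReductiveOver_pt hG g₀) _ _ _ (hp'.bc g₀) (centralizer_bc g₀ hz)).2
    exact ⟨f, hd ▸ hf⟩

end Groth.Agent.ParStd
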