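import Groth.Agent.ParStd.LexGlobal
import Groth.Agent.ParStd.RadicalInter

/-!
# The unipotent radical of an intersection of two parabolic subgroups
-/

set_option autoImplicit false
set_option linter.style.haveILetI false
set_option linter.unusedSectionVars false
set_option backward.isDefEq.respectTransparency false
set_option backward.isDefEq.respectTransparency.types false
set_option maxHeartbeats 2000000
set_option synthInstance.maxHeartbeats 400000

universe u

open CategoryTheory Limits MonoidalCategory CartesianMonoidalCategory MonObj AlgebraicGeometry LieS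
open scoped CategoryTheory.Obj

noncomputable section

namespace Groth.Agent.ParStd

open Groth.Agent.HomDiag Groth.Agent.DynPar Groth.Agent.MTBridge Groth.Agent.Chev

variable {S : Scheme.{u}} {G P Q K U UK P' U' : Over S} [GrpObj G] [GrpObj P] [GrpObj Q] [GrpObj K] [GrpObj U]
  [GrpObj UK] [GrpObj P'] [GrpObj U']

omit [GrpObj G] [GrpObj P] [GrpObj P'] in
/-- A smooth surjective image factors through a closed subscheme through which the source does. -/
theorem exists_fac_of_image {A : Over S} (p : P ⟶ G) (p' : P' ⟶ G) [IsClosedImmersion p'.left] (f : A ⟶ P)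
    [Smooth f.left] [Surjective f.left] (f' : A ⟶ P') (h : f ≫ p = f' ≫ p') : ∃ z, z ≫ p' = p := by
  have hc : Presieve.ofArrows (fun _ : PUnit.{u + 1} => A.left) (fun _ => f.left) ∈
      Scheme.fpqcPrecoverage P.left :=
    Scheme.fppfPrecoverage_le_fpqcPrecoverage _ ((Scheme.ofArrows_mem_precoverage_iff _).2
      ⟨fun y => ⟨PUnit.unit, Surjective.surj y⟩, fun _ => ⟨inferInstance, inferInstance⟩⟩)
  have hle : p'.left.ker ≤ p.left.ker := by
    refine ideal_le_ker_of_cover _ p.left hc fun _ => (exists_fac_iff_ker_le p'.left _).1 ⟨f'.left, ?_⟩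
    rw [← Over.comp_left, ← Over.comp_left, h]
  obtain ⟨z, hz⟩ := (exists_fac_iff_ker_le p'.left p.left).2 hle
  exact ⟨Over.homMk z (by rw [← Over.w p', reassoc_of% hz, Over.w p]), Over.OverMorphism.ext hz⟩

/-- **In a chart the given parabolic subgroup is that of the lexicographic pair.** -/
theorem isP_lex_chart (hG : Red.IsReductive G) (p : P ⟶ G) (q : Q ⟶ G) (hP : Red.IsParabolic p) (m : K ⟶ P)
    (m' : K ⟶ Q) [IsMonHom m] (hK : IsPullback m m' p q) (uU : U ⟶ P) (hU : Par.IsUnipotentRadical uU)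
    (p' : P' ⟶ G) (hP' : Red.IsParabolic p') (f' : U ⊗ K ⟶ P')
    (hf' : f' ≫ p' = (fst U K ≫ uU ≫ p) * (snd U K ≫ m ≫ p)) (hsurj : Surjective f'.left)
    {W : Scheme.{u}} (ψ : W ⟶ S) {M : Type} [AddCommGroup M] [Module.Free ℤ M] [Module.Finite ℤ M]
    (j : Red.DS W M ⟶ Red.bc ψ G) [IsMonHom j] (lam mu : M →+ ℤ)
    (hp : IsP (Red.DSmap W lam ≫ j) ((Over.pullback ψ).map p))
    (hq : IsP (Red.DSmap W mu ≫ j) ((Over.pullback ψ).map q)) :
    IsP (Red.DSmap W (lexPair lam mu) ≫ j) ((Over.pullback ψ).map p') := by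
  haveI := hP.1; haveI := hU.1; haveI := hP'.1; haveI := hP'.2.1; haveI := hP'.2.2.1
  let F := Over.pullback ψ
  haveI : PreservesLimitsOfShape WalkingCospan F :=
    (Over.mapPullbackAdj ψ).rightAdjoint_preservesLimits.preservesLimitsOfShape
  haveI : IsMonHom (Red.DSmap W lam ≫ j) := isMonHom_comp' (Red.DSmap W lam) j
  have hGW := DynPar.isReductive_bc ψ hG
  obtain ⟨P₀, _, p₀, f₀, hp₀, hpar₀, hf₀, hfs, hfj⟩ := exists_lex_product hGW hp hq (hK.map F)
    (isU_bc_radical hG p hP hU ψ _ hp)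
  haveI := hp₀.1; haveI := hp₀.2.1; haveI := hfs; haveI := hfj; haveI := hpar₀.2.2.1
  obtain ⟨g₀, hg₀d⟩ : ∃ g₀ : F.obj (U ⊗ K) ⟶ P₀, g₀ = CartesianMonoidalCategory.prodComparison F U K ≫ f₀ :=
    ⟨_, rfl⟩
  have hg₀ : g₀ ≫ p₀ = F.map f' ≫ F.map p' := by
    rw [hg₀d, Category.assoc, hf₀, MonObj.comp_mul, CartesianMonoidalCategory.prodComparison_fst_assoc,
      CartesianMonoidalCategory.prodComparison_snd_assoc, ← F.map_comp m p, ← F.map_comp, ← F.map_comp,
      ← F.map_comp f' p', hf']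
    exact ((F.homMonoidHom (X := U ⊗ K) (M := G)).map_mul _ _).symm
  haveI : IsIso (CartesianMonoidalCategory.prodComparison F U K).left :=
    inferInstanceAs (IsIso ((Over.forget _).map (CartesianMonoidalCategory.prodComparison F U K)))
  haveI : Smooth g₀.left := by rw [hg₀d, Over.comp_left]; infer_instance
  haveI : Surjective g₀.left := by rw [hg₀d, Over.comp_left]; infer_instance
  haveI : IsClosedImmersion (F.map p').left := MorphismProperty.overPullbackMap (P := @IsClosedImmersion) ψ p' hP'.2.1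
  haveI : Mono (F.map p') := Over.mono_of_mono_left _
  obtain ⟨z, hz⟩ := exists_fac_of_image p₀ (F.map p') g₀ (F.map f') hg₀
  haveI : IsMonHom z := MTSplit.isMonHom_of_comp_mono z (F.map p') p₀ hz
  haveI : IsClosedImmersion z.left := by
    haveI : IsClosedImmersion (z.left ≫ (F.map p').left) := by rw [← Over.comp_left, hz]; infer_instance
    exact IsClosedImmersion.of_comp z.left (F.map p').left
  haveI : Surjective z.left := by
    have h : g₀ ≫ z = F.map f' := by rw [← cancel_mono (F.map p'), Category.assoc, hz, hg₀]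
    haveI : Surjective (g₀.left ≫ z.left) := by
      rw [← Over.comp_left, h]
      exact MorphismProperty.overPullbackMap (P := @Surjective) ψ f' hsurj
    exact Surjective.of_comp g₀.left z.left
  haveI : Smooth (F.obj P').hom := inferInstanceAs (Smooth (pullback.snd P'.hom ψ))
  haveI : IsIso z := ParNorm.isIso_of_geomPts z fun w => by
    let Fw := Over.pullback (Red.geomPt w)
    haveI : IsClosedImmersion (Fw.map z).left := MorphismProperty.overPullbackMap (P := @IsClosedImmersion) _ z ‹_›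
    haveI : Surjective (Fw.map z).left := MorphismProperty.overPullbackMap (P := @Surjective) _ z ‹_›
    haveI : Smooth (Fw.obj (F.obj P')).hom := inferInstanceAs (Smooth (pullback.snd (F.obj P').hom (Red.geomPt w)))
    haveI : IsReduced (Fw.obj (F.obj P')).left := SmoothRed.isReduced_of_smooth_scheme (Fw.obj (F.obj P')).hom
    haveI : IsIso ((Over.forget _).map (Fw.map z)) := isIso_of_isClosedImmersion_of_surjective (Fw.map z).left
    exact isIso_of_reflects_iso (Fw.map z) (Over.forget _)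
  haveI : IsMonHom (asIso z).hom := ‹IsMonHom z›
  haveI : IsMonHom (asIso z).symm.hom := inferInstanceAs (IsMonHom (asIso z).inv)
  haveI : IsMonHom (Iso.refl (F.obj G)).hom := inferInstanceAs (IsMonHom (𝟙 _))
  exact isP_transport hp₀ (Iso.refl _) (asIso z).symm (Category.comp_id _) (by
    rw [Iso.refl_hom, Category.comp_id, Iso.symm_hom, Iso.inv_comp_eq, asIso_hom, hz])

/-- **The unipotent radical of the intersection is the meet with that of the product subgroup.** -/
theorem exists_radical_inter (hG : Red.IsReductive G) (p : P ⟶ G) (q : Q ⟶ G) (hP : Red.IsParabolic p)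
    (hQ : Red.IsParabolic q) (m : K ⟶ P) (m' : K ⟶ Q) [IsMonHom m] (hK : IsPullback m m' p q) (uU : U ⟶ P)
    (hU : Par.IsUnipotentRadical uU)
    (hloc : ∀ s : ↥S, ∃ V : S.Opens, s ∈ V ∧
      ∃ (T : Over (V : Scheme.{u})) (_ : GrpObj T) (t : T ⟶ Red.bc V.ι K),
        IsMonHom t ∧ Red.IsMaximalTorus (t ≫ (Over.pullback V.ι).map (m ≫ p)))
    (p' : P' ⟶ G) (hP' : Red.IsParabolic p') (f' : U ⊗ K ⟶ P')
    (hf' : f' ≫ p' = (fst U K ≫ uU ≫ p) * (snd U K ≫ m ≫ p)) (hsurj : Surjective f'.left)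
    (k' : K ⟶ P') (hk' : k' ≫ p' = m ≫ p) (u' : U' ⟶ P') (hU' : Par.IsUnipotentRadical u')
    (v : UK ⟶ K) (hV : Par.IsUnipotentRadical v) :
    ∃ a : UK ⟶ U', IsPullback a v u' k' := by
  haveI := hG.1; haveI := hP.1; haveI := hP.2.1; haveI := hQ.1; haveI := hQ.2.1; haveI := hP'.1; haveI := hP'.2.1
  haveI := hU'.1; haveI := hU'.2.1; haveI := hV.1; haveI := hV.2.1
  haveI : Mono p' := Over.mono_of_mono_left p'
  haveI : Mono v := Over.mono_of_mono_left v
  haveI : IsMonHom k' := MTSplit.isMonHom_of_comp_mono k' p' (m ≫ p) hk'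
  haveI : PreservesLimitsOfShape WalkingCospan (Over.forget S) := inferInstance
  haveI : IsClosedImmersion m.left := by
    haveI : IsClosedImmersion ((Over.forget S).map q) := ‹IsClosedImmersion q.left›
    exact MorphismProperty.of_isPullback (P := @IsClosedImmersion) (hK.map (Over.forget S)).flip ‹_›
  obtain ⟨I, a, b, sq⟩ : ∃ (I : Over S) (a : I ⟶ U') (b : I ⟶ K), IsPullback a b u' k' :=
    ⟨_, _, _, IsPullback.of_hasPullback _ _⟩
  haveI hbc : IsClosedImmersion b.left := by
    haveI : IsClosedImmersion ((Over.forget S).map u') := ‹IsClosedImmersion u'.left›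
    exact MorphismProperty.of_isPullback (P := @IsClosedImmersion) (sq.map (Over.forget S)) ‹_›
  haveI : Mono b := Over.mono_of_mono_left b
  obtain ⟨_, hbm⟩ := MTBridge.exists_grpObj_of_div b
    ⟨sq.lift η[U'] η[K] (by rw [IsMonHom.one_hom, IsMonHom.one_hom]), IsPullback.lift_snd _ _ _ _⟩
    fun T k₁ k₂ => ⟨sq.lift ((k₁ ≫ a)⁻¹ * (k₂ ≫ a)) ((k₁ ≫ b)⁻¹ * (k₂ ≫ b)) (by
      simp only [MonObj.mul_comp, GrpObj.inv_comp, Category.assoc, sq.w]), IsPullback.lift_snd _ _ _ _⟩
  haveI := hbm
  have hbn : AlgGrp.IsNormalHom b := by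
    intro T g n
    obtain ⟨n', hn'⟩ := hU'.2.2.1 T (g ≫ k') (n ≫ a)
    refine ⟨sq.lift n' (g * (n ≫ b) * g⁻¹) ?_, (IsPullback.lift_snd _ _ _ _).symm⟩
    simp only [← hn', MonObj.mul_comp, GrpObj.inv_comp, Category.assoc, sq.w]
  have sqG : IsPullback a b (u' ≫ p') (m ≫ p) :=
    ⟨⟨by rw [← hk', reassoc_of% sq.w]⟩, ⟨PullbackCone.IsLimit.mk _
      (fun t => sq.lift t.fst t.snd (by
        rw [← cancel_mono p', Category.assoc, Category.assoc, hk', t.condition]))
      (fun t => IsPullback.lift_fst _ _ _ _) (fun t => IsPullback.lift_snd _ _ _ _)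
      fun t l h1 h2 => sq.hom_ext (by rw [h1, IsPullback.lift_fst]) (by rw [h2, IsPullback.lift_snd])⟩⟩
  choose W ψ r j lam mu hψ hs hj hp hq using fun s => exists_chart_pair hG p q hP hQ m m' hK.w s (hloc s)
  have key : ∀ s, Smooth (Red.bc (ψ s) I).hom ∧
      (∀ (F : Type u) [Field F] [IsAlgClosed F] (φ : Spec (CommRingCat.of F) ⟶ W s),
        ConnectedSpace (Red.bc φ (Red.bc (ψ s) I)).left ∧ Red.HasNoSubtorus F (Red.bc φ (Red.bc (ψ s) I))) ∧
      ∃ g, g ≫ (Over.pullback (ψ s)).map b = (Over.pullback (ψ s)).map v := fun s => by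
    let F := Over.pullback (ψ s)
    haveI : PreservesLimitsOfShape WalkingCospan F :=
      (Over.mapPullbackAdj (ψ s)).rightAdjoint_preservesLimits.preservesLimitsOfShape
    haveI := hj s; haveI := hψ s
    haveI : IsMonHom (Red.DSmap (W s) (lexPair (lam s) (mu s)) ≫ j s) :=
      isMonHom_comp' (Red.DSmap (W s) (lexPair (lam s) (mu s))) (j s)
    have hp' := isP_lex_chart hG p q hP m m' hK uU hU p' hP' f' hf' hsurj (ψ s) (j s) (lam s) (mu s) (hp s) (hq s)
    have hsq := sqG.map F
    rw [F.map_comp m p] at hsq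
    obtain ⟨h1, h2, h3⟩ := lex_inter_radical (DynPar.isReductive_bc (ψ s) hG) (hp s) (hq s) (hK.map F) hp'
      (isU_bc_radical hG p' hP' hU' (ψ s) _ hp') hsq
    refine ⟨h1, h2, h3 (F.obj UK) (F.map v) (MorphismProperty.overPullbackMap (P := @IsClosedImmersion) _ v hV.2.1)
      (SubGen.isNormalHom_pullback (ψ s) K v hV.2.2.1)
      (MorphismProperty.pullback_snd (P := @Smooth) _ _ hV.2.2.2.1) fun w => ?_⟩
    obtain ⟨φ, hφ, hφw⟩ := HenselChart.exists_lift_at (ψ s) (Red.geomPt (ψ s w)) (x := w)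
      (MTImage.geomPt_closedPoint _).symm
    obtain ⟨e', -, he''⟩ := MaxTorusBC.exists_trIso hφ UK
    haveI : IsMonHom e'.hom := he''
    obtain ⟨hc, hn⟩ := hV.2.2.2.2.2.1 (ψ s w)
    haveI := hc
    haveI : IsIso e'.hom.left := inferInstanceAs (IsIso ((Over.forget _).map e'.hom))
    exact ⟨_, inferInstance, inferInstance, φ, hφw, e'.hom.left.surjective.connectedSpace e'.hom.left.continuous,
      hasNoSubtorus_of_iso e' hn⟩
  haveI hIs : Smooth I.hom := smooth_of_cover hψ (fun s => ⟨s, hs s⟩) fun s => (key s).1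
  haveI : IsAffineHom P.hom := by rw [← Over.w p]; infer_instance
  haveI : IsAffineHom K.hom := by rw [← Over.w m]; infer_instance
  haveI : QuasiCompact I.hom := by rw [← Over.w b]; infer_instance
  obtain ⟨g, hg⟩ := hV.2.2.2.2.2.2 I b hbc hbn hIs inferInstance fun s => by
    haveI := hψ s
    obtain ⟨φ, hφ⟩ := BorelConj.exists_geom_lift (ψ s) (Red.geomPt s) (by rw [MTImage.geomPt_closedPoint]; exact hs s)
    obtain ⟨e', -, he''⟩ := MaxTorusBC.exists_trIso hφ I
    haveI : IsMonHom e'.hom := he''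
    haveI : IsMonHom e'.symm.hom := inferInstanceAs (IsMonHom e'.inv)
    obtain ⟨hc, hn⟩ := (key s).2.1 _ φ
    haveI := hc
    haveI : IsIso e'.inv.left := inferInstanceAs (IsIso ((Over.forget _).map e'.inv))
    exact ⟨e'.inv.left.surjective.connectedSpace e'.inv.left.continuous, hasNoSubtorus_of_iso e'.symm hn⟩
  obtain ⟨h, hh⟩ := exists_fac_of_cover (mem_fpqc_of_etale hψ fun s => ⟨s, hs s⟩) b v fun s => (key s).2.2
  let e : I ≅ UK := ⟨g, h, by rw [← cancel_mono b, Category.assoc, hh, hg, Category.id_comp],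
    by rw [← cancel_mono v, Category.assoc, hg, hh, Category.id_comp]⟩
  refine ⟨h ≫ a, sq.of_iso e (Iso.refl _) (Iso.refl _) (Iso.refl _) ?_ ?_ ?_ ?_⟩
  · rw [Iso.refl_hom, Category.comp_id, ← Category.assoc, show e.hom ≫ h = 𝟙 I from e.hom_inv_id, Category.id_comp]
  · rw [Iso.refl_hom, Category.comp_id]
    exact hg.symm
  · simp
  · simp

end Groth.Agent.ParStd
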