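import Groth.Agent.ParStd.LeviGlobal
import Groth.Agent.ParStd.Radical

/-!
# The contracted subgroup and the centralizer of a chart, restricted along a change of base
-/

set_option autoImplicit false
set_option linter.style.haveILetI false
set_option backward.isDefEq.respectTransparency false
set_option backward.isDefEq.respectTransparency.types false
set_option maxHeartbeats 2000000
set_option synthInstance.maxHeartbeats 400000

universe u

open CategoryTheory Limits MonoidalCategory CartesianMonoidalCategory MonObj AlgebraicGeometry LieS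
open scoped CategoryTheory.Obj

noncomputable section

namespace Groth.Agent.ParStd

open Groth.Agent.HomDiag Groth.Agent.DynPar Groth.Agent.MTBridge Groth.Agent.Chev

variable {S : Scheme.{u}} {G P : Over S} [GrpObj G] [GrpObj P]

/-- Two cocharacters with the same `P` have the same contracted subgroup. -/
theorem inF_UFam_of_isP (hG : Red.IsReductive G) {c₁ c₂ : Red.DS S ℤ ⟶ G} [IsMonHom c₁] [IsMonHom c₂] {p : P ⟶ G}
    (h₁ : IsP c₁ p) (h₂ : IsP c₂ p) {X : Over S} (g : X ⟶ G) (hg : InF (UFam c₁) g) : InF (UFam c₂) g := by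
  haveI := hG.1; haveI := hG.2.1
  obtain ⟨U₁, _, u₁, hu₁⟩ := exists_isU (G := G) c₁
  obtain ⟨U₂, _, u₂, hu₂⟩ := exists_isU (G := G) c₂
  obtain ⟨Z₁, _, z₁, hz₁, -, -⟩ := exists_centralizer_DS hG.2.1 hG.1 c₁
  obtain ⟨Z₂, _, z₂, hz₂, -, -⟩ := exists_centralizer_DS hG.2.1 hG.1 c₂
  obtain ⟨d₁⟩ := exists_leviData h₁ hu₁ hz₁
  obtain ⟨d₂⟩ := exists_leviData h₂ hu₂ hz₂
  obtain ⟨e, he⟩ := exists_iso_radical (isUnipotentRadical_iu hG h₁ hz₁ hu₁ d₁)
    (isUnipotentRadical_iu hG h₂ hz₂ hu₂ d₂)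
  obtain ⟨y, rfl⟩ := (hu₁.2.2 X g).2 hg
  refine (hu₂.2.2 X _).1 ⟨y ≫ e.hom, ?_⟩
  rw [← d₁.iu_p, ← d₂.iu_p, ← he]
  simp only [Category.assoc]

/-- Two commuting cocharacters with the same `P` have the same centralizer. -/
theorem inF_ZFam_of_isP (hG : Red.IsReductive G) {c₁ c₂ : Red.DS S ℤ ⟶ G} [IsMonHom c₁] [IsMonHom c₂] {p : P ⟶ G}
    (h₁ : IsP c₁ p) (h₂ : IsP c₂ p)
    (hcomm : ∀ (X : Over S) (x y : X ⟶ Red.DS S ℤ), (x ≫ c₁) * (y ≫ c₂) = (y ≫ c₂) * (x ≫ c₁))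
    {X : Over S} (g : X ⟶ G) (hg : InF (ZFam c₁) g) : InF (ZFam c₂) g := by
  haveI := hG.1; haveI := hG.2.1
  obtain ⟨Z₁, _, z₁, hz₁, hz₁c, -⟩ := exists_centralizer_DS hG.2.1 hG.1 c₁
  obtain ⟨Z₂, _, z₂, hz₂, -, -⟩ := exists_centralizer_DS hG.2.1 hG.1 c₂
  obtain ⟨-, zP, hzP, hlevi⟩ := isParabolic_isLevi hG h₁ hz₁
  haveI := hz₁c; haveI := hz₁.1; haveI : Mono z₁ := hz₁.2.1
  obtain ⟨c', hc'⟩ := (hz₁.2.2 _ c₂).2 fun X' x h => (hcomm X' h x).symm
  haveI : IsMonHom c' := MTSplit.isMonHom_of_comp_mono c' z₁ c₂ hc'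
  obtain ⟨m, hm⟩ := exists_fac_centralizer hlevi.2.2.1 h₂ z₁ c' hc' ⟨zP, hzP⟩ hz₂
  obtain ⟨y, rfl⟩ := (hz₁.2.2 X g).2 ((inF_ZFam_iff (c := c₁) g).1 hg)
  exact (inF_ZFam_iff (c := c₂) _).2 ((hz₂.2.2 X _).1 ⟨y ≫ m, by rw [Category.assoc, hm]⟩)

section Restrict

variable {S' W : Scheme.{u}} {f : S' ⟶ S} {a : W ⟶ S'} {ψ : W ⟶ S} (e : Red.bc ψ G ≅ Red.bc a (Red.bc f G))
  (c : Red.DS S' ℤ ⟶ Red.bc f G)

/-- The restriction of a cocharacter. -/
def cW : Red.DS W ℤ ⟶ Red.bc ψ G := bcHom' a c ≫ e.inv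

theorem isMonHom_cW [IsMonHom c] [IsMonHom e.hom] : IsMonHom (cW e c) := by
  haveI : IsMonHom e.symm.hom := inferInstanceAs (IsMonHom e.inv)
  haveI : IsMonHom (bcHom' a c) := isMonHom_bcHom' a c
  exact isMonHom_comp' (bcHom' a c) e.symm.hom

variable [IsMonHom e.hom]

theorem inF_UFam_restrict {X : Over W} (g : X ⟶ Red.bc ψ G) :
    InF (UFam (cW e c)) g ↔ InF (UFam c) (fromB a (g ≫ e.hom)) := by
  rw [← inF_fromB a (K := UFam c) (K' := UFam (bcHom' a c)) (fun B _ fa fb h b => mem_USub_down a h c)]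
  haveI : IsMonHom e.symm.hom := inferInstanceAs (IsMonHom e.inv)
  constructor
  · intro h B _ fB y
    have h1 := comp_mem_USub fB (cW e c) e.hom (h B fB y)
    rw [cW, Category.assoc, Iso.inv_hom_id, Category.comp_id, Category.assoc] at h1
    exact h1
  · intro h B _ fB y
    have h1 := comp_mem_USub fB (bcHom' a c) e.symm.hom (h B fB y)
    rw [Category.assoc y, Iso.symm_hom, Category.assoc g, Iso.hom_inv_id, Category.comp_id] at h1
    exact h1

theorem inF_ZFam_restrict {X : Over W} (g : X ⟶ Red.bc ψ G) :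
    InF (ZFam (cW e c)) g ↔ InF (ZFam c) (fromB a (g ≫ e.hom)) := by
  rw [← inF_fromB a (K := ZFam c) (K' := ZFam (bcHom' a c)) (fun B _ fa fb h b => mem_ZSub_down a h c)]
  haveI : IsMonHom e.symm.hom := inferInstanceAs (IsMonHom e.inv)
  constructor
  · intro h B _ fB y
    have h1 : y ≫ g ∈ ZSub fB (cW e c) := h B fB y
    show y ≫ g ≫ e.hom ∈ ZSub fB (bcHom' a c)
    rw [mem_ZSub] at h1 ⊢
    have h2 := orb_comp (f := fB) (c := cW e c) e.hom (g := y ≫ g)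
    rw [h1, cW, Category.assoc, Iso.inv_hom_id, Category.comp_id, Category.assoc] at h2
    rw [h2]
    simp only [Category.assoc]
  · intro h B _ fB y
    have h1 : y ≫ g ≫ e.hom ∈ ZSub fB (bcHom' a c) := h B fB y
    show y ≫ g ∈ ZSub fB (cW e c)
    rw [mem_ZSub] at h1 ⊢
    have h2 := orb_comp (f := fB) (c := bcHom' a c) e.symm.hom (g := y ≫ g ≫ e.hom)
    rw [h1, Iso.symm_hom] at h2
    simp only [Category.assoc, Iso.hom_inv_id, Category.comp_id] at h2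
    exact h2

omit [IsMonHom e.hom] in
/-- A point of the closed subscheme on the chart, seen on the restriction. -/
theorem exists_fac_iff_restrict
    {Z : Over S'} (k : Z ⟶ Red.bc f G) {Q : ∀ {X : Over S'}, (X ⟶ Red.bc f G) → Prop}
    (hk : ∀ (X : Over S') (g : X ⟶ Red.bc f G), (∃ z, z ≫ k = g) ↔ Q g) (w : W ⟶ (Red.bc f G).left)
    (ω : Over.mk (𝟙 W) ⟶ Red.bc ψ G)
    (h1 : (ω ≫ e.hom).left ≫ pullback.fst (Red.bc f G).hom a = w) :
    (∃ z, z ≫ k.left = w) ↔ Q (fromB a (ω ≫ e.hom)) := by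
  rw [← hk]
  have h2 : (fromB a (ω ≫ e.hom)).left = w := by rw [fromB_left]; exact h1
  constructor
  · rintro ⟨z, hz⟩
    refine ⟨Over.homMk z ?_, Over.OverMorphism.ext (hz.trans h2.symm)⟩
    show z ≫ Z.hom = _
    rw [← Over.w k, reassoc_of% hz, ← h2, Over.w (fromB a (ω ≫ e.hom))]
  · rintro ⟨z, hz⟩
    exact ⟨z.left, (congrArg CommaMorphism.left hz).trans h2⟩

end Restrict

end Groth.Agent.ParStd
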